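import Cfsg.Agent.Z2S6.Main
import Mathlib.GroupTheory.Perm.Basic
import Mathlib.Data.Fintype.Perm

/-!
# `ℤ/2 × S₆` and `ℤ/2 × S₇` provide the data
-/

set_option autoImplicit false
set_option linter.unusedSectionVars false
set_option linter.style.haveILetI false

open Subgroup

namespace CfsgLib.Z2S6

/-- `(02)`. -/
def pX : Equiv.Perm (Fin 6) := Equiv.swap 0 2
/-- `(01)(23)`. -/
def pY : Equiv.Perm (Fin 6) := Equiv.swap 0 1 * Equiv.swap 2 3
/-- `(45)`. -/
def pr : Equiv.Perm (Fin 6) := Equiv.swap 4 5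
/-- Cycles the pairs `02`, `13`, `45`. -/
def pρ : Equiv.Perm (Fin 6) := ⟨![4, 0, 5, 2, 1, 3], ![1, 4, 3, 5, 0, 2], by decide, by decide⟩
/-- `(123)`. -/
def pρ' : Equiv.Perm (Fin 6) := ⟨![0, 2, 3, 1, 4, 5], ![0, 3, 1, 2, 4, 5], by decide, by decide⟩

/-- The permutation part of the coordinates. -/
def pw (u : TT) : Equiv.Perm (Fin 6) := word 1 pX pY pr u

theorem pw_ker : ∀ u : TT, pw u = 1 → u = 1 ∨ u = TT.t := by decide +kernel

set_option synthInstance.maxSize 100000 in
theorem six_normT : ∀ p : Equiv.Perm (Fin 6),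
    (∀ u ∈ [TT.X, TT.Y, TT.r], ∃ v : TT, p⁻¹ * pw u * p = pw v) → ∃ v : TT, p = pw v := by
  decide +kernel

set_option synthInstance.maxSize 100000 in
theorem six_normA : ∀ p : Equiv.Perm (Fin 6),
    (∀ u ∈ [TT.X, TT.z, TT.r], ∃ v : TT, v.b = false ∧ p⁻¹ * pw u * p = pw v) →
      ∃ v : TT, ∃ k < 3, p = pw v * pρ ^ k := by
  decide +kernel

set_option synthInstance.maxSize 100000 in
theorem six_normA' : ∀ p : Equiv.Perm (Fin 6),
    (∀ u ∈ [TT.Y, TT.z, TT.r], ∃ v : TT, v.a = false ∧ p⁻¹ * pw u * p = pw v) →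
      ∃ v : TT, ∃ k < 3, p = pw v * pρ' ^ k := by
  decide +kernel

/-- A faithful model of the permutation part. -/
structure Model (P : Type*) [Group P] where
  e : Equiv.Perm (Fin 6) →* P
  e_inj : Function.Injective e
  reduce : ∀ p : P, (∃ s, p⁻¹ * e (pw TT.r) * p = e s) → (∃ s, p⁻¹ * e (pw TT.z) * p = e s) →
    ∃ q, p = e q
  center : ∀ p : P, (∀ q, p * q = q * p) → p = 1
  card : ∃ m, Odd m ∧ Nat.card P = 16 * m

variable {G : Type*} [Group G] {P : Type*} [Group P]

theorem bpow_map {H K : Type*} [Group H] [Group K] (f : H →* K) (x : H) (b : Bool) :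
    f (bpow x b) = bpow (f x) b := by
  cases b <;> simp

/-- The setup of an involution with centralizer `ℤ/2 × P`. -/
theorem exists_setup (M : Model P) (t : G) (ht : orderOf t = 2)
    (φ : centralizer ({t} : Set G) ≃* Multiplicative (ZMod 2) × P) : Nonempty (Setup G) := by
  obtain ⟨m, hm, hcardP⟩ := M.card
  set C := centralizer ({t} : Set G) with hCdef
  set ε : Multiplicative (ZMod 2) := Multiplicative.ofAdd 1 with hε
  have hε2 : ε * ε = 1 := by decide
  let f : Multiplicative (ZMod 2) × P →* G := C.subtype.comp φ.symm.toMonoidHom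
  have hf : Function.Injective f := C.subtype_injective.comp φ.symm.injective
  have hrange : ∀ g : G, g * t = t * g → ∃ h, f h = g := by
    intro g hg
    refine ⟨φ ⟨g, mem_centralizer_singleton_iff.mpr hg⟩, ?_⟩
    simp [f]
  -- the image of `t`
  have htC : t ∈ C := mem_centralizer_singleton_iff.mpr rfl
  have hft : f (ε, 1) = t := by
    have h1 : φ ⟨t, htC⟩ = (ε, 1) := by
      set h := φ ⟨t, htC⟩ with hh
      have hc : ∀ q, h * q = q * h := by
        intro q
        rw [← φ.apply_symm_apply q, hh, ← map_mul, ← map_mul]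
        congr 1
        exact Subtype.ext (mem_centralizer_singleton_iff.mp (φ.symm q).2).symm
      have h2 : h.2 = 1 := M.center _ fun q => congrArg Prod.snd (hc (1, q))
      have hne : h.1 ≠ 1 := by
        intro h1
        have : h = 1 := Prod.ext h1 h2
        rw [hh, map_eq_one_iff φ φ.injective] at this
        have ht1 : t = 1 := congrArg Subtype.val this
        rw [ht1, orderOf_one] at ht
        norm_num at ht
      have : ∀ x : Multiplicative (ZMod 2), x ≠ 1 → x = ε := by decide
      exact Prod.ext (this _ hne) h2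
    rw [← h1]
    simp [f]
  -- the relations in `ℤ/2 × P`
  have hrel6 : TRel ((ε, 1) : Multiplicative (ZMod 2) × Equiv.Perm (Fin 6)) (1, pX) (1, pY)
      (1, pr) := by
    constructor <;> decide
  let e2 : Multiplicative (ZMod 2) × Equiv.Perm (Fin 6) →* G :=
    f.comp ((MonoidHom.id _).prodMap M.e)
  have he2 : Function.Injective e2 := fun a b h => by
    have h' := hf h
    have h1 : a.1 = b.1 := congrArg (fun x : Multiplicative (ZMod 2) × P => x.1) h'
    have h2 : M.e a.2 = M.e b.2 := congrArg (fun x : Multiplicative (ZMod 2) × P => x.2) h'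
    exact Prod.ext h1 (M.e_inj h2)
  have he2t : e2 (ε, 1) = t := by simp [e2, hft]
  have rel : TRel t (e2 (1, pX)) (e2 (1, pY)) (e2 (1, pr)) := by
    obtain ⟨h1, h2, h3, h4, h5, h6, h7, h8, h9, h10⟩ := hrel6
    rw [← he2t]
    constructor <;> simp only [← map_mul, h1, h2, h3, h4, h5, h6, h7, h8, h9, h10, map_one]
  have hhom : ∀ u : TT, rel.hom u = e2 (bpow ε u.e, pw u) := by
    intro u
    rw [TRel.hom_apply, ← he2t, ← map_word]
    congr 1
    obtain ⟨e, a, b, c, d⟩ := u
    cases e <;> cases a <;> cases b <;> cases c <;> cases d <;> decide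
  have hinj : Function.Injective rel.hom := by
    rw [injective_iff_map_eq_one]
    intro u hu
    rw [hhom] at hu
    have h := he2 (hu.trans (map_one e2).symm)
    rcases pw_ker u (congrArg Prod.snd h) with rfl | rfl
    · rfl
    · exact absurd (congrArg Prod.fst h) (by decide)
  have hcard : Nat.card C = 32 * m := by
    rw [Nat.card_congr φ.toEquiv, Nat.card_prod, hcardP, Nat.card_eq_fintype_card]
    simp
    ring
  -- normalisers
  have lift : ∀ g, g * t = t * g → ∀ (L : List TT), TT.r ∈ L → TT.z ∈ L →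
      (∀ u ∈ L, u.e = false) → ∀ (Q : TT → Prop),
      (∀ u ∈ L, ∃ v, Q v ∧ cj g (rel.hom u) = rel.hom v) →
      ∃ i q, g = e2 (i, q) ∧ ∀ u ∈ L, ∃ v, Q v ∧ q⁻¹ * pw u * q = pw v := by
    intro g hg L hr hz he Q hL
    obtain ⟨⟨i, p⟩, rfl⟩ := hrange g hg
    have hp : ∀ u ∈ L, ∃ v, Q v ∧ p⁻¹ * M.e (pw u) * p = M.e (pw v) := by
      intro u hu
      obtain ⟨v, hv, e⟩ := hL u hu
      refine ⟨v, hv, ?_⟩
      rw [hhom, hhom] at e
      have e' : f ((i, p)⁻¹ * (bpow ε u.e, M.e (pw u)) * (i, p)) =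
          f (bpow ε v.e, M.e (pw v)) := by
        rw [map_mul, map_mul, map_inv]
        exact e
      exact congrArg Prod.snd (hf e')
    obtain ⟨vr, -, hvr⟩ := hp _ hr
    obtain ⟨vz, -, hvz⟩ := hp _ hz
    obtain ⟨q, rfl⟩ := M.reduce p ⟨_, hvr⟩ ⟨_, hvz⟩
    refine ⟨i, q, rfl, fun u hu => ?_⟩
    obtain ⟨v, hv, e⟩ := hp u hu
    refine ⟨v, hv, M.e_inj ?_⟩
    rw [map_mul, map_mul, map_inv, e]
  have fin : ∀ (i : Multiplicative (ZMod 2)) (v : TT) (ρ : Equiv.Perm (Fin 6)) (k : ℕ),
      ∃ u : TT, e2 (i, pw v * ρ ^ k) = rel.hom u * e2 (1, ρ) ^ k := by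
    intro i v ρ k
    refine ⟨(bif decide (i = bpow ε v.e) then 1 else TT.t) * v, ?_⟩
    rw [← map_pow, hhom, ← map_mul]
    congr 1
    refine Prod.ext ?_ ?_
    · simp only [Prod.pow_mk, one_pow, Prod.mk_mul_mk, mul_one]
      exact ((by decide +kernel : ∀ (i : Multiplicative (ZMod 2)) (v : TT),
        bpow (Multiplicative.ofAdd 1) ((bif decide (i = bpow (Multiplicative.ofAdd 1) v.e)
          then 1 else TT.t) * v).e = i) i v).symm
    · simp only [Prod.pow_mk, Prod.mk_mul_mk]
      congr 1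
      exact ((by decide +kernel : ∀ (s : Bool) (v : TT),
        pw ((bif s then 1 else TT.t) * v) = pw v) _ v).symm
  have hρ : ∀ (q : Equiv.Perm (Fin 6)) (a b : Equiv.Perm (Fin 6)), q⁻¹ * a * q = b →
      cj (e2 (1, q)) (e2 (1, a)) = e2 (1, b) := by
    intro q a b h
    rw [cj, ← map_inv, ← map_mul, ← map_mul, ← h]
    simp
  have hρt : ∀ q : Equiv.Perm (Fin 6), cj (e2 (1, q)) t = t := by
    intro q
    rw [← he2t, cj, ← map_inv, ← map_mul, ← map_mul]
    simp
  refine ⟨{
    t := t, X := e2 (1, pX), Y := e2 (1, pY), r := e2 (1, pr), rel := rel, inj := hinj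
    ρ := e2 (1, pρ), ρ' := e2 (1, pρ')
    ρ_t := hρt _, ρ'_t := hρt _
    ρ_X := by rw [← map_mul, ← map_mul, ← map_mul]; exact hρ _ _ _ (by decide +kernel)
    ρ_Xz := by rw [← map_mul, ← map_mul, ← map_mul]; exact hρ _ _ _ (by decide +kernel)
    ρ_r := hρ _ _ _ (by decide +kernel)
    ρ'_X := by simp only [← map_mul]; exact hρ _ _ _ (by decide +kernel)
    ρ'_Xz := by simp only [← map_mul]; exact hρ _ _ _ (by decide +kernel)
    ρ'_r := by simp only [← map_mul]; exact hρ _ _ _ (by decide +kernel)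
    card_C := ⟨m, hm, hcard⟩
    normT := ?_, normA := ?_, normA' := ?_ }⟩
  · intro g hg h
    obtain ⟨i, q, rfl, hq⟩ := lift g hg [TT.X, TT.Y, TT.r, TT.z] (by simp) (by simp)
      (by decide) (fun _ => True)
      (fun u _ => by obtain ⟨v, hv⟩ := h u; exact ⟨v, trivial, hv.symm⟩)
    obtain ⟨v, rfl⟩ := six_normT q fun u hu => by
      obtain ⟨v, -, e⟩ := hq u (by
        simp only [List.mem_cons, List.not_mem_nil, or_false] at hu ⊢
        tauto)
      exact ⟨v, e⟩
    obtain ⟨u, hu⟩ := fin i v 1 0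
    rw [pow_zero, mul_one, pow_zero, mul_one] at hu
    exact ⟨u, hu.symm⟩
  · intro g hg h
    obtain ⟨i, q, rfl, hq⟩ := lift g hg [TT.X, TT.z, TT.r] (by simp) (by simp)
      (by decide) (fun v => v.b = false)
      (fun u hu => h u ((by decide : ∀ u ∈ [TT.X, TT.z, TT.r], u.b = false) u hu))
    obtain ⟨v, k, hk, rfl⟩ := six_normA q hq
    obtain ⟨u, hu⟩ := fin i v pρ k
    exact ⟨u, k, hk, hu⟩
  · intro g hg h
    obtain ⟨i, q, rfl, hq⟩ := lift g hg [TT.Y, TT.z, TT.r] (by simp) (by simp)
      (by decide) (fun v => v.a = false)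
      (fun u hu => h u ((by decide : ∀ u ∈ [TT.Y, TT.z, TT.r], u.a = false) u hu))
    obtain ⟨v, k, hk, rfl⟩ := six_normA' q hq
    obtain ⟨u, hu⟩ := fin i v pρ' k
    exact ⟨u, k, hk, hu⟩

theorem center_six : ∀ p : Equiv.Perm (Fin 6),
    p * Equiv.swap 0 1 = Equiv.swap 0 1 * p → p * Equiv.swap 1 2 = Equiv.swap 1 2 * p →
    p * Equiv.swap 2 3 = Equiv.swap 2 3 * p → p * Equiv.swap 3 4 = Equiv.swap 3 4 * p →
    p * Equiv.swap 4 5 = Equiv.swap 4 5 * p → p = 1 := by
  decide +kernel

/-- The model for `S₆`. -/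
def modelSix : Model (Equiv.Perm (Fin 6)) where
  e := MonoidHom.id _
  e_inj := Function.injective_id
  reduce p _ _ := ⟨p, rfl⟩
  center p h := center_six p (h _) (h _) (h _) (h _) (h _)
  card := ⟨45, by decide, by rw [Nat.card_perm, Nat.card_fin]; decide⟩

/-- The map extended to fix the last point. -/
def extMap (f : Fin 6 → Fin 6) : Fin 7 → Fin 7 :=
  Fin.lastCases (Fin.last 6) fun i => (f i).castSucc

theorem extMap_last (f : Fin 6 → Fin 6) : extMap f (Fin.last 6) = Fin.last 6 :=
  Fin.lastCases_last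

theorem extMap_castSucc (f : Fin 6 → Fin 6) (i : Fin 6) : extMap f i.castSucc = (f i).castSucc :=
  Fin.lastCases_castSucc i

/-- The extension of a permutation fixing the last point. -/
def extFun (p : Equiv.Perm (Fin 6)) : Equiv.Perm (Fin 7) where
  toFun := extMap p
  invFun := extMap p.symm
  left_inv x := by
    induction x using Fin.lastCases with
    | last => rw [extMap_last, extMap_last]
    | cast i => rw [extMap_castSucc, extMap_castSucc, p.symm_apply_apply]
  right_inv x := by
    induction x using Fin.lastCases with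
    | last => rw [extMap_last, extMap_last]
    | cast i => rw [extMap_castSucc, extMap_castSucc, p.apply_symm_apply]

/-- `S₆` inside `S₇`. -/
def ext7 : Equiv.Perm (Fin 6) →* Equiv.Perm (Fin 7) :=
  MonoidHom.mk' extFun fun p q => Equiv.ext fun x => by
    show extMap (p * q : Equiv.Perm (Fin 6)) x = extMap p (extMap q x)
    induction x using Fin.lastCases with
    | last => rw [extMap_last, extMap_last, extMap_last]
    | cast i => rw [extMap_castSucc, extMap_castSucc, extMap_castSucc, Equiv.Perm.mul_apply]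

theorem ext7_castSucc (p : Equiv.Perm (Fin 6)) (i : Fin 6) :
    ext7 p i.castSucc = (p i).castSucc := extMap_castSucc p i

theorem ext7_last (p : Equiv.Perm (Fin 6)) : ext7 p (Fin.last 6) = Fin.last 6 := extMap_last p

theorem mem_ext7 {p : Equiv.Perm (Fin 7)} (h : p (Fin.last 6) = Fin.last 6) :
    ∃ q, p = ext7 q := by
  have hne : ∀ i : Fin 6, p i.castSucc ≠ Fin.last 6 := fun i e =>
    (Fin.castSucc_lt_last i).ne (p.injective (e.trans h.symm))
  let f : Fin 6 → Fin 6 := fun i => (p i.castSucc).castPred (hne i)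
  have hf : Function.Injective f := fun a b hab => by
    have := congrArg Fin.castSucc hab
    simpa [f, Fin.castSucc_castPred] using this
  refine ⟨Equiv.ofBijective f (Finite.injective_iff_bijective.mp hf), Equiv.ext fun x => ?_⟩
  induction x using Fin.lastCases with
  | last => rw [ext7_last, h]
  | cast i => rw [ext7_castSucc]; simp [f, Fin.castSucc_castPred]

theorem fix_seven : ∀ x : Fin 7, ext7 (pw TT.r) x = x → ext7 (pw TT.z) x = x → x = Fin.last 6 := by
  decide +kernel

theorem swap_ext_fix : ∀ x : Fin 7, (∀ i : Fin 6, Equiv.swap i.castSucc (Fin.last 6) x = x) →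
    False := by
  decide +kernel

/-- The model for `S₇`. -/
def modelSeven : Model (Equiv.Perm (Fin 7)) where
  e := ext7
  e_inj p q h := Equiv.ext fun i => Fin.castSucc_injective 6 (by
    rw [← ext7_castSucc, ← ext7_castSucc, h])
  reduce p hr hz := by
    refine mem_ext7 (fix_seven _ ?_ ?_)
    · obtain ⟨s, hs⟩ := hr
      have h := congrArg (fun σ : Equiv.Perm (Fin 7) => p (σ (Fin.last 6))) hs
      simpa [ext7_last, -Fin.reduceLast] using h
    · obtain ⟨s, hs⟩ := hz
      have h := congrArg (fun σ : Equiv.Perm (Fin 7) => p (σ (Fin.last 6))) hs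
      simpa [ext7_last, -Fin.reduceLast] using h
  center p h := by
    have hfix : p (Fin.last 6) = Fin.last 6 := by
      refine fix_seven _ ?_ ?_
      · have := congrArg (fun σ : Equiv.Perm (Fin 7) => σ (Fin.last 6)) (h (ext7 (pw TT.r)))
        simpa [ext7_last, -Fin.reduceLast] using this.symm
      · have := congrArg (fun σ : Equiv.Perm (Fin 7) => σ (Fin.last 6)) (h (ext7 (pw TT.z)))
        simpa [ext7_last, -Fin.reduceLast] using this.symm
    obtain ⟨q, rfl⟩ := mem_ext7 hfix
    have hq : q = 1 := by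
      refine center_six q ?_ ?_ ?_ ?_ ?_ <;>
        exact (fun (e : Function.Injective ext7) h => e (by rw [map_mul, map_mul]; exact h))
          (fun a b hab => Equiv.ext fun i => Fin.castSucc_injective 6 (by
            rw [← ext7_castSucc, ← ext7_castSucc, hab])) (h _)
    rw [hq, map_one]
  card := ⟨315, by decide, by rw [Nat.card_perm, Nat.card_fin]; decide⟩

end CfsgLib.Z2S6
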