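import Cfsg.Agent.Z2S6.Normal

/-!
# In the pattern with four central conjugates all of `N(T)` is good
-/

set_option autoImplicit false
set_option linter.unusedSectionVars false
set_option linter.style.haveILetI false

open Subgroup

namespace CfsgLib.Z2S6

namespace Setup

variable {G : Type*} [Group G] [Finite G] {S : Setup G}

/-- The image of the elements of `T` with `e = 0`, in `N(T)`. -/
def PN (S : Setup G) : Subgroup S.N := (PT.map S.j).subgroupOf S.N

theorem mem_PN {g : S.N} : g ∈ PN S ↔ ∃ u : TT, u.e = false ∧ S.j u = (g : G) := Iff.rfl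

theorem PN_le {g : S.N} (h : g ∈ PN S) : (g : G) ∈ S.T :=
  let ⟨u, _, hu⟩ := mem_PN.mp h; ⟨u, hu⟩

theorem PN_normal (hp : S.IsPatFour) : (PN S).Normal := by
  refine ⟨fun x hx g => ?_⟩
  obtain ⟨u, he, hu⟩ := mem_PN.mp hx
  refine mem_PN.mpr ⟨S.act g⁻¹ u, act_e_four hp _ he, ?_⟩
  rw [j_act, hu]
  unfold cj
  simp

theorem card_PN : Nat.card (PN S) = 16 := by
  rw [PN, Nat.card_congr (Subgroup.subgroupOfEquivOfLe
    (show PT.map S.j ≤ S.N by rintro _ ⟨u, -, rfl⟩; exact S.T_le_N (S.j_mem u))).toEquiv,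
    ← Nat.card_congr (Subgroup.equivMapOfInjective PT S.j S.j_inj).toEquiv,
    show Nat.card PT = {u : TT | (!u.e) = true}.ncard from by
      rw [← Nat.card_coe_set_eq]
      exact Nat.card_congr (Equiv.subtypeEquivRight fun u => by
        show u.e = false ↔ (!u.e) = true
        simp), ← countP_eq_ncard]
  decide +kernel

theorem quot_comm (hp : S.IsPatFour) : ∀ [(PN S).Normal], ∀ a b : S.N ⧸ PN S, a * b = b * a := by
  intro _
  haveI : Fact (Nat.Prime 2) := ⟨Nat.prime_two⟩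
  let T' : Subgroup S.N := S.T.subgroupOf S.N
  haveI : T'.Normal := Subgroup.normal_in_normalizer
  have hQ : Nat.card (S.N ⧸ T') = 4 := by
    have := T'.index_mul_card
    rw [Nat.card_congr (Subgroup.subgroupOfEquivOfLe S.T_le_N).toEquiv, S.card_T, card_N_four hp,
      index_eq_card] at this
    omega
  by_cases hsq : ∀ g : S.N, ((g * g : S.N) : G) ∈ S.T
  · -- exponent two
    have h2 : ∀ a : S.N ⧸ PN S, a * a = 1 := by
      intro a
      induction a using QuotientGroup.induction_on with | _ g => ?_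
      obtain ⟨u, hu⟩ := hsq g
      rw [← QuotientGroup.mk_mul, QuotientGroup.eq_one_iff]
      exact mem_PN.mpr ⟨u, sq_e hp g hu, hu⟩
    intro a b
    have hi : ∀ a : S.N ⧸ PN S, a⁻¹ = a := fun a => inv_eq_of_mul_eq_one_right (h2 a)
    rw [← hi (a * b), mul_inv_rev, hi, hi]
  · push Not at hsq
    obtain ⟨g, hg⟩ := hsq
    have hord : orderOf (QuotientGroup.mk' T' g) = 4 := by
      rw [show (4 : ℕ) = 2 ^ (1 + 1) by rfl]
      refine orderOf_eq_prime_pow ?_ ?_
      · rw [pow_one, pow_two, ← map_mul]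
        exact fun h => hg (mem_subgroupOf.mp ((QuotientGroup.eq_one_iff _).mp h))
      · rw [show (2 : ℕ) ^ (1 + 1) = Nat.card (S.N ⧸ T') by rw [hQ]; rfl]
        exact pow_card_eq_one'
    haveI : IsCyclic (S.N ⧸ T') := isCyclic_of_orderOf_eq_card _ (hord.trans hQ.symm)
    have hle : PN S ≤ T' := fun x hx => mem_subgroupOf.mpr (PN_le hx)
    let f : S.N ⧸ PN S →* S.N ⧸ T' := QuotientGroup.map _ _ (MonoidHom.id _) hle
    intro a b
    refine (f.isMulCommutative_of_isCyclic_of_ker_le_center ?_).is_comm.comm a b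
    intro x hx
    induction x using QuotientGroup.induction_on with | _ v => ?_
    have hv : (v : G) ∈ S.T := mem_subgroupOf.mp ((QuotientGroup.eq_one_iff _).mp hx)
    obtain ⟨u, hu⟩ := hv
    have hveq : v = ⟨S.j u, S.T_le_N (S.j_mem u)⟩ := Subtype.ext hu.symm
    rw [Subgroup.mem_center_iff]
    intro y
    induction y using QuotientGroup.induction_on with | _ w => ?_
    rw [← QuotientGroup.mk_mul, ← QuotientGroup.mk_mul, QuotientGroup.eq]
    refine mem_PN.mpr ⟨u⁻¹ * S.act w⁻¹⁻¹ u, ?_, ?_⟩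
    · rw [inv_inv]
      by_cases he : u.e = false
      · show xor u.e (S.act w u).e = false
        rw [he, act_e_four hp w he]; rfl
      · have h : (S.act w (TT.t * u)).e = false := act_e_four hp w (by
          show xor true u.e = false
          simp only [Bool.not_eq_false] at he
          rw [he]; rfl)
        obtain ⟨hpw, -, -, -, -, -⟩ := act_params hp w
        have ht : (S.act w TT.t).e = true := (by decide : ∀ p ∈ pList, p.e = true) _ hpw
        rw [S.act_mul] at h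
        show xor u.e (S.act w u).e = false
        have h' : xor (S.act w TT.t).e (S.act w u).e = false := h
        rw [ht] at h'
        simp only [Bool.not_eq_false] at he
        rw [he]; exact h'
    · rw [inv_inv, map_mul, map_inv, j_act, hveq]
      simp [cj, mul_assoc]

/-- The conjugates of `t` outside `T` with centralizer of order `32` in `N(T)`. -/
def Ext (S : Setup G) : Set G := {y | y ∈ S.outer ∧ Nat.card (centIn S.N y) = 32}

theorem eight_dvd_nonext (hp : S.IsPatFour) {s : Set G} (hs : s ⊆ S.outer)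
    (hinv : ∀ h ∈ S.N, ∀ y ∈ s, cj h y ∈ s) : 8 ∣ (s \ Ext S).ncard := by
  haveI : Fact (Nat.Prime 2) := ⟨Nat.prime_two⟩
  have hN := isPGroup_N_four hp
  refine dvd_ncard_of_small hN (e := 4) (by rw [card_N_four hp]; rfl) _ ?_ ?_
  · rintro h hh y ⟨hy, hyE⟩
    refine ⟨hinv h hh y hy, fun hE => hyE ⟨hs hy, ?_⟩⟩
    rw [← hE.2]
    refine Nat.card_congr
      { toFun := fun x => ⟨cj h x.1, ?_⟩
        invFun := fun x => ⟨cj h⁻¹ x.1, ?_⟩
        left_inv := fun x => Subtype.ext (cj_inv_cancel _ _)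
        right_inv := fun x => Subtype.ext (cj_cancel_inv _ _) }
    · obtain ⟨h1, h2⟩ := mem_centIn.mp x.2
      refine mem_centIn.mpr ⟨mul_mem (mul_mem (inv_mem hh) h1) hh, ?_⟩
      rw [← cj_mul, ← cj_mul, h2]
    · obtain ⟨h1, h2⟩ := mem_centIn.mp x.2
      refine mem_centIn.mpr ⟨mul_mem (mul_mem (inv_mem (inv_mem hh)) h1) (inv_mem hh), ?_⟩
      have e := congrArg (cj h⁻¹) h2
      rwa [cj_mul, cj_mul, cj_inv_cancel] at e
  · rintro y ⟨hy, hyE⟩
    obtain ⟨i, hi⟩ := IsPGroup.iff_card.mp (hN.to_le (inf_le_left : centIn S.N y ≤ S.N))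
    change Nat.card (centIn S.N y) = 2 ^ i at hi
    have h32 := (S.centIn_bound hN (hs hy).1).1
    rw [hi] at h32 ⊢
    have h5 : i ≤ 5 := (Nat.pow_le_pow_iff_right (le_refl 2)).mp h32
    rcases Nat.lt_or_eq_of_le h5 with h | h
    · exact Nat.pow_le_pow_right (by norm_num) (by omega)
    · exact absurd ⟨hs hy, by rw [hi, h]; rfl⟩ hyE

theorem all_good (hno : ∀ K : Subgroup G, K.index ≠ 2) (hp : S.IsPatFour) :
    ∀ g : S.N, Good g := by
  classical
  by_contra hbad
  push Not at hbad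
  haveI : Fact (Nat.Prime 2) := ⟨Nat.prime_two⟩
  haveI := PN_normal hp
  letI : CommGroup (S.N ⧸ PN S) :=
    { (inferInstance : Group (S.N ⧸ PN S)) with mul_comm := quot_comm hp }
  haveI := Fintype.ofFinite (S.N ⧸ PN S)
  have hN := isPGroup_N_four hp
  let χ : S.N →* S.N ⧸ PN S := QuotientGroup.mk' (PN S)
  obtain ⟨F, hF, hprod⟩ := exists_exponents hno (hN.to_quotient (PN S)) S.t_sq S.N χ
  replace hprod := @hprod _
  obtain ⟨m, hm, hC⟩ := S.card_C
  rw [hC, card_N_four hp] at hF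
  set tb : S.N ⧸ PN S := χ ⟨S.t, S.T_le_N (by rw [← j_t]; exact S.j_mem _)⟩ with htb
  -- the values on `T`
  have hval : ∀ u : TT, u.e = true → ∀ h : S.j u ∈ S.N, χ ⟨S.j u, h⟩ = tb := by
    intro u hu h
    rw [htb]
    refine QuotientGroup.eq.mpr (mem_PN.mpr ⟨u⁻¹ * TT.t, ?_, ?_⟩)
    · show xor u.e true = false
      rw [hu]; rfl
    · rw [map_mul, map_inv]
      show (S.j u)⁻¹ * S.j TT.t = (S.j u)⁻¹ * S.t
      exact congrArg _ S.j_t
  have hmem : ∀ y, IsConj S.t y → ∀ h : y ∈ S.N, χ ⟨y, h⟩ ≠ tb → y ∈ S.outer := by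
    intro y hy h hne
    refine ⟨hy, h, fun hT => hne ?_⟩
    obtain ⟨u, rfl⟩ := hT
    exact hval u ((twelve_iff u).mp ((hp u).mp hy)).1 h
  have htv : valueSet S.t S.N χ tb = S.j '' {u | twelve u = true} := by
    ext y
    constructor
    · rintro ⟨hy, h, he⟩
      have hPT : (⟨y, h⟩ : S.N) ∈ S.T.subgroupOf S.N := by
        have := QuotientGroup.eq.mp he
        have h2 := PN_le this
        rw [mem_subgroupOf]
        have h3 := inv_mem ((mul_mem_cancel_right (show S.t ∈ S.T from ⟨_, S.j_t⟩)).mp h2)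
        simpa using h3
      obtain ⟨u, hu⟩ := mem_subgroupOf.mp hPT
      refine ⟨u, (hp u).mp ?_, hu⟩
      show IsConj S.t (S.j u)
      rw [hu]; exact hy
    · rintro ⟨u, hu, rfl⟩
      exact ⟨(hp u).mpr hu, S.T_le_N (S.j_mem u), hval u ((twelve_iff u).mp hu).1 _⟩
  have htodd : Odd (F tb) := by
    have := hF tb
    rw [htv, Set.ncard_image_of_injective _ S.j_inj, ← countP_eq_ncard,
      show allTT.countP twelve = 12 from by decide +kernel] at this
    obtain ⟨k, rfl⟩ := hm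
    exact ⟨3 * k + 1, by omega⟩
  have htb1 : tb ≠ 1 := by
    intro h
    obtain ⟨u, he, hu⟩ := mem_PN.mp ((QuotientGroup.eq_one_iff _).mp h)
    have hu' : u = TT.t := S.j_inj (hu.trans S.j_t.symm)
    rw [hu'] at he
    exact absurd he (by decide)
  have htb2 : tb ^ 2 = 1 := by
    rw [htb, ← map_pow, pow_two,
      show (⟨S.t, _⟩ : S.N) * ⟨S.t, _⟩ = 1 from Subtype.ext S.t_sq, map_one]
  -- values of squares
  have hsq1 : ∀ a, F a ≠ 0 → a ^ 2 = 1 := by
    intro a ha
    rcases Set.eq_empty_or_nonempty (valueSet S.t S.N χ a) with he | ⟨y, hy, h, hya⟩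
    · have := hF a
      rw [he, Set.ncard_empty, mul_zero] at this
      omega
    · rw [← hya, pow_two, ← map_mul, show (⟨y, h⟩ : S.N) * ⟨y, h⟩ = 1 from
        Subtype.ext (conj_sq hy), map_one]
  have heven : ∀ a, a ≠ tb → (∀ y ∈ Ext S, ∀ h : y ∈ S.N, χ ⟨y, h⟩ ≠ a) → a ^ F a = 1 := by
    intro a ha hext
    by_cases h0 : F a = 0
    · rw [h0, pow_zero]
    have hsub : valueSet S.t S.N χ a ⊆ S.outer := by
      rintro y ⟨hy, h, he⟩
      exact hmem y hy h (he ▸ ha)
    have hdis : valueSet S.t S.N χ a \ Ext S = valueSet S.t S.N χ a := by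
      refine sdiff_eq_left.mpr (Set.disjoint_left.mpr ?_)
      rintro y ⟨-, h, he⟩ hyE
      exact hext y hyE h he
    have h8 := eight_dvd_nonext hp hsub (fun g hg y hy => by
      obtain ⟨hy1, h, he⟩ := hy
      refine ⟨(isConj_cj_iff g y).mpr hy1, mul_mem (mul_mem (inv_mem hg) h) hg, ?_⟩
      rw [show (⟨cj g y, _⟩ : S.N) = ⟨g, hg⟩⁻¹ * ⟨y, h⟩ * ⟨g, hg⟩ from Subtype.ext rfl,
        map_mul, map_mul, map_inv, he, mul_comm (χ ⟨g, hg⟩)⁻¹, inv_mul_cancel_right])
    rw [hdis] at h8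
    obtain ⟨k, hk⟩ := h8
    have := hF a
    rw [hk] at this
    have he : F a = 2 * (m * k) := by linarith
    rw [he, pow_mul, hsq1 a h0, one_pow]
  by_cases hE : ∃ y, y ∈ Ext S
  · obtain ⟨y, hy⟩ := hE
    obtain ⟨⟨hyc, hyN, hyT⟩, h32⟩ := id hy
    set ab : S.N ⧸ PN S := χ ⟨y, hyN⟩ with hab
    have hext : ∀ w ∈ Ext S, ∀ h : w ∈ S.N, χ ⟨w, h⟩ = ab := by
      intro w hw h
      obtain ⟨u, hu, huw⟩ := ext_pair hp hbad (y := ⟨y, hyN⟩) (y' := ⟨w, h⟩) hyc hw.1.1 hyT
        hw.1.2.2 h32 hw.2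
      refine (QuotientGroup.eq.mpr (mem_PN.mpr ⟨u, hu, ?_⟩)).symm
      have h' : y * S.j u = w := huw
      show S.j u = y⁻¹ * w
      rw [← h', inv_mul_cancel_left]
    have hne : ab ≠ tb := by
      intro h
      apply hyT
      have h2 : y ∈ valueSet S.t S.N χ tb := ⟨hyc, hyN, h⟩
      rw [htv] at h2
      obtain ⟨u, -, rfl⟩ := h2
      exact S.j_mem u
    rw [Fintype.prod_eq_mul ab tb hne (fun a ⟨h1, h2⟩ =>
      heven a h2 fun w hw h e => h1 (e ▸ hext w hw h))] at hprod
    obtain ⟨k, hk⟩ := htodd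
    rw [hk, pow_succ, pow_mul, htb2, one_pow, one_mul] at hprod
    have hab2 : ab ^ 2 = 1 := by
      rw [hab, ← map_pow, pow_two, show (⟨y, hyN⟩ : S.N) * ⟨y, hyN⟩ = 1 from
        Subtype.ext (conj_sq hyc), map_one]
    rcases Nat.even_or_odd (F ab) with ⟨i, hi⟩ | ⟨i, hi⟩
    · rw [hi, ← two_mul, pow_mul, hab2, one_pow, one_mul] at hprod
      exact htb1 hprod
    · rw [hi, pow_succ, pow_mul, hab2, one_pow, one_mul] at hprod
      refine hne ?_
      rw [eq_inv_of_mul_eq_one_left hprod]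
      exact inv_eq_of_mul_eq_one_right (by rw [← pow_two, htb2])
  · push Not at hE
    rw [Fintype.prod_eq_single tb (fun a ha => heven a ha fun w hw => absurd hw (hE w))] at hprod
    obtain ⟨k, hk⟩ := htodd
    rw [hk, pow_succ, pow_mul, htb2, one_pow, one_mul] at hprod
    exact htb1 hprod

end Setup

end CfsgLib.Z2S6
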