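import Cfsg.Agent.Z2S6.Setup

/-!
# Two-local basics: the normalizer of `T` and Sylow subgroups of centralizers of conjugates of `t`
-/

set_option autoImplicit false
set_option linter.unusedSectionVars false
set_option linter.style.haveILetI false

open Subgroup

namespace CfsgLib.Z2S6

variable {G : Type*} [Group G]

/-- The centralizer of `y` inside `H`. -/
def centIn (H : Subgroup G) (y : G) : Subgroup G := H ⊓ centralizer ({y} : Set G)

theorem mem_centIn {H : Subgroup G} {x y : G} : x ∈ centIn H y ↔ x ∈ H ∧ x * y = y * x :=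
  ⟨fun h => ⟨h.1, mem_centralizer_singleton_iff.mp h.2⟩,
    fun h => ⟨h.1, mem_centralizer_singleton_iff.mpr h.2⟩⟩

/-- An invariant set all of whose points have centralizers of order at most 16. -/
theorem dvd_ncard_of_small [Finite G] {H : Subgroup G} (hH : IsPGroup 2 H) {n e : ℕ}
    (hn : n * 2 ^ e = Nat.card H) (s : Set G) (hinv : ∀ h ∈ H, ∀ y ∈ s, cj h y ∈ s)
    (hsmall : ∀ y ∈ s, Nat.card (centIn H y) ≤ 2 ^ e) : n ∣ s.ncard := by
  classical
  induction hk : s.ncard using Nat.strong_induction_on generalizing s with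
  | _ k ih =>
    rcases s.eq_empty_or_nonempty with rfl | ⟨y, hy⟩
    · simp at hk; simp [← hk]
    · let O : Set G := Set.range fun h : H => cj (h : G) y
      have hOs : O ⊆ s := by rintro _ ⟨h, rfl⟩; exact hinv h h.2 y hy
      have hO : O.ncard * Nat.card (centIn H y) = Nat.card H := by
        let K : Subgroup H := (centIn H y).subgroupOf H
        have hK : Nat.card K = Nat.card (centIn H y) :=
          Nat.card_congr (Subgroup.subgroupOfEquivOfLe inf_le_left).toEquiv
        rw [← hK, ← K.index_mul_card, index_eq_card]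
        congr 1
        have hrel : ∀ a b : H, QuotientGroup.leftRel K a⁻¹ b⁻¹ ↔ cj (a : G) y = cj (b : G) y := by
          intro a b
          rw [QuotientGroup.leftRel_apply, inv_inv, mem_subgroupOf, mem_centIn]
          constructor
          · rintro ⟨-, h⟩
            have e : cj (((a * b⁻¹ : H) : G)) y = y := (cj_eq_iff_commute _ _).mpr h
            have := congrArg (cj (b : G)) e
            rwa [cj_cj, Subgroup.coe_mul, Subgroup.coe_inv, inv_mul_cancel_right] at this
          · intro h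
            refine ⟨(a * b⁻¹).2, (cj_eq_iff_commute _ _).mp ?_⟩
            rw [Subgroup.coe_mul, Subgroup.coe_inv, ← cj_cj, h, cj_inv_cancel]
        let f : H ⧸ K → O := fun q => Quotient.liftOn q
          (fun a => (⟨cj ((a⁻¹ : H) : G) y, a⁻¹, rfl⟩ : O))
          (fun a b hab => Subtype.ext ((hrel a⁻¹ b⁻¹).mp (by rw [inv_inv, inv_inv]; exact hab)))
        rw [← Nat.card_coe_set_eq]
        refine (Nat.card_congr (Equiv.ofBijective f ⟨?_, ?_⟩)).symm
        · intro q q' h
          induction q using QuotientGroup.induction_on with | _ a => ?_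
          induction q' using QuotientGroup.induction_on with | _ b => ?_
          refine Quotient.sound ?_
          have h2 := (hrel a⁻¹ b⁻¹).mpr (congrArg Subtype.val h)
          rw [inv_inv, inv_inv] at h2
          exact h2
        · rintro ⟨_, a, rfl⟩
          refine ⟨((a⁻¹ : H) : H ⧸ K), Subtype.ext ?_⟩
          show cj (((a⁻¹)⁻¹ : H) : G) y = cj (a : G) y
          rw [inv_inv]
      have hdvd : n ∣ O.ncard := by
        haveI : Fact (Nat.Prime 2) := ⟨Nat.prime_two⟩
        obtain ⟨i, hi⟩ := IsPGroup.iff_card.mp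
          (hH.to_le (inf_le_left : centIn H y ≤ H))
        change Nat.card (centIn H y) = 2 ^ i at hi
        have hle := hsmall y hy
        rw [hi] at hO hle
        have h4 : i ≤ e := (Nat.pow_le_pow_iff_right (le_refl 2)).mp hle
        obtain ⟨j, hj⟩ := Nat.exists_eq_add_of_le h4
        refine ⟨2 ^ j, Nat.eq_of_mul_eq_mul_right (Nat.two_pow_pos i) ?_⟩
        rw [hO, ← hn, mul_assoc, ← pow_add, add_comm j i, ← hj, mul_comm]
      have hpos : 0 < O.ncard :=
        (Set.ncard_pos (Set.toFinite _)).mpr ⟨y, 1, by simp⟩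
      have hsub : (s \ O).ncard = s.ncard - O.ncard := Set.ncard_diff hOs (Set.toFinite _)
      have hle' : O.ncard ≤ s.ncard := Set.ncard_le_ncard hOs (Set.toFinite _)
      have hrest : n ∣ (s \ O).ncard := by
        refine ih _ (by omega) (s \ O) ?_ (fun w hw => hsmall w hw.1) rfl
        rintro h hh w ⟨hw, hwO⟩
        refine ⟨hinv h hh w hw, ?_⟩
        rintro ⟨a, ha⟩
        refine hwO ⟨a * ⟨h, hh⟩⁻¹, ?_⟩
        show cj ((a : G) * h⁻¹) y = w
        rw [← cj_cj, show cj (a : G) y = cj h w from ha, cj_inv_cancel]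
      rw [← hk]
      have := Nat.dvd_add hrest hdvd
      rwa [hsub, Nat.sub_add_cancel hle'] at this

namespace Setup

variable (S : Setup G)

theorem sq_vals : ∀ u : TT, u * u = 1 ∨ u * u = TT.z := by decide +kernel

theorem comm_vals : ∀ u v : TT, u⁻¹ * v⁻¹ * u * v = 1 ∨ u⁻¹ * v⁻¹ * u * v = TT.z := by
  decide +kernel

theorem isPGroup_T : IsPGroup 2 S.T := IsPGroup.of_card (n := 5) (by rw [S.card_T]; rfl)

variable [Finite G]

/-- A `2`-subgroup of `C(t)` is conjugate into `T` inside `C(t)`. -/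
theorem exists_conj_le {P : Subgroup G} (hP : IsPGroup 2 P)
    (hle : P ≤ centralizer ({S.t} : Set G)) :
    ∃ c, cj c S.t = S.t ∧ ∀ x ∈ P, cj c x ∈ S.T := by
  haveI : Fact (Nat.Prime 2) := ⟨Nat.prime_two⟩
  obtain ⟨m, hm, hC⟩ := S.card_C
  set C := centralizer ({S.t} : Set G) with hCdef
  have hT : Nat.card (S.T.subgroupOf C) = 2 ^ (Nat.card C).factorization 2 := by
    rw [Nat.card_congr (Subgroup.subgroupOfEquivOfLe S.T_le).toEquiv, S.card_T, hC,
      Nat.factorization_mul (by norm_num) (by obtain ⟨k, rfl⟩ := hm; omega),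
      Finsupp.coe_add, Pi.add_apply, show (32 : ℕ) = 2 ^ 5 by rfl,
      Nat.Prime.factorization_pow Nat.prime_two, Finsupp.single_eq_same,
      Nat.factorization_eq_zero_of_not_dvd (by obtain ⟨k, rfl⟩ := hm; omega)]
  let Q : Sylow 2 C := Sylow.ofCard (S.T.subgroupOf C) hT
  obtain ⟨R, hR⟩ := (hP.comap_of_injective C.subtype C.subtype_injective).exists_le_sylow
  obtain ⟨c, hc⟩ := MulAction.exists_smul_eq C R Q
  refine ⟨((c : G))⁻¹, (cj_eq_iff_commute _ _).mpr
    (mem_centralizer_singleton_iff.mp (inv_mem c.2)), fun x hx => ?_⟩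
  have hxR : (⟨x, hle hx⟩ : C) ∈ (R : Subgroup C) := hR hx
  have := Subgroup.smul_mem_pointwise_smul (⟨x, hle hx⟩ : C) (MulAut.conj c) _ hxR
  rw [← Sylow.coe_subgroup_smul, hc] at this
  have h2 : ((MulAut.conj c • (⟨x, hle hx⟩ : C) : C) : G) ∈ S.T := this
  have e : cj ((c : G))⁻¹ x = ((MulAut.conj c • (⟨x, hle hx⟩ : C) : C) : G) := by
    simp [cj, MulAut.conj_apply]
  rwa [e]

/-- Centralizers of conjugates of `t` in `2`-subgroups. -/
theorem centIn_bound {H : Subgroup G} (hH : IsPGroup 2 H) {y : G} (hy : IsConj S.t y) :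
    Nat.card (centIn H y) ≤ 32 ∧ (Nat.card (centIn H y) = 32 →
      ∃ g, cj g y = S.t ∧ ∀ x, (x ∈ centIn H y ↔ cj g x ∈ S.T)) := by
  obtain ⟨h, hh⟩ := exists_cj_of_isConj hy.symm
  let f : G →* G := (MulAut.conj h⁻¹).toMonoidHom
  have hf : ∀ x, f x = cj h x := fun x => by simp [f, cj]
  obtain ⟨c, hct, hc⟩ := S.exists_conj_le (P := (centIn H y).map f)
    ((hH.to_le inf_le_left).map f) (by
      rintro _ ⟨x, hx, rfl⟩
      rw [mem_centralizer_singleton_iff, hf, ← hh, ← cj_mul, ← cj_mul, (mem_centIn.mp hx).2])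
  have hg : ∀ x ∈ centIn H y, cj (h * c) x ∈ S.T := fun x hx => by
    rw [← cj_cj, ← hf]; exact hc _ ⟨x, hx, rfl⟩
  let φ : centIn H y → S.T := fun x => ⟨cj (h * c) x, hg x x.2⟩
  have hinj : Function.Injective φ := fun a b hab =>
    Subtype.ext (cj_injective _ (congrArg Subtype.val hab))
  refine ⟨(Nat.card_le_card_of_injective φ hinj).trans_eq S.card_T, fun h32 =>
    ⟨h * c, by rw [← cj_cj, hh, hct], fun x => ⟨hg x, fun hx => ?_⟩⟩⟩
  obtain ⟨a, ha⟩ := ((Nat.bijective_iff_injective_and_card φ).mpr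
    ⟨hinj, by rw [h32, S.card_T]⟩).2 ⟨_, hx⟩
  rw [← cj_injective _ (congrArg Subtype.val ha)]
  exact a.2

/-- The normalizer of `T`. -/
def N : Subgroup G := Subgroup.normalizer (S.T : Set G)

theorem mem_N {g : G} : g ∈ S.N ↔ ∀ u : TT, cj g (S.j u) ∈ S.T := by
  constructor
  · intro hg u
    exact (Subgroup.mem_normalizer_iff''.mp hg (S.j u)).mp (S.j_mem u)
  · intro h
    let φ : TT → S.T := fun u => ⟨_, h u⟩
    have hinj : Function.Injective φ := fun a b hab =>
      S.j_inj (cj_injective g (congrArg Subtype.val hab))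
    have hsur := ((Nat.bijective_iff_injective_and_card φ).mpr
      ⟨hinj, by rw [S.card_T, card_TT]⟩).2
    refine Subgroup.mem_normalizer_iff''.mpr fun x => ⟨?_, fun hx => ?_⟩
    · rintro ⟨u, rfl⟩; exact h u
    · obtain ⟨u, hu⟩ := hsur ⟨_, hx⟩
      rw [show x = S.j u from (cj_injective g (congrArg Subtype.val hu)).symm]
      exact S.j_mem u

theorem T_le_N : S.T ≤ S.N := Subgroup.le_normalizer

theorem exists_act {g : G} (hg : g ∈ S.N) (u : TT) : ∃ v, cj g (S.j u) = S.j v :=
  let ⟨v, hv⟩ := S.mem_N.mp hg u; ⟨v, hv.symm⟩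

/-- The action of an element of `N(T)` in coordinates. -/
noncomputable def act (g : S.N) (u : TT) : TT := (S.exists_act g.2 u).choose

theorem j_act (g : S.N) (u : TT) : S.j (S.act g u) = cj (g : G) (S.j u) :=
  (S.exists_act g.2 u).choose_spec.symm

theorem act_mul (g : S.N) (u v : TT) : S.act g (u * v) = S.act g u * S.act g v :=
  S.j_inj (by rw [map_mul, j_act, j_act, j_act, map_mul, cj_mul])

theorem act_one (g : S.N) : S.act g 1 = 1 := S.j_inj (by simp [j_act])

theorem act_comp (g h : S.N) (u : TT) : S.act (g * h) u = S.act h (S.act g u) :=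
  S.j_inj (by simp [j_act, cj_cj])

theorem act_inj (g : S.N) : Function.Injective (S.act g) := fun u v h =>
  S.j_inj (cj_injective (g : G) (by rw [← j_act, ← j_act, h]))

theorem act_bij (g : S.N) : Function.Bijective (S.act g) :=
  Finite.injective_iff_bijective.mp (S.act_inj g)

theorem act_central (g : S.N) {u : TT} (hu : ∀ v, u * v = v * u) (v : TT) :
    S.act g u * v = v * S.act g u := by
  obtain ⟨w, rfl⟩ := (S.act_bij g).2 v
  rw [← act_mul, ← act_mul, hu]

theorem E_act (g : S.N) (u : TT) : S.E (S.act g u) ↔ S.E u :=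
  (S.E_cj (S.j_act g u).symm).symm

theorem act_z (g : S.N) : S.act g TT.z = TT.z := by
  have e : TT.z = (TT.X * TT.Y) * (TT.X * TT.Y) := by decide
  rcases sq_vals (S.act g (TT.X * TT.Y)) with h | h
  · rw [← act_mul, ← e, ← act_one S g] at h
    exact absurd (S.act_inj g h) (by decide)
  · rwa [← act_mul, ← e] at h

theorem act_of_mem_T (v : TT) (u : TT) :
    S.act ⟨S.j v, S.T_le_N (S.j_mem v)⟩ u = v⁻¹ * u * v :=
  S.j_inj (by rw [j_act]; exact S.cj_j u v)

theorem mem_T_of_fix {g : G} (hg : g ∈ S.N) (ht : cj g S.t = S.t) : g ∈ S.T :=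
  S.normT g ((cj_eq_iff_commute _ _).mp ht) (S.mem_N.mp hg)

theorem mem_T_iff_act_t (g : S.N) : (g : G) ∈ S.T ↔ S.act g TT.t = TT.t := by
  constructor
  · intro h
    apply S.j_inj
    rw [j_act, j_t]
    exact (cj_eq_iff_commute _ _).mpr (mem_centralizer_singleton_iff.mp (S.T_le h))
  · intro h
    refine S.mem_T_of_fix g.2 ?_
    rw [← j_t, ← j_act, h]

/-- **Burnside**: conjugates of `t` in the center of `T` are conjugate under `N(T)`. -/
theorem exists_mem_N {u : TT} (hu : ∀ v, u * v = v * u) (hE : S.E u) :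
    ∃ g : S.N, S.act g TT.t = u := by
  haveI : Fact (Nat.Prime 2) := ⟨Nat.prime_two⟩
  have hb := S.centIn_bound S.isPGroup_T hE
  have hcard : Nat.card (centIn S.T (S.j u)) = 32 := by
    rw [centIn, inf_eq_left.mpr, S.card_T]
    rintro _ ⟨v, rfl⟩
    rw [mem_centralizer_singleton_iff, ← map_mul, ← map_mul, hu]
  obtain ⟨g, hg, hT⟩ := hb.2 hcard
  have hN : g ∈ S.N := S.mem_N.mpr fun v =>
    (hT _).mp (mem_centIn.mpr ⟨S.j_mem v, by rw [← map_mul, ← map_mul, hu]⟩)
  refine ⟨(⟨g, hN⟩ : S.N)⁻¹, S.j_inj ?_⟩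
  rw [j_act, j_t, InvMemClass.coe_inv]
  show cj g⁻¹ S.t = S.j u
  rw [← hg, cj_inv_cancel]

/-- The orbit of `t` under `N(T)`. -/
def orbit : Set TT := {u | (∀ v, u * v = v * u) ∧ S.E u}

theorem card_N : Nat.card S.N = 32 * S.orbit.ncard := by
  classical
  let T' : Subgroup S.N := S.T.subgroupOf S.N
  have hT' : Nat.card T' = 32 := by
    rw [Nat.card_congr (Subgroup.subgroupOfEquivOfLe S.T_le_N).toEquiv, S.card_T]
  rw [← T'.index_mul_card, hT', mul_comm, index_eq_card]
  congr 1
  have hrel : ∀ a b : S.N, QuotientGroup.leftRel T' a⁻¹ b⁻¹ ↔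
      S.act a TT.t = S.act b TT.t := by
    intro a b
    rw [QuotientGroup.leftRel_apply, inv_inv, mem_subgroupOf, mem_T_iff_act_t, act_comp]
    have e : S.act b⁻¹ (S.act b TT.t) = TT.t := by
      rw [← act_comp]; apply S.j_inj; simp [j_act]
    constructor
    · intro h; exact S.act_inj b⁻¹ (h.trans e.symm)
    · intro h; rw [h, e]
  let f : S.N ⧸ T' → S.orbit := fun q => Quotient.liftOn q
    (fun a => (⟨S.act a⁻¹ TT.t, fun v => S.act_central _ (by decide) v,
      (S.E_act _ _).mpr S.E_t⟩ : S.orbit))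
    (fun a b hab => Subtype.ext ((hrel a⁻¹ b⁻¹).mp (by rw [inv_inv, inv_inv]; exact hab)))
  rw [← Nat.card_coe_set_eq]
  refine Nat.card_congr (Equiv.ofBijective f ⟨?_, ?_⟩)
  · intro q q' h
    induction q using QuotientGroup.induction_on with | _ a => ?_
    induction q' using QuotientGroup.induction_on with | _ b => ?_
    refine Quotient.sound ?_
    have h2 := (hrel a⁻¹ b⁻¹).mpr (congrArg Subtype.val h)
    rw [inv_inv, inv_inv] at h2
    exact h2
  · rintro ⟨u, hu, hE⟩
    obtain ⟨g, hg⟩ := S.exists_mem_N hu hE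
    refine ⟨((g⁻¹ : S.N) : S.N ⧸ T'), Subtype.ext ?_⟩
    show S.act g⁻¹⁻¹ TT.t = u
    rw [inv_inv, hg]

end Setup

end CfsgLib.Z2S6
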