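import Cfsg.Agent.Z2S6.Frame

/-!
# Coordinates for `N(T)` and the conjugates of `t` in it

`(u, d, f)` stands for `j u * g ^ d * k ^ f`.
-/

set_option autoImplicit false
set_option linter.unusedSectionVars false
set_option linter.style.haveILetI false

open Subgroup

namespace CfsgLib.Z2S6

/-- Coordinates of `N(T)`. -/
abbrev MM : Type := TT × Bool × Bool

/-- The product in coordinates. -/
def mmul (p1 p2 : Bool) (c : TT) (x y : MM) : MM :=
  let v := bif x.2.2 then aK p2 y.1 else y.1
  let v' := bif x.2.1 then aG p1 v else v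
  (x.1 * (v' * (bif x.2.2 && y.2.1 then c else 1)), xor x.2.1 y.2.1, xor x.2.2 y.2.2)

/-- Commuting in coordinates. -/
def mcomm (p1 p2 : Bool) (c : TT) (x y : MM) : Bool :=
  decide (mmul p1 p2 c x y = mmul p1 p2 c y x)

/-- The elements of `W`. -/
def wList : List TT := [1, TT.z, TT.r, TT.r * TT.z]

/-- Multiplication by an element of `W`. -/
def mw (x : MM) (w : TT) : MM := (x.1 * w, x.2)

/-- Representatives modulo `W`. -/
def reps : List MM :=
  [false, true].flatMap fun f => [false, true].flatMap fun d => [false, true].flatMap fun b =>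
    [false, true].flatMap fun a => [false, true].map fun e => (⟨e, a, b, false, false⟩, d, f)

/-- The representative modulo `W`. -/
def cls (x : MM) : MM := (⟨x.1.e, x.1.a, x.1.b, false, false⟩, x.2)

/-- All coordinates. -/
def allM : List MM := reps.flatMap fun x => wList.map (mw x)

theorem mem_allM : ∀ x, x ∈ allM := by decide +kernel

theorem nodup_allM : allM.Nodup := by decide +kernel

theorem cls_spec : ∀ x : MM, cls x ∈ reps ∧ ∃ w ∈ wList, x = mw (cls x) w := by decide +kernel

theorem countM_eq_ncard (p : MM → Bool) : allM.countP p = {x | p x = true}.ncard := by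
  rw [List.countP_eq_length_filter, ← List.toFinset_card_of_nodup (nodup_allM.filter _),
    ← Set.ncard_coe_finset]
  congr 1
  ext x
  simp [mem_allM x]

theorem countM_of_invariant (p : MM → Bool) (hp : ∀ x, ∀ w ∈ wList, p (mw x w) = p x) :
    allM.countP p = 4 * reps.countP p := by
  unfold allM
  induction reps with
  | nil => simp
  | cons a l ih =>
    rw [List.flatMap_cons, List.countP_append, List.countP_cons, ih, List.countP_map]
    have h : ∀ w ∈ wList, (p ∘ mw a) w = p a := hp a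
    cases hpa : p a
    · have : wList.countP (p ∘ mw a) = 0 :=
        List.countP_eq_zero.mpr fun w hw => by rw [h w hw, hpa]; simp
      rw [this]; simp
    · have : wList.countP (p ∘ mw a) = wList.length :=
        List.countP_eq_length.mpr fun w hw => by rw [h w hw, hpa]
      rw [this]
      simp [wList]
      ring

namespace Setup

variable {G : Type*} [Group G] [Finite G] {S : Setup G} (F : Frame S)

namespace Frame

/-- The element with given coordinates. -/
def el (x : MM) : G := S.j x.1 * bpow (F.g : G) x.2.1 * bpow (F.k : G) x.2.2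

theorem el_mem (x : MM) : F.el x ∈ S.N := by
  refine mul_mem (mul_mem (S.T_le_N (S.j_mem _)) ?_) ?_
  · cases x.2.1
    · exact one_mem _
    · exact F.g.2
  · cases x.2.2
    · exact one_mem _
    · exact F.k.2

theorem fix_W (hg : ∀ g : S.N, Good g) (n : S.N) {w : TT} (hc : cen w = true)
    (he : w.e = false) : S.act n w = w := by
  have hd : ∀ w : TT, cen w = true → w.e = false →
      w = (bif w.c then TT.r else 1) * (bif w.d then TT.z else 1) := by decide +kernel
  rw [hd w hc he, S.act_mul]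
  cases w.c <;> cases w.d <;>
    simp only [cond_true, cond_false, S.act_one, S.act_z, (hg n).1]

theorem W_comm (hg : ∀ g : S.N, Good g) {w : TT} (hw : w ∈ wList) {x : G} (hx : x ∈ S.N) :
    S.j w * x = x * S.j w := by
  have h := (by decide : ∀ w ∈ wList, cen w = true ∧ w.e = false) w hw
  exact ((cj_eq_iff_commute _ _).mp
    (by rw [← S.j_act (⟨x, hx⟩ : S.N), fix_W hg (⟨x, hx⟩ : S.N) h.1 h.2])).symm

theorem el_mul (hg : ∀ g : S.N, Good g) (x y : MM) :
    F.el (mmul F.p1 F.p2 F.c x y) = F.el x * F.el y := by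
  have move : ∀ (n : S.N) (α : TT → TT), (n : G) * n = 1 → (∀ u, S.act n u = α u) →
      ∀ (d : Bool) (u : TT), bpow (n : G) d * S.j u = S.j (bif d then α u else u) * bpow (n : G) d := by
    intro n α hn hα d u
    cases d
    · simp
    · show (n : G) * S.j u = S.j (α u) * n
      rw [← hα, j_act, cj, inv_eq_of_mul_eq_one_right hn, mul_assoc _ (n : G) n, hn, mul_one]
  have hcw : F.c ∈ wList :=
    (by decide : ∀ c : TT, cen c = true → c.e = false → c ∈ wList) _ F.cW.1 F.cW.2
  have hsw : ∀ f d : Bool, bpow (F.k : G) f * bpow (F.g : G) d =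
      S.j (bif f && d then F.c else 1) * (bpow (F.g : G) d * bpow (F.k : G) f) := by
    intro f d
    cases f <;> cases d <;> simp [F.kg]
    exact (W_comm hg hcw (mul_mem F.g.2 F.k.2)).symm
  obtain ⟨u, d, f⟩ := x
  obtain ⟨u', d', f'⟩ := y
  have hW : ∀ (i : Bool) (y : G), y ∈ S.N → ∀ z : G,
      y * (S.j (bif i then F.c else 1) * z) = S.j (bif i then F.c else 1) * (y * z) := by
    intro i y hy z
    cases i
    · simp
    · simp only [cond_true]; rw [← mul_assoc, ← W_comm hg hcw hy, mul_assoc]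
  simp only [el, mmul]
  rw [map_mul, map_mul, ← TRel.bpow_mul F.g_sq d d', ← TRel.bpow_mul F.k_sq f f']
  have hdN : bpow (F.g : G) d ∈ S.N := by
    cases d
    · exact one_mem _
    · exact F.g.2
  calc _ = S.j u * (S.j (bif d then aG F.p1 (bif f then aK F.p2 u' else u') else
        (bif f then aK F.p2 u' else u')) * (S.j (bif f && d' then F.c else 1) *
        (bpow (F.g : G) d * (bpow (F.g : G) d' * (bpow (F.k : G) f * bpow (F.k : G) f'))))) := by
        simp only [mul_assoc]
    _ = S.j u * (S.j (bif d then aG F.p1 (bif f then aK F.p2 u' else u') else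
        (bif f then aK F.p2 u' else u')) * (bpow (F.g : G) d *
        (bpow (F.k : G) f * (bpow (F.g : G) d' * bpow (F.k : G) f')))) := by
        rw [← hW (f && d') _ hdN, ← mul_assoc (bpow (F.k : G) f) (bpow (F.g : G) d'), hsw]
        simp only [mul_assoc]
    _ = _ := by
        simp only [mul_assoc]
        congr 1
        rw [← mul_assoc (S.j _) (bpow (F.g : G) d), ← move F.g (aG F.p1) F.g_sq F.act_g,
          mul_assoc, ← mul_assoc (S.j _) (bpow (F.k : G) f), ← move F.k (aK F.p2) F.k_sq F.act_k,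
          mul_assoc]

theorem act_el (x : MM) (u : TT) :
    S.act ⟨F.el x, F.el_mem x⟩ u =
      (bif x.2.2 then aK F.p2 (bif x.2.1 then aG F.p1 (x.1⁻¹ * u * x.1) else x.1⁻¹ * u * x.1)
        else (bif x.2.1 then aG F.p1 (x.1⁻¹ * u * x.1) else x.1⁻¹ * u * x.1)) := by
  obtain ⟨v, d, f⟩ := x
  apply S.j_inj
  rw [j_act]
  show cj (S.j v * bpow (F.g : G) d * bpow (F.k : G) f) (S.j u) = _
  rw [← cj_cj, ← cj_cj, S.cj_j]
  cases d <;> cases f <;>
    simp only [bpow_true, bpow_false, cj_one_left, cond_true, cond_false, ← F.act_g, ← F.act_k,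
      ← j_act]

theorem el_inj : Function.Injective F.el := by
  intro x y h
  have h1 : ∀ u, S.act ⟨F.el x, F.el_mem x⟩ u = S.act ⟨F.el y, F.el_mem y⟩ u := by
    intro u; apply S.j_inj; rw [j_act, j_act]; exact congrArg (fun n => cj n (S.j u)) h
  have h2 := h1 TT.t
  have ht : ∀ u : TT, u⁻¹ * TT.t * u = TT.t := by decide +kernel
  rw [act_el, act_el, ht, ht] at h2
  have h3 : x.2 = y.2 :=
    (by decide +kernel : ∀ (a b : Bool) (p q : Bool × Bool),
      (bif p.2 then aK b (bif p.1 then aG a TT.t else TT.t)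
        else (bif p.1 then aG a TT.t else TT.t)) =
      (bif q.2 then aK b (bif q.1 then aG a TT.t else TT.t)
        else (bif q.1 then aG a TT.t else TT.t)) → p = q)
      F.p1 F.p2 x.2 y.2 h2
  obtain ⟨u, d, f⟩ := x
  obtain ⟨u', d', f'⟩ := y
  simp only [Prod.mk.injEq] at h3
  obtain ⟨rfl, rfl⟩ := h3
  simp only [el, mul_left_inj] at h
  rw [S.j_inj h]

theorem el_surj (hp : S.IsPatFour) {n : G} (hn : n ∈ S.N) : ∃ x, F.el x = n := by
  haveI := Fintype.ofFinite G
  let φ : MM → S.N := fun x => ⟨F.el x, F.el_mem x⟩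
  have hinj : Function.Injective φ := fun a b h => F.el_inj (congrArg Subtype.val h)
  have hc : Nat.card MM = Nat.card S.N := by
    rw [card_N_four hp, Nat.card_prod, Nat.card_prod, card_TT, Nat.card_eq_fintype_card,
      Fintype.card_bool]
  obtain ⟨x, hx⟩ := ((Nat.bijective_iff_injective_and_card φ).mpr ⟨hinj, hc⟩).2 ⟨n, hn⟩
  exact ⟨x, congrArg Subtype.val hx⟩

/-- Conjugacy to `t` in coordinates. -/
noncomputable def conjT (x : MM) : Bool :=
  @decide (IsConj S.t (F.el x)) (Classical.propDecidable _)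

theorem conjT_iff {x : MM} : F.conjT x = true ↔ IsConj S.t (F.el x) := by
  unfold conjT
  exact @decide_eq_true_iff _ (Classical.propDecidable _)

theorem el_T (u : TT) : F.el (u, false, false) = S.j u := by simp [el]

theorem conjT_T (hp : S.IsPatFour) (u : TT) : F.conjT (u, false, false) = twelve u := by
  rw [Bool.eq_iff_iff, conjT_iff, el_T]
  exact hp u

theorem el_mw (hg : ∀ g : S.N, Good g) (x : MM) {w : TT} (hw : w ∈ wList) :
    F.el (mw x w) = F.el x * S.j w := by
  obtain ⟨u, d, f⟩ := x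
  have hN : bpow (F.g : G) d * bpow (F.k : G) f ∈ S.N := by
    refine mul_mem ?_ ?_
    · cases d
      · exact one_mem _
      · exact F.g.2
    · cases f
      · exact one_mem _
      · exact F.k.2
  show S.j (u * w) * bpow (F.g : G) d * bpow (F.k : G) f = _
  rw [map_mul, el, mul_assoc, mul_assoc (S.j u), W_comm hg hw hN]
  simp only [mul_assoc]

theorem mcomm_iff (hg : ∀ g : S.N, Good g) (x y : MM) :
    mcomm F.p1 F.p2 F.c x y = true ↔ F.el x * F.el y = F.el y * F.el x := by
  rw [mcomm, decide_eq_true_iff, ← F.el_mul hg, ← F.el_mul hg]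
  exact ⟨fun h => by rw [h], fun h => F.el_inj h⟩

theorem mcomm_mw (hg : ∀ g : S.N, Good g) (x y : MM) {w : TT} (hw : w ∈ wList) :
    mcomm F.p1 F.p2 F.c x (mw y w) = mcomm F.p1 F.p2 F.c x y := by
  rw [Bool.eq_iff_iff, F.mcomm_iff hg, F.mcomm_iff hg, F.el_mw hg y hw,
    mul_assoc (F.el y), W_comm hg hw (F.el_mem x), ← mul_assoc, ← mul_assoc, mul_left_inj]

theorem conj_sq_one (hg : ∀ g : S.N, Good g) {x : MM} (h : F.conjT x = true) :
    mmul F.p1 F.p2 F.c x x = (1, false, false) := by
  apply F.el_inj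
  rw [F.el_mul hg, conj_sq (F.conjT_iff.mp h), el_T, map_one]

/-- Centralizers in coordinates. -/
theorem card_centIn_el (hp : S.IsPatFour) (hg : ∀ g : S.N, Good g) (x : MM) :
    Nat.card (centIn S.N (F.el x)) = 4 * reps.countP (mcomm F.p1 F.p2 F.c x) := by
  rw [← countM_of_invariant _ (fun y w hw => F.mcomm_mw hg x y hw), countM_eq_ncard,
    ← Set.ncard_image_of_injective _ F.el_inj, ← Nat.card_coe_set_eq]
  refine Nat.card_congr (Equiv.setCongr ?_)
  ext n
  constructor
  · intro hn
    obtain ⟨hnN, hnc⟩ := mem_centIn.mp hn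
    obtain ⟨y, rfl⟩ := F.el_surj hp hnN
    exact ⟨y, (F.mcomm_iff hg x y).mpr hnc.symm, rfl⟩
  · rintro ⟨y, hy, rfl⟩
    exact mem_centIn.mpr ⟨F.el_mem y, ((F.mcomm_iff hg x y).mp hy).symm⟩

theorem mcomm_symm (x y : MM) : mcomm F.p1 F.p2 F.c x y = mcomm F.p1 F.p2 F.c y x := by
  simp only [mcomm]
  exact decide_eq_decide.mpr ⟨Eq.symm, Eq.symm⟩

theorem mcomm_cls (hg : ∀ g : S.N, Good g) (x y : MM) :
    mcomm F.p1 F.p2 F.c x y = mcomm F.p1 F.p2 F.c (cls x) y := by
  obtain ⟨-, w, hw, e⟩ := cls_spec x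
  conv_lhs => rw [e]
  rw [F.mcomm_symm, F.mcomm_mw hg _ _ hw, F.mcomm_symm]

theorem c_mem : F.c ∈ wList :=
  (by decide : ∀ c : TT, cen c = true → c.e = false → c ∈ wList) _ F.cW.1 F.cW.2

theorem count_eight (hp : S.IsPatFour) (hg : ∀ g : S.N, Good g) {x : MM}
    (h : F.conjT x = true) : reps.countP (mcomm F.p1 F.p2 F.c x) = 8 := by
  have h1 := (S.centIn_bound (isPGroup_N_four hp) (F.conjT_iff.mp h)).1
  rw [F.card_centIn_el hp hg] at h1
  have h2 : ∀ (a b : Bool), ∀ c ∈ wList, ∀ x ∈ reps, 8 ≤ reps.countP (mcomm a b c x) := by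
    decide +kernel
  have := h2 F.p1 F.p2 _ F.c_mem _ (cls_spec x).1
  rw [show mcomm F.p1 F.p2 F.c x = mcomm F.p1 F.p2 F.c (cls x) from
    funext (F.mcomm_cls hg x)] at h1 ⊢
  omega

theorem conjT_mw (hp : S.IsPatFour) (hg : ∀ g : S.N, Good g) (x : MM) {w : TT}
    (hw : w ∈ wList) : F.conjT (mw x w) = F.conjT x := by
  have one : ∀ x : MM, F.conjT x = true → F.conjT (mw x w) = true := by
    intro x hx
    have key : ∀ (a b : Bool), ∀ c ∈ wList, ∀ x ∈ reps, reps.countP (mcomm a b c x) = 8 →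
        ∀ w ∈ wList, ∃ z ∈ reps, mmul a b c x z = mmul a b c z (mw x w) := by decide +kernel
    obtain ⟨hr, w0, hw0, hxe⟩ := cls_spec x
    have h8 := F.count_eight hp hg hx
    rw [show mcomm F.p1 F.p2 F.c x = mcomm F.p1 F.p2 F.c (cls x) from
      funext (F.mcomm_cls hg x)] at h8
    obtain ⟨z, -, hz⟩ := key F.p1 F.p2 _ F.c_mem _ hr h8 w hw
    rw [conjT_iff] at hx ⊢
    have e := congrArg F.el hz
    rw [F.el_mul hg, F.el_mul hg] at e
    have e1 : cj (F.el z) (F.el (cls x)) = F.el (mw (cls x) w) := by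
      rw [cj, mul_assoc, e, inv_mul_cancel_left]
    have hw0' : cj (F.el z) (S.j w0) = S.j w0 :=
      (cj_eq_iff_commute _ _).mpr (W_comm hg hw0 (F.el_mem z)).symm
    have e2 : cj (F.el z) (F.el x) = F.el (mw x w) := by
      rw [F.el_mw hg x hw, hxe, F.el_mw hg _ hw0, cj_mul, e1, hw0', F.el_mw hg _ hw, mul_assoc,
        mul_assoc, ← map_mul, ← map_mul]
      congr 2
      exact (by decide : ∀ a ∈ wList, ∀ b ∈ wList, a * b = b * a) _ hw _ hw0
    rw [← e2]
    exact hx.trans (isConj_cj _ _)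
  rw [Bool.eq_iff_iff]
  refine ⟨fun h => ?_, one x⟩
  have e : mw (mw x w) w = x := by
    obtain ⟨u, q⟩ := x
    exact Prod.ext ((by decide +kernel : ∀ w ∈ wList, ∀ u : TT, u * w * w = u) w hw u) rfl
  have := one _ h
  rwa [e] at this

theorem conjT_deg (hp : S.IsPatFour) (hg : ∀ g : S.N, Good g) {x : MM} (h : F.conjT x = true) :
    reps.countP (fun y => F.conjT y && mcomm F.p1 F.p2 F.c x y) = 3 := by
  have h32 : Nat.card (centIn S.N (F.el x)) = 32 := by
    rw [F.card_centIn_el hp hg, F.count_eight hp hg h]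
  obtain ⟨-, -, -, h12⟩ := cent_facts hp (F.conjT_iff.mp h) h32
  have e : {w | IsConj S.t w ∧ w ∈ centIn S.N (F.el x)} =
      F.el '' {y | (F.conjT y && mcomm F.p1 F.p2 F.c x y) = true} := by
    ext n
    constructor
    · rintro ⟨hn, hnc⟩
      obtain ⟨hnN, hnx⟩ := mem_centIn.mp hnc
      obtain ⟨y, rfl⟩ := F.el_surj hp hnN
      exact ⟨y, Bool.and_eq_true_iff.mpr ⟨F.conjT_iff.mpr hn, (F.mcomm_iff hg x y).mpr hnx.symm⟩,
        rfl⟩
    · rintro ⟨y, hy, rfl⟩
      obtain ⟨h1, h2⟩ := Bool.and_eq_true_iff.mp hy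
      exact ⟨F.conjT_iff.mp h1, mem_centIn.mpr ⟨F.el_mem y, ((F.mcomm_iff hg x y).mp h2).symm⟩⟩
  rw [e, Set.ncard_image_of_injective _ F.el_inj, ← countM_eq_ncard,
    countM_of_invariant _ (fun y w hw => by
      rw [F.conjT_mw hp hg y hw, F.mcomm_mw hg x y hw])] at h12
  omega

end Frame

end Setup

end CfsgLib.Z2S6
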