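import Cfsg.Agent.Z2S6.NormA

/-!
# Two transfer conditions from `N(A₁)`
-/

set_option autoImplicit false
set_option linter.unusedSectionVars false
set_option linter.style.haveILetI false

open Subgroup

namespace CfsgLib.Z2S6

/-- The action moves the class of `X` modulo `rz`. -/
def oddF (f : TT → TT) : Bool := !(eqv (f TT.X) TT.X)

theorem inv_odd_fix : ∀ b ∈ bList, ∀ p ∈ lins,
    (∀ u : TT, u.b = false → aa (TT.t * b) p.1 p.2 (aa (TT.t * b) p.1 p.2 u) = u) →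
    (sg (aa 1 p.1 p.2) = true →
      ∃ i < 3, eqv (aa (TT.t * b) p.1 p.2 (Setup.rhoT^[i] TT.r)) (Setup.rhoT^[i] TT.r) = true ∧
        ∃ w ∈ Setup.pList, TT.t * b = Setup.rhoT^[i] w) ∧
    (sg (aa 1 p.1 p.2) = false →
      ∀ u ∈ bList, eqv (aa (TT.t * b) p.1 p.2 u) u = true) := by decide +kernel

theorem odd_unique : ∀ p ∈ lins, sg (aa 1 p.1 p.2) = true → ∀ i < 3, ∀ j < 3,
    eqv (aa 1 p.1 p.2 (Setup.rhoT^[i] TT.r)) (Setup.rhoT^[i] TT.r) = true →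
    eqv (aa 1 p.1 p.2 (Setup.rhoT^[j] TT.r)) (Setup.rhoT^[j] TT.r) = true → i = j := by
  decide +kernel

theorem P1_cases : ∀ w1 ∈ [TT.z, TT.r], ∀ b ∈ bList,
    (P1 w1 (TT.t * b) = true ↔
      TT.t * b = TT.t * vv ∨ ∃ i < 3, TT.t * b = Setup.rhoT^[i] (TT.t * w1)) ∧
    ∀ i < 3, ∀ j < 3, Setup.rhoT^[i] (TT.t * w1) = Setup.rhoT^[j] (TT.t * w1) → i = j := by
  decide +kernel

set_option synthInstance.maxSize 100000 in
theorem rho_iter : ∀ i < 3, (∀ u w : TT, u.b = false → w.b = false →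
      Setup.rhoT^[i] u = Setup.rhoT^[i] w → u = w) ∧
    Setup.rhoT^[i] TT.t = TT.t ∧ sg (Setup.rhoT^[i]) = false ∧
    (∀ u ∈ bList, Setup.rhoT^[i] u ∈ bList) ∧
    (∀ u w : TT, u.b = false → w.b = false →
      eqv (Setup.rhoT^[i] u) (Setup.rhoT^[i] w) = eqv u w) := by decide +kernel

namespace Setup

variable {G : Type*} [Group G] [Finite G] {S : Setup G}

/-- Conjugates of `t` in `N(T)` whose action satisfies `q`. -/
def cnt (S : Setup G) (q : (TT → TT) → Bool) : Set G :=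
  {y | IsConj S.t y ∧ ∃ h : y ∈ S.N, q (S.act ⟨y, h⟩) = true}

/-- The transfer condition for a homomorphism of `N(A₁)` onto a group of order two. -/
theorem flag_dvd (hno : ∀ K : Subgroup G, K.index ≠ 2) (hp : S.IsPatFour)
    (hg : ∀ g : S.N, Good g) (φ : N1 S → Bool) (hom : ∀ x y, φ (x * y) = xor (φ x) (φ y))
    (hs : ∃ a, φ a = true) {c : ℕ}
    (hc : {y | IsConj S.t y ∧ ∃ h : y ∈ N1 S, φ ⟨y, h⟩ = true}.ncard = c) :
    ∃ m, Odd m ∧ 48 ∣ m * c := by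
  have h1 : φ 1 = false := by
    have h := hom 1 1
    rw [one_mul] at h
    cases hh : φ 1
    · rfl
    · rw [hh] at h; simp at h
  let K0 : Subgroup (N1 S) :=
    { carrier := {x | φ x = false}
      one_mem' := h1
      mul_mem' := fun {a b} ha hb => by
        simp only [Set.mem_ofPred_eq] at ha hb ⊢; rw [hom, ha, hb]; rfl
      inv_mem' := fun {a} ha => by
        simp only [Set.mem_ofPred_eq] at ha ⊢
        have h := hom a a⁻¹
        rw [mul_inv_cancel, h1, ha] at h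
        simpa using h.symm }
  have h2 : K0.index = 2 := by
    obtain ⟨a, ha⟩ := hs
    rw [index_eq_two_iff]
    refine ⟨a, fun x => ?_⟩
    show Xor' (φ (x * a) = false) (φ x = false)
    rw [hom, ha]
    cases φ x
    · exact Or.inr ⟨rfl, by simp⟩
    · exact Or.inl ⟨rfl, by simp⟩
  have hrel : (K0.map (N1 S).subtype).relIndex (N1 S) = 2 := by
    have e : (K0.map (N1 S).subtype).subgroupOf (N1 S) = K0 :=
      Subgroup.comap_map_eq_self_of_injective (N1 S).subtype_injective K0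
    show ((K0.map (N1 S).subtype).subgroupOf (N1 S)).index = 2
    rw [e, h2]
  have h := dvd_of_index_two hno S.t_sq (Subgroup.map_subtype_le K0) hrel
  obtain ⟨m, hm, hC⟩ := S.card_C
  rw [hC, card_N1 hp hg] at h
  have e : {y : G | IsConj S.t y ∧ y ∈ N1 S ∧ y ∉ K0.map (N1 S).subtype} =
      {y | IsConj S.t y ∧ ∃ h : y ∈ N1 S, φ ⟨y, h⟩ = true} := by
    ext y
    simp only [Set.mem_ofPred_eq]
    refine and_congr_right fun _ => ⟨fun ⟨hy, hn⟩ => ⟨hy, ?_⟩, fun ⟨hy, hn⟩ => ⟨hy, ?_⟩⟩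
    · cases hφ : φ ⟨y, hy⟩
      · exact absurd ⟨⟨y, hy⟩, hφ, rfl⟩ hn
      · rfl
    · rintro ⟨⟨w, hw⟩, hφ, hwy⟩
      cases hwy
      have hφ' : φ ⟨w, hy⟩ = false := hφ
      have hn' : φ ⟨w, hy⟩ = true := hn
      rw [hn'] at hφ'
      exact absurd hφ' (by decide)
  rw [e, hc] at h
  obtain ⟨k, hk⟩ := h
  exact ⟨m, hm, k, by linarith⟩

theorem actA_conj (x : N1 S) (i : ℕ) {u : TT} (hu : u.b = false) :
    actA (⟨S.ρ ^ i, rho_pow_mem i⟩⁻¹ * x * ⟨S.ρ ^ i, rho_pow_mem i⟩ : N1 S) (rhoT^[i] u) =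
      rhoT^[i] (actA x u) := by
  apply actA_eq (cj_rho_pow (S := S) hu i).2
  rw [← (cj_rho_pow (S := S) hu i).1, ← (cj_rho_pow (S := S) (actA_b x hu) i).1, j_actA x hu,
    cj_cj, cj_cj]
  congr 1
  push_cast
  group

theorem sg_one (hp : S.IsPatFour) (hg : ∀ g : S.N, Good g) : sg (actA (1 : N1 S)) = false := by
  have h := sg_mul hp hg (1 : N1 S) 1
  rw [one_mul] at h
  cases hh : sg (actA (1 : N1 S))
  · rfl
  · rw [hh] at h; simp at h

theorem sg_conj (hp : S.IsPatFour) (hg : ∀ g : S.N, Good g) (x a : N1 S) :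
    sg (actA (a⁻¹ * x * a)) = sg (actA x) := by
  have h := sg_mul hp hg a⁻¹ a
  rw [inv_mul_cancel, sg_one hp hg] at h
  rw [sg_mul hp hg, sg_mul hp hg]
  revert h
  cases sg (actA a⁻¹) <;> cases sg (actA a) <;> cases sg (actA x) <;> simp

theorem actA_eq_act (hp : S.IsPatFour) (hg : ∀ g : S.N, Good g) {y : G} (hy : y ∈ S.N) {u : TT}
    (hu : u.b = false) : actA ⟨y, N_le_N1 hp hg hy⟩ u = S.act (⟨y, hy⟩ : S.N) u :=
  actA_eq hu (S.j_act (⟨y, hy⟩ : S.N) u).symm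

theorem sg_eq_odd (hp : S.IsPatFour) (hg : ∀ g : S.N, Good g) {y : G} (hy : y ∈ S.N) :
    sg (actA ⟨y, N_le_N1 hp hg hy⟩) = oddF (S.act (⟨y, hy⟩ : S.N)) := by
  obtain ⟨hp', hx, hyy, hf⟩ := good_params hp hg (⟨y, hy⟩ : S.N)
  rw [sg_congr (f' := S.act (⟨y, hy⟩ : S.N))
    (fun b hb => actA_eq_act hp hg hy ((bList_spec b).mp hb).2), funext hf]
  exact (by decide +kernel : ∀ p ∈ pList, ∀ x ∈ xList, ∀ y ∈ yList,
    sg (af p x y TT.r) = oddF (af p x y TT.r)) _ hp' _ hx _ hyy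

/-- Three translates under `ρ`. -/
theorem ncard_translates (U : Set G)
    (key : ∀ y ∈ U, ∀ y' ∈ U, ∀ i < 3, ∀ j < 3, cj (S.ρ ^ i) y = cj (S.ρ ^ j) y' → i = j) :
    {w | ∃ y ∈ U, ∃ i < 3, cj (S.ρ ^ i) y = w}.ncard = 3 * U.ncard := by
  let f : Fin 3 × U → G := fun p => cj (S.ρ ^ (p.1 : ℕ)) p.2
  have e : {w | ∃ y ∈ U, ∃ i < 3, cj (S.ρ ^ i) y = w} = Set.range f := by
    ext w
    constructor
    · rintro ⟨y, hy, i, hi, rfl⟩; exact ⟨(⟨i, hi⟩, ⟨y, hy⟩), rfl⟩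
    · rintro ⟨⟨i, y⟩, rfl⟩; exact ⟨y, y.2, i, i.2, rfl⟩
  have hinj : Function.Injective f := by
    rintro ⟨i, y⟩ ⟨j, y'⟩ h
    have hij : i = j := Fin.ext (key _ y.2 _ y'.2 _ i.2 _ j.2 h)
    subst hij
    exact Prod.ext rfl (Subtype.ext (cj_injective _ h))
  rw [e, ← Nat.card_coe_set_eq, Nat.card_range_of_injective hinj, Nat.card_prod, Nat.card_fin,
    Nat.card_coe_set_eq]

theorem invol_actA (x : N1 S) (h : IsConj S.t (x : G)) {u : TT} (hu : u.b = false) :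
    actA x (actA x u) = u := by
  rw [← actA_comp x x hu, show x * x = 1 from Subtype.ext (conj_sq h)]
  exact actA_eq hu (by simp)

theorem invol_cases (hp : S.IsPatFour) (hg : ∀ g : S.N, Good g) (x : N1 S)
    (h : IsConj S.t (x : G)) :
    (sg (actA x) = true → ∃ i < 3, eqv (actA x (rhoT^[i] TT.r)) (rhoT^[i] TT.r) = true ∧
      ∃ w ∈ pList, actA x TT.t = rhoT^[i] w) ∧
    (sg (actA x) = false → ∀ u ∈ bList, eqv (actA x u) u = true) := by
  obtain ⟨⟨b, hb, hbt⟩, hl, hf⟩ := actA_form hp hg x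
  have hinv : ∀ u : TT, u.b = false → aa (TT.t * b) (actA x TT.X) (actA x TT.r)
      (aa (TT.t * b) (actA x TT.X) (actA x TT.r) u) = u := by
    intro u hu
    rw [← hbt, ← hf u hu, ← hf _ (actA_b x hu), invol_actA x h hu]
  obtain ⟨h1, h2⟩ := inv_odd_fix b hb _ hl hinv
  rw [sg_actA hp hg x]
  refine ⟨fun hs => ?_, fun hs u hu => ?_⟩
  · obtain ⟨i, hi, he, w, hw, hwt⟩ := h1 hs
    refine ⟨i, hi, ?_, w, hw, hbt.trans hwt⟩
    rw [hf _ (cj_rho_pow (S := S) rfl i).2, hbt]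
    exact he
  · rw [hf u ((bList_spec u).mp hu).2, hbt]
    exact h2 hs u hu

theorem unique_class (hp : S.IsPatFour) (hg : ∀ g : S.N, Good g) {x : N1 S}
    (hs : sg (actA x) = true) {i j : ℕ} (hi : i < 3) (hj : j < 3)
    (h1 : eqv (actA x (rhoT^[i] TT.r)) (rhoT^[i] TT.r) = true)
    (h2 : eqv (actA x (rhoT^[j] TT.r)) (rhoT^[j] TT.r) = true) : i = j := by
  obtain ⟨-, hl, hf⟩ := actA_form hp hg x
  rw [sg_actA hp hg x] at hs
  have hbl : ∀ k < 3, ((rhoT^[k] TT.r).b = false ∧ (rhoT^[k] TT.r).e = false) := by decide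
  have e : ∀ k < 3, actA x (rhoT^[k] TT.r) = aa 1 (actA x TT.X) (actA x TT.r) (rhoT^[k] TT.r) := by
    intro k hk
    rw [hf _ (hbl k hk).1]
    simp only [aa, (hbl k hk).2, cond_false]
  rw [e i hi] at h1
  rw [e j hj] at h2
  exact odd_unique _ hl hs i hi j hj h1 h2

/-- The conjugates in `N(A₁)` reversing the classes are translates of those in `N(T)`. -/
theorem odd_translates (hp : S.IsPatFour) (hg : ∀ g : S.N, Good g)
    (Q : N1 S → Bool) (q : (TT → TT) → Bool)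
    (hQ : ∀ x : N1 S, ∀ i < 3,
      Q (⟨S.ρ ^ i, rho_pow_mem i⟩⁻¹ * x * ⟨S.ρ ^ i, rho_pow_mem i⟩) = Q x)
    (hq : ∀ y (hy : y ∈ S.N), Q ⟨y, N_le_N1 hp hg hy⟩ = q (S.act (⟨y, hy⟩ : S.N))) :
    {y | IsConj S.t y ∧ ∃ h : y ∈ N1 S, (sg (actA ⟨y, h⟩) && Q ⟨y, h⟩) = true}.ncard =
      3 * (cnt S fun f => oddF f && q f).ncard := by
  rw [← ncard_translates (S := S) (cnt S fun f => oddF f && q f)]
  · congr 1
    ext y'
    constructor
    · rintro ⟨hy', hN, hh⟩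
      obtain ⟨hs, hQy⟩ := Bool.and_eq_true_iff.mp hh
      obtain ⟨i, hi, he, w, hw, ht⟩ := (invol_cases hp hg ⟨y', hN⟩ hy').1 hs
      set R : N1 S := ⟨S.ρ ^ i, rho_pow_mem i⟩ with hR
      set x : N1 S := R * ⟨y', hN⟩ * R⁻¹ with hx
      have hxx : R⁻¹ * x * R = ⟨y', hN⟩ := by rw [hx]; group
      have hwb : w.b = false := (by decide : ∀ w ∈ pList, w.b = false) w hw
      have hact : ∀ u : TT, u.b = false →
          rhoT^[i] (actA x u) = actA ⟨y', hN⟩ (rhoT^[i] u) := fun u hu => by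
        rw [← hxx, hR, actA_conj x i hu]
      have hxt : actA x TT.t = w :=
        (rho_iter i hi).1 _ _ (actA_b x rfl) hwb (by rw [hact _ rfl, (rho_iter i hi).2.1, ht])
      have hxr : eqv (actA x TT.r) TT.r = true := by
        rw [← (rho_iter i hi).2.2.2.2 _ _ (actA_b x rfl) rfl, hact _ rfl]; exact he
      have hxN : (x : G) ∈ S.N := mem_N_of_class hp hg x (by rw [hxt]; exact hw) hxr
      have hcj : cj (S.ρ ^ i) (x : G) = y' :=
        congrArg (fun n : N1 S => (n : G)) hxx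
      refine ⟨x, ⟨?_, hxN, ?_⟩, i, hi, hcj⟩
      · rw [← isConj_cj_iff (t := S.t) (S.ρ ^ i), hcj]; exact hy'
      · rw [Bool.and_eq_true_iff, ← sg_eq_odd hp hg hxN, ← hq _ hxN]
        exact ⟨by rw [← sg_conj hp hg x R, hxx]; exact hs, by rw [← hQ x i hi, hxx]; exact hQy⟩
    · rintro ⟨y, ⟨hy, hyN, hh⟩, i, hi, rfl⟩
      obtain ⟨hs, hQy⟩ := Bool.and_eq_true_iff.mp hh
      have hN1 := N_le_N1 hp hg hyN
      refine ⟨(isConj_cj_iff _ _).mpr hy,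
        mul_mem (mul_mem (inv_mem (rho_pow_mem i)) hN1) (rho_pow_mem i), ?_⟩
      rw [Bool.and_eq_true_iff]
      show sg (actA (⟨S.ρ ^ i, rho_pow_mem i⟩⁻¹ * ⟨y, hN1⟩ * ⟨S.ρ ^ i, rho_pow_mem i⟩)) = true ∧
        Q (⟨S.ρ ^ i, rho_pow_mem i⟩⁻¹ * ⟨y, hN1⟩ * ⟨S.ρ ^ i, rho_pow_mem i⟩) = true
      rw [sg_conj hp hg, hQ _ i hi, sg_eq_odd hp hg hyN, hq _ hyN]
      exact ⟨hs, hQy⟩
  · rintro y ⟨-, hyN, hh⟩ y' ⟨-, hy'N, hh'⟩ i hi j hj he
    obtain ⟨hs, -⟩ := Bool.and_eq_true_iff.mp hh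
    have hfix : ∀ (z : G) (hz : z ∈ S.N) (k : ℕ), k < 3 →
        eqv (actA (⟨S.ρ ^ k, rho_pow_mem k⟩⁻¹ * ⟨z, N_le_N1 hp hg hz⟩ *
          ⟨S.ρ ^ k, rho_pow_mem k⟩ : N1 S) (rhoT^[k] TT.r)) (rhoT^[k] TT.r) = true := by
      intro z hz k hk
      rw [actA_conj _ k rfl, actA_eq_act hp hg hz rfl, (hg _).1,
        (rho_iter k hk).2.2.2.2 _ _ rfl rfl]
      decide
    have h2 := hfix y' hy'N j hj
    rw [show (⟨S.ρ ^ j, rho_pow_mem j⟩⁻¹ * ⟨y', N_le_N1 hp hg hy'N⟩ *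
        ⟨S.ρ ^ j, rho_pow_mem j⟩ : N1 S) = ⟨S.ρ ^ i, rho_pow_mem i⟩⁻¹ *
        ⟨y, N_le_N1 hp hg hyN⟩ * ⟨S.ρ ^ i, rho_pow_mem i⟩ from Subtype.ext he.symm] at h2
    exact unique_class hp hg (by rw [sg_conj hp hg, sg_eq_odd hp hg hyN]; exact hs) hi hj
      (hfix y hyN i hi) h2

/-- The count of reversing elements is divisible by 16. -/
theorem side_sign (hno : ∀ K : Subgroup G, K.index ≠ 2) (hp : S.IsPatFour)
    (hg : ∀ g : S.N, Good g) : 16 ∣ (cnt S oddF).ncard := by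
  have h1 : {y | IsConj S.t y ∧ ∃ h : y ∈ N1 S, sg (actA ⟨y, h⟩) = true}.ncard =
      3 * (cnt S oddF).ncard := by
    have := odd_translates hp hg (fun _ => true) (fun _ => true) (fun _ _ _ => rfl) (fun _ _ => rfl)
    simpa only [Bool.and_true] using this
  obtain ⟨m, ⟨k, rfl⟩, hd⟩ := flag_dvd hno hp hg (fun x => sg (actA x)) (sg_mul hp hg)
    ⟨⟨S.j TT.Y, T_le_N1 (S.j_mem _)⟩, by
      rw [sg_congr (f' := fun u => TT.Y⁻¹ * u * TT.Y)
        (fun b hb => actA_eq ((bList_spec b).mp hb).2 (S.cj_j b TT.Y))]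
      decide +kernel⟩ h1
  have h16 : 16 ∣ (2 * k + 1) * (cnt S oddF).ncard := by
    obtain ⟨j, hj⟩ := hd
    exact ⟨j, by linarith⟩
  exact (Nat.Coprime.dvd_mul_left (Nat.Coprime.pow_left 4
    (Nat.coprime_two_left.mpr ⟨k, rfl⟩ : Nat.Coprime 2 (2 * k + 1)))).mp h16

/-- The action moves `t` by `w`. -/
def shiftF (w : TT) (f : TT → TT) : Bool := decide (f TT.t = TT.t * w)

/-- The even conjugates with the nontrivial block permutation. -/
theorem even_count_split (hp : S.IsPatFour) (hg : ∀ g : S.N, Good g) {w1 : TT}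
    (hw : w1 ∈ [TT.z, TT.r]) :
    {y | IsConj S.t y ∧ ∃ h : y ∈ N1 S,
        (!sg (actA ⟨y, h⟩) && P1 w1 (actA ⟨y, h⟩ TT.t)) = true}.ncard =
      (cnt S fun f => !oddF f && shiftF vv f).ncard +
        3 * (cnt S fun f => !oddF f && shiftF w1 f).ncard := by
  classical
  have hinN : ∀ x : N1 S, IsConj S.t (x : G) → sg (actA x) = false → actA x TT.t ∈ pList →
      (x : G) ∈ S.N := fun x hx hs ht =>
    mem_N_of_class hp hg x ht ((invol_cases hp hg x hx).2 hs TT.r (by decide))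
  have hwp : TT.t * w1 ∈ pList ∧ (TT.t * w1).b = false :=
    (by decide : ∀ w ∈ [TT.z, TT.r], TT.t * w ∈ pList ∧ (TT.t * w).b = false) w1 hw
  rw [← ncard_translates (S := S) (cnt S fun f => !oddF f && shiftF w1 f), ← Set.ncard_union_eq]
  · congr 1
    ext y'
    constructor
    · rintro ⟨hy', hN, hh⟩
      obtain ⟨hs, hP⟩ := Bool.and_eq_true_iff.mp hh
      simp only [Bool.not_eq_true'] at hs
      obtain ⟨⟨b, hb, hbt⟩, -, -⟩ := actA_form hp hg (⟨y', hN⟩ : N1 S)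
      rw [hbt] at hP
      rcases (P1_cases w1 hw b hb).1.mp hP with e | ⟨i, hi, e⟩
      · have hyN := hinN ⟨y', hN⟩ hy' hs (by rw [hbt, e]; decide)
        refine Or.inl ⟨hy', hyN, ?_⟩
        rw [Bool.and_eq_true_iff, Bool.not_eq_true', ← sg_eq_odd hp hg hyN, shiftF,
          decide_eq_true_iff, ← actA_eq_act hp hg hyN rfl]
        exact ⟨hs, hbt.trans e⟩
      · refine Or.inr ?_
        set R : N1 S := ⟨S.ρ ^ i, rho_pow_mem i⟩ with hR
        set x : N1 S := R * ⟨y', hN⟩ * R⁻¹ with hx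
        have hxx : R⁻¹ * x * R = ⟨y', hN⟩ := by rw [hx]; group
        have hxt : actA x TT.t = TT.t * w1 := by
          refine (rho_iter i hi).1 _ _ (actA_b x rfl) hwp.2 ?_
          rw [← actA_conj x i rfl, ← hR, hxx, (rho_iter i hi).2.1, hbt, e]
        have hcj : cj (S.ρ ^ i) (x : G) = y' :=
          congrArg (fun n : N1 S => (n : G)) hxx
        have hxc : IsConj S.t (x : G) := by
          rw [← isConj_cj_iff (t := S.t) (S.ρ ^ i), hcj]; exact hy'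
        have hxs : sg (actA x) = false := by rw [← sg_conj hp hg x R, hxx]; exact hs
        have hxN := hinN x hxc hxs (by rw [hxt]; exact hwp.1)
        refine ⟨x, ⟨hxc, hxN, ?_⟩, i, hi, hcj⟩
        rw [Bool.and_eq_true_iff, Bool.not_eq_true', ← sg_eq_odd hp hg hxN, shiftF,
          decide_eq_true_iff, ← actA_eq_act hp hg hxN rfl]
        exact ⟨hxs, hxt⟩
    · rintro (⟨hy, hyN, hh⟩ | ⟨y, ⟨hy, hyN, hh⟩, i, hi, rfl⟩)
      · obtain ⟨hs, ht⟩ := Bool.and_eq_true_iff.mp hh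
        simp only [shiftF, decide_eq_true_iff] at ht
        refine ⟨hy, N_le_N1 hp hg hyN, ?_⟩
        rw [sg_eq_odd hp hg hyN, actA_eq_act hp hg hyN rfl, ht, Bool.and_eq_true_iff]
        exact ⟨hs, (by decide : ∀ w ∈ [TT.z, TT.r], P1 w (TT.t * vv) = true) w1 hw⟩
      · obtain ⟨hs, ht⟩ := Bool.and_eq_true_iff.mp hh
        simp only [shiftF, decide_eq_true_iff] at ht
        have hN1 := N_le_N1 hp hg hyN
        refine ⟨(isConj_cj_iff _ _).mpr hy,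
          mul_mem (mul_mem (inv_mem (rho_pow_mem i)) hN1) (rho_pow_mem i), ?_⟩
        show (!sg (actA (⟨S.ρ ^ i, rho_pow_mem i⟩⁻¹ * ⟨y, hN1⟩ * ⟨S.ρ ^ i, rho_pow_mem i⟩)) &&
          P1 w1 (actA (⟨S.ρ ^ i, rho_pow_mem i⟩⁻¹ * ⟨y, hN1⟩ * ⟨S.ρ ^ i, rho_pow_mem i⟩) TT.t)) =
          true
        have e : actA (⟨S.ρ ^ i, rho_pow_mem i⟩⁻¹ * ⟨y, hN1⟩ * ⟨S.ρ ^ i, rho_pow_mem i⟩ : N1 S)
            TT.t = rhoT^[i] (TT.t * w1) := by
          have h := actA_conj (⟨y, hN1⟩ : N1 S) i (u := TT.t) rfl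
          rw [(rho_iter i hi).2.1] at h
          rw [h, actA_eq_act hp hg hyN rfl, ht]
        rw [sg_conj hp hg, sg_eq_odd hp hg hyN, e, Bool.and_eq_true_iff]
        exact ⟨hs, (by decide +kernel : ∀ w ∈ [TT.z, TT.r], ∀ i < 3,
          P1 w (rhoT^[i] (TT.t * w)) = true) w1 hw i hi⟩
  · rw [Set.disjoint_left]
    rintro y ⟨-, hyN, hh⟩ ⟨x, ⟨-, hxN, hh'⟩, i, hi, e⟩
    obtain ⟨-, ht⟩ := Bool.and_eq_true_iff.mp hh
    obtain ⟨-, ht'⟩ := Bool.and_eq_true_iff.mp hh'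
    simp only [shiftF, decide_eq_true_iff] at ht ht'
    have h := actA_conj (⟨x, N_le_N1 hp hg hxN⟩ : N1 S) i (u := TT.t) rfl
    rw [show (⟨S.ρ ^ i, rho_pow_mem i⟩⁻¹ * ⟨x, N_le_N1 hp hg hxN⟩ * ⟨S.ρ ^ i, rho_pow_mem i⟩ :
        N1 S) = ⟨y, N_le_N1 hp hg hyN⟩ from Subtype.ext e, (rho_iter i hi).2.1,
      actA_eq_act hp hg hxN rfl, actA_eq_act hp hg hyN rfl, ht, ht'] at h
    exact (by decide +kernel : ∀ w ∈ [TT.z, TT.r], ∀ i < 3,
      TT.t * vv ≠ rhoT^[i] (TT.t * w)) w1 hw i hi h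
  · rintro y ⟨-, hyN, hh⟩ y' ⟨-, hy'N, hh'⟩ i hi j hj e
    obtain ⟨-, ht⟩ := Bool.and_eq_true_iff.mp hh
    obtain ⟨-, ht'⟩ := Bool.and_eq_true_iff.mp hh'
    simp only [shiftF, decide_eq_true_iff] at ht ht'
    have h1 := actA_conj (⟨y, N_le_N1 hp hg hyN⟩ : N1 S) i (u := TT.t) rfl
    have h2 := actA_conj (⟨y', N_le_N1 hp hg hy'N⟩ : N1 S) j (u := TT.t) rfl
    rw [show (⟨S.ρ ^ j, rho_pow_mem j⟩⁻¹ * ⟨y', N_le_N1 hp hg hy'N⟩ * ⟨S.ρ ^ j, rho_pow_mem j⟩ :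
        N1 S) = ⟨S.ρ ^ i, rho_pow_mem i⟩⁻¹ * ⟨y, N_le_N1 hp hg hyN⟩ * ⟨S.ρ ^ i, rho_pow_mem i⟩
        from Subtype.ext e.symm, (rho_iter j hj).2.1, actA_eq_act hp hg hy'N rfl, ht'] at h2
    rw [(rho_iter i hi).2.1, actA_eq_act hp hg hyN rfl, ht] at h1
    exact (P1_cases w1 hw TT.r (by decide)).2 i hi j hj (h1.symm.trans h2)

/-- The count for the block permutation is divisible by 16. -/
theorem side_block (hno : ∀ K : Subgroup G, K.index ≠ 2) (hp : S.IsPatFour)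
    (hg : ∀ g : S.N, Good g) {w1 : TT} (hw : w1 ∈ [TT.z, TT.r])
    (hblock : ∀ n : S.N, ∃ s, ∀ u : TT, u.b = false → u.e = true →
      P1 w1 (S.act n u) = xor (P1 w1 u) s) :
    16 ∣ 3 * (cnt S fun f => oddF f && P1 w1 (f TT.t)).ncard +
      (cnt S fun f => !oddF f && shiftF vv f).ncard +
      3 * (cnt S fun f => !oddF f && shiftF w1 f).ncard := by
  classical
  have hex : ∀ x : N1 S, Blk w1 x (P1 w1 (actA x TT.t)) := blk_exists hp hg hw hblock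
  have hhom : ∀ x y : N1 S,
      P1 w1 (actA (x * y) TT.t) = xor (P1 w1 (actA x TT.t)) (P1 w1 (actA y TT.t)) :=
    fun x y => ((hex x).comp hp (hex y)).value hw
  have hone : P1 w1 (actA (1 : N1 S) TT.t) = false := by
    rw [actA_eq (x := (1 : N1 S)) (w := TT.t) rfl (by simp)]
    exact (by decide : ∀ w ∈ [TT.z, TT.r], P1 w TT.t = false) w1 hw
  have hQ : ∀ x : N1 S, ∀ i < 3,
      P1 w1 (actA (⟨S.ρ ^ i, rho_pow_mem i⟩⁻¹ * x * ⟨S.ρ ^ i, rho_pow_mem i⟩ : N1 S) TT.t) =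
        P1 w1 (actA x TT.t) := by
    intro x i _
    have h := hhom (⟨S.ρ ^ i, rho_pow_mem i⟩⁻¹ : N1 S) ⟨S.ρ ^ i, rho_pow_mem i⟩
    rw [inv_mul_cancel, hone] at h
    rw [hhom, hhom]
    revert h
    generalize P1 w1 (actA (⟨S.ρ ^ i, rho_pow_mem i⟩⁻¹ : N1 S) TT.t) = a
    generalize P1 w1 (actA (⟨S.ρ ^ i, rho_pow_mem i⟩ : N1 S) TT.t) = b
    generalize P1 w1 (actA x TT.t) = c
    revert a b c
    decide
  have hodd := odd_translates hp hg (fun x => P1 w1 (actA x TT.t)) (fun f => P1 w1 (f TT.t)) hQ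
    (fun y hy => by rw [actA_eq_act hp hg hy rfl])
  have heven := even_count_split hp hg hw
  have hsum : {y | IsConj S.t y ∧ ∃ h : y ∈ N1 S, P1 w1 (actA ⟨y, h⟩ TT.t) = true}.ncard =
      3 * (cnt S fun f => oddF f && P1 w1 (f TT.t)).ncard +
      (cnt S fun f => !oddF f && shiftF vv f).ncard +
      3 * (cnt S fun f => !oddF f && shiftF w1 f).ncard := by
    rw [add_assoc, ← hodd, ← heven, ← Set.ncard_union_eq ?_ (Set.toFinite _) (Set.toFinite _)]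
    · congr 1
      ext y
      constructor
      · rintro ⟨hy, hN, hP⟩
        cases hs : sg (actA (⟨y, hN⟩ : N1 S))
        · exact Or.inr ⟨hy, hN, by rw [hs, hP]; rfl⟩
        · exact Or.inl ⟨hy, hN, by rw [hs, hP]; rfl⟩
      · rintro (⟨hy, hN, hh⟩ | ⟨hy, hN, hh⟩) <;>
          exact ⟨hy, hN, (Bool.and_eq_true_iff.mp hh).2⟩
    · rw [Set.disjoint_left]
      rintro y ⟨-, hN, hh⟩ ⟨-, _, hh'⟩
      simp only [Bool.and_eq_true_iff, Bool.not_eq_true'] at hh hh'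
      rw [hh.1] at hh'
      exact absurd hh'.1 (by decide)
  obtain ⟨n, hn⟩ := S.exists_mem_N (u := TT.t * vv) (by decide) ((hp _).mpr (by decide))
  obtain ⟨m, ⟨k, rfl⟩, hd⟩ := flag_dvd hno hp hg (fun x => P1 w1 (actA x TT.t)) hhom
    ⟨⟨n, N_le_N1 hp hg n.2⟩, by
      rw [actA_eq_act hp hg n.2 rfl, Subtype.coe_eta, hn]
      exact (by decide : ∀ w ∈ [TT.z, TT.r], P1 w (TT.t * vv) = true) w1 hw⟩ hsum
  exact (Nat.Coprime.dvd_mul_left (Nat.Coprime.pow_left 4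
    (Nat.coprime_two_left.mpr ⟨k, rfl⟩ : Nat.Coprime 2 (2 * k + 1)))).mp
      (dvd_trans (by norm_num) hd)

end Setup

end CfsgLib.Z2S6
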