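import Cfsg.Agent.Z2S6.Coords
import Cfsg.Agent.Z2S6.Side

/-!
# The finite check
-/

set_option autoImplicit false
set_option linter.unusedSectionVars false
set_option linter.style.haveILetI false

open Subgroup

namespace CfsgLib.Z2S6

/-- The representative with index `i`. -/
def rp (i : ℕ) : MM :=
  (⟨i.testBit 0, i.testBit 1, i.testBit 2, false, false⟩, i.testBit 3, i.testBit 4)

theorem reps_eq : reps = (List.range 32).map rp := by decide +kernel

/-- The commuting relation modulo `W`, row by row; `cc`, `cd` are the coordinates of `c`. -/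
def rowTab : Bool → Bool → Bool → Bool → List ℕ
  | false, false, false, false => [4294967295, 255, 252645135, 4026531855, 858993459, 3422552115, 3284386755, 1006633155, 1431655765, 43605, 84215045, 1352665605, 286331153, 1149772305, 1094795585, 338199105,
      1431655765, 11141205, 84215045, 1342873605, 286331153, 1143113745, 1094795585, 344074305, 1431655765, 2852126805, 2779096485, 1509949605, 2576980377, 1711276185, 1768515945, 2516582505]
  | false, false, false, true => [4294967295, 255, 252645135, 4026531855, 858993459, 3422552115, 3284386755, 1006633155, 21845, 1437248085, 1347421445, 84544005, 1145311505, 287449617, 336871745, 1099072065,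
      5570645, 1437248085, 1342525445, 84544005, 1141982225, 287449617, 339809345, 1099072065, 1437248085, 2852126805, 2774162085, 1509949605, 2573624985, 1711276185, 1771476585, 2516582505]
  | false, false, true, false => [4294967295, 255, 252645135, 4026531855, 858993459, 3422552115, 3284386755, 1006633155, 2863289685, 43605, 168428805, 2689600005, 572657937, 2286166545, 2189574465, 672432705,
      5570645, 2863289685, 2684723205, 168428805, 2282850321, 572657937, 675358785, 2189574465, 1426063445, 2863289685, 2768240805, 1515890085, 2566914201, 1718000025, 1761607785, 2526439785]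
  | false, false, true, true => [4294967295, 255, 252645135, 4026531855, 858993459, 3422552115, 3284386755, 1006633155, 21845, 2857740885, 2694841605, 168102405, 2290618641, 571548177, 673726785, 2185331265,
      2857740885, 11141205, 168102405, 2685030405, 571548177, 2283947025, 2185331265, 679613505, 1426063445, 2857740885, 2768240805, 1520786085, 2566914201, 1721329305, 1761607785, 2523502185]
  | false, true, false, false => [4294967295, 255, 252645135, 4026531855, 13107, 13369395, 50115, 3932355, 1431655765, 43605, 84215045, 1352665605, 572657937, 2286166545, 2189574465, 672432705,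
      84215045, 2685030405, 2779096485, 5898405, 404259201, 1109661825, 1212686625, 310659105, 84215045, 178278405, 84215045, 173056005, 2425358601, 1611042825, 1616906505, 2416336905]
  | false, true, false, true => [4294967295, 255, 252645135, 4026531855, 13107, 13369395, 50115, 3932355, 21845, 1437248085, 1347421445, 84544005, 2290618641, 571548177, 673726785, 2185331265,
      2684723205, 84544005, 10813605, 2774162085, 1108878465, 405029505, 306742305, 1216614945, 84544005, 173056005, 84544005, 178278405, 2422212105, 1611227145, 1620051465, 2416545801]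
  | false, true, true, false => [4294967295, 255, 252645135, 4026531855, 13107, 13369395, 50115, 3932355, 2863289685, 43605, 168428805, 2689600005, 286331153, 1149772305, 1094795585, 338199105,
      1342525445, 168428805, 10813605, 1515890085, 2165840001, 606372225, 558385185, 2223251745, 89149445, 168428805, 94412805, 168428805, 2416545801, 1616906505, 1611227145, 2425358601]
  | false, true, true, true => [4294967295, 255, 252645135, 4026531855, 13107, 13369395, 50115, 3932355, 21845, 2857740885, 2694841605, 168102405, 1145311505, 287449617, 336871745, 1099072065,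
      168102405, 1342873605, 1520786085, 5898405, 605569665, 2166629505, 2219315745, 562332705, 94412805, 168102405, 89149445, 168102405, 2416336905, 1620051465, 1611042825, 2422212105]
  | true, false, false, false => [4294967295, 255, 983055, 3855, 858993459, 3422552115, 12779715, 50115, 2576980377, 26265, 101254665, 1616906505, 286331153, 2286166545, 1115767425, 606372225,
      1431655765, 11141205, 2684723205, 168428805, 286331153, 1143113745, 675358785, 2189574465, 286331153, 579355665, 2216789025, 1212686625, 286331153, 574916625, 1210140705, 2223251745]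
  | true, false, false, true => [4294967295, 255, 983055, 3855, 858993459, 3422552115, 12779715, 50115, 39321, 2573624985, 1620051465, 101058825, 2290618641, 287449617, 605569665, 1111654785,
      5570645, 1437248085, 168102405, 2685030405, 1141982225, 287449617, 2185331265, 679613505, 287449617, 574916625, 2215790625, 1216614945, 287449617, 579355665, 1209173025, 2219315745]
  | true, false, true, false => [4294967295, 255, 983055, 3855, 858993459, 3422552115, 12779715, 50115, 1718000025, 26265, 151389705, 2425358601, 572657937, 1149772305, 2168603265, 404259201,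
      5570645, 2863289685, 84215045, 1342873605, 2282850321, 572657937, 1094795585, 344074305, 289686545, 572657937, 2223251745, 1209173025, 294160401, 572657937, 1212686625, 2215790625]
  | true, false, true, true => [4294967295, 255, 983055, 3855, 858993459, 3422552115, 12779715, 50115, 39321, 1721329305, 2422212105, 151587081, 1145311505, 571548177, 405029505, 2172748161,
      2857740885, 11141205, 1342525445, 84544005, 571548177, 2283947025, 339809345, 1099072065, 294160401, 571548177, 2219315745, 1210140705, 289686545, 571548177, 1216614945, 2216789025]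
  | true, true, false, false => [4294967295, 255, 983055, 3855, 13107, 13369395, 3271557315, 1010615235, 2576980377, 26265, 101254665, 1616906505, 572657937, 1149772305, 2168603265, 404259201,
      84215045, 2685030405, 10813605, 1515890085, 404259201, 1109661825, 558385185, 2223251745, 1094795585, 2183664705, 612443265, 404259201, 404259201, 608311425, 1093150785, 2189574465]
  | true, true, false, true => [4294967295, 255, 983055, 3855, 13107, 13369395, 3271557315, 1010615235, 39321, 2573624985, 1620051465, 101058825, 1145311505, 571548177, 405029505, 2172748161,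
      2684723205, 84544005, 1520786085, 5898405, 1108878465, 405029505, 2219315745, 562332705, 1099072065, 2182359105, 608311425, 405029505, 405029505, 612443265, 1091834945, 2185331265]
  | true, true, true, false => [4294967295, 255, 983055, 3855, 13107, 13369395, 3271557315, 1010615235, 1718000025, 26265, 151389705, 2425358601, 286331153, 2286166545, 1115767425, 606372225,
      1342525445, 168428805, 2779096485, 5898405, 2165840001, 606372225, 1212686625, 310659105, 1091834945, 2189574465, 606372225, 406987905, 411113601, 606372225, 1094795585, 2182359105]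
  | true, true, true, true => [4294967295, 255, 983055, 3855, 13107, 13369395, 3271557315, 1010615235, 39321, 1721329305, 2422212105, 151587081, 2290618641, 287449617, 605569665, 1111654785,
      168102405, 1342873605, 10813605, 2774162085, 605569665, 2166629505, 306742305, 1216614945, 1093150785, 2185331265, 605569665, 411113601, 406987905, 605569665, 1099072065, 2183664705]

/-- The commuting relation on indices. -/
def cmI (p1 p2 cc cd : Bool) (i j : ℕ) : Bool :=
  Nat.testBit ((rowTab p1 p2 cc cd).getD i 0) j

set_option synthInstance.maxSize 100000 in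
theorem cmI_eq : ∀ p1 p2 : Bool, ∀ c ∈ wList, ∀ i < 32, ∀ j < 32,
    cmI p1 p2 c.c c.d i j = mcomm p1 p2 c (rp i) (rp j) := by decide +kernel

/-- The action of an element in coordinates. -/
def actM (p1 p2 : Bool) (x : MM) (u : TT) : TT :=
  let v := x.1⁻¹ * u * x.1
  let v' := bif x.2.1 then aG p1 v else v
  bif x.2.2 then aK p2 v' else v'

/-- The action in the swapped coordinates. -/
def actS (p1 p2 : Bool) (x : MM) (u : TT) : TT :=
  Setup.swapT (actM p1 p2 x (Setup.swapT u))

/-- The block parameter of a side. -/
def w1Of (p : Bool) : TT := bif p then TT.z else TT.r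

/-- Odd on the first side. -/
def oddA (p1 : Bool) (i : ℕ) : Bool := xor (i.testBit 2) (p1 && i.testBit 3)
/-- Shift `v` on the first side. -/
def vA (i : ℕ) : Bool := i.testBit 4 && !i.testBit 3
/-- Shift `w₁` on the first side. -/
def wA (p1 : Bool) (i : ℕ) : Bool :=
  bif p1 then i.testBit 3 && i.testBit 4 else i.testBit 3 && !i.testBit 4
/-- Odd on the second side. -/
def oddB (i : ℕ) : Bool := i.testBit 1
/-- Shift `v` on the second side. -/
def vB (i : ℕ) : Bool := i.testBit 3 && !i.testBit 4
/-- Shift `w₁` on the second side. -/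
def wB (p2 : Bool) (i : ℕ) : Bool :=
  bif p2 then i.testBit 3 && i.testBit 4 else i.testBit 4 && !i.testBit 3

theorem sideA_eq : ∀ p1 p2 : Bool, ∀ i < 32,
    oddF (actM p1 p2 (rp i)) = oddA p1 i ∧
    Setup.shiftF vv (actM p1 p2 (rp i)) = vA i ∧
    Setup.shiftF (w1Of p1) (actM p1 p2 (rp i)) = wA p1 i ∧
    P1 (w1Of p1) (actM p1 p2 (rp i) TT.t) = (vA i || wA p1 i) := by
  decide +kernel

theorem sideB_eq : ∀ p1 p2 : Bool, ∀ i < 32,
    oddF (actS p1 p2 (rp i)) = oddB i ∧
    Setup.shiftF vv (actS p1 p2 (rp i)) = vB i ∧
    Setup.shiftF (w1Of p2) (actS p1 p2 (rp i)) = wB p2 i ∧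
    P1 (w1Of p2) (actS p1 p2 (rp i) TT.t) = (vB i || wB p2 i) := by
  decide +kernel

/-- Possible outer classes. -/
def candI (p1 p2 : Bool) (c : TT) : List ℕ :=
  ((List.range 24).map (· + 8)).filter fun i =>
    decide (mmul p1 p2 c (rp i) (rp i) = (1, false, false)) &&
      (reps.countP (mcomm p1 p2 c (rp i)) == 8)

/-- The conditions for a side. -/
def sideOk (odd v w : ℕ → Bool) (l : List ℕ) : Bool :=
  decide (4 ∣ l.countP odd) &&
    decide (4 ∣ 3 * l.countP (fun i => odd i && (v i || w i)) + l.countP (fun i => !odd i && v i) +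
      3 * l.countP (fun i => !odd i && w i))

/-- All conditions on a set of classes. -/
def allOk (p1 p2 : Bool) (c : TT) (l : List ℕ) : Bool :=
  (l.all fun i => l.countP (cmI p1 p2 c.c c.d i) == 3) &&
    sideOk (oddA p1) vA (wA p1) l && sideOk oddB vB (wB p2) l

/-- The surviving configurations. -/
def survivor (p1 p2 : Bool) (c : TT) (l : List ℕ) : Bool :=
  decide (p1 = false ∧ p2 = true ∧ c = TT.r * TT.z ∧ l = [1, 3, 5, 8, 10, 12, 23, 30]) ||
    decide (p1 = true ∧ p2 = false)

set_option synthInstance.maxSize 100000 in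
theorem search : ∀ p1 p2 : Bool, ∀ c ∈ wList, ∀ s ∈ (candI p1 p2 c).sublists,
    (!allOk p1 p2 c (1 :: 3 :: 5 :: s) || survivor p1 p2 c (1 :: 3 :: 5 :: s)) = true := by
  decide +kernel

theorem range_split : List.range 32 = List.range 8 ++ (List.range 24).map (· + 8) := by decide

namespace Setup

variable {G : Type*} [Group G] [Finite G] {S : Setup G} (F : Frame S)

namespace Frame

theorem act_el' (x : MM) (u : TT) :
    S.act ⟨F.el x, F.el_mem x⟩ u = actM F.p1 F.p2 x u := F.act_el x u

theorem actM_mw (x : MM) {w : TT} (hw : w ∈ wList) :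
    actM F.p1 F.p2 (mw x w) = actM F.p1 F.p2 x := by
  funext u
  have e : (x.1 * w)⁻¹ * u * (x.1 * w) = x.1⁻¹ * u * x.1 :=
    (by decide +kernel : ∀ w ∈ wList, ∀ v u : TT,
      (v * w)⁻¹ * u * (v * w) = v⁻¹ * u * v) w hw x.1 u
  simp only [actM, mw, e]

/-- The classes of the conjugates of `t`. -/
noncomputable def classes : List ℕ := (List.range 32).filter fun i => F.conjT (rp i)

theorem count_classes (q : MM → Bool) :
    reps.countP (fun x => F.conjT x && q x) = F.classes.countP (q ∘ rp) := by
  rw [reps_eq, List.countP_map, classes, List.countP_filter]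
  exact List.countP_congr fun i _ => by simp [and_comm]

theorem ncard_cnt (hp : S.IsPatFour) (hg : ∀ g : S.N, Good g) (q : (TT → TT) → Bool) :
    (cnt S q).ncard = 4 * F.classes.countP (fun i => q (actM F.p1 F.p2 (rp i))) := by
  have e : cnt S q = F.el '' {x | (F.conjT x && q (actM F.p1 F.p2 x)) = true} := by
    ext y
    constructor
    · rintro ⟨hy, hN, hq⟩
      obtain ⟨x, rfl⟩ := F.el_surj hp hN
      refine ⟨x, Bool.and_eq_true_iff.mpr ⟨F.conjT_iff.mpr hy, ?_⟩, rfl⟩
      rwa [show S.act ⟨F.el x, hN⟩ = actM F.p1 F.p2 x from funext (F.act_el' x)] at hq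
    · rintro ⟨x, hx, rfl⟩
      obtain ⟨h1, h2⟩ := Bool.and_eq_true_iff.mp hx
      refine ⟨F.conjT_iff.mp h1, F.el_mem x, ?_⟩
      rwa [show S.act ⟨F.el x, F.el_mem x⟩ = actM F.p1 F.p2 x from funext (F.act_el' x)]
  rw [e, Set.ncard_image_of_injective _ F.el_inj, ← countM_eq_ncard,
    countM_of_invariant _ (fun x w hw => by rw [F.conjT_mw hp hg x hw, F.actM_mw x hw]),
    F.count_classes]
  rfl

theorem ncard_cnt_swap (hp : S.IsPatFour) (hg : ∀ g : S.N, Good g) (q : (TT → TT) → Bool) :
    (cnt S.swap q).ncard = 4 * F.classes.countP (fun i => q (actS F.p1 F.p2 (rp i))) := by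
  have e : cnt S.swap q = cnt S fun f => q fun u => swapT (f (swapT u)) := by
    ext y
    constructor
    · rintro ⟨hy, hN, hq⟩
      have hN' : y ∈ S.N := swap_N (S := S) ▸ hN
      refine ⟨hy, hN', ?_⟩
      rwa [show S.swap.act ⟨y, hN⟩ = fun u => swapT (S.act ⟨y, hN'⟩ (swapT u)) from
        funext (swap_act hN' hN)] at hq
    · rintro ⟨hy, hN, hq⟩
      have hN' : y ∈ S.swap.N := (swap_N (S := S)).symm ▸ hN
      refine ⟨hy, hN', ?_⟩
      rwa [show S.swap.act ⟨y, hN'⟩ = fun u => swapT (S.act ⟨y, hN⟩ (swapT u)) from
        funext (swap_act hN hN')]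
  rw [e, F.ncard_cnt hp hg]
  rfl

theorem sideOk_of_dvd {odd v w : ℕ → Bool} {l : List ℕ} {a b : ℕ} (ha : 4 * l.countP odd = a)
    (h : 16 ∣ a) (hb : 3 * (4 * l.countP fun i => odd i && (v i || w i)) +
      4 * l.countP (fun i => !odd i && v i) + 3 * (4 * l.countP fun i => !odd i && w i) = b)
    (h' : 16 ∣ b) : sideOk odd v w l = true := by
  simp only [sideOk, Bool.and_eq_true, decide_eq_true_eq]
  omega

theorem classes_cases (hno : ∀ K : Subgroup G, K.index ≠ 2) (hp : S.IsPatFour)
    (hg : ∀ g : S.N, Good g) :
    (F.p1 = false ∧ F.p2 = true ∧ F.c = TT.r * TT.z ∧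
      F.classes = [1, 3, 5, 8, 10, 12, 23, 30]) ∨ (F.p1 = true ∧ F.p2 = false) := by
  have hmem : ∀ i ∈ F.classes, i < 32 ∧ F.conjT (rp i) = true := fun i hi => by
    obtain ⟨h1, h2⟩ := List.mem_filter.mp hi
    exact ⟨List.mem_range.mp h1, h2⟩
  -- shape
  have hshape : ∃ s ∈ (candI F.p1 F.p2 F.c).sublists, F.classes = 1 :: 3 :: 5 :: s := by
    refine ⟨(candI F.p1 F.p2 F.c).filter fun i => F.conjT (rp i),
      List.mem_sublists.mpr List.filter_sublist, ?_⟩
    rw [classes, range_split, List.filter_append]
    have h8 : (List.range 8).filter (fun i => F.conjT (rp i)) =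
        (List.range 8).filter (fun i => twelve (rp i).1) := by
      refine List.filter_congr fun i hi => ?_
      rw [← F.conjT_T hp]
      congr 1
      exact (by decide : ∀ i ∈ List.range 8, rp i = ((rp i).1, false, false)) i hi
    rw [h8, show (List.range 8).filter (fun i => twelve (rp i).1) = [1, 3, 5] by decide +kernel]
    simp only [List.cons_append, List.nil_append, List.cons.injEq, true_and]
    rw [candI, List.filter_filter]
    refine List.filter_congr fun i _ => ?_
    cases h : F.conjT (rp i)
    · simp
    · simp [F.conj_sq_one hg h, F.count_eight hp hg h]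
  obtain ⟨s, hs, hl⟩ := hshape
  have hcm : ∀ i < 32, ∀ j < 32,
      cmI F.p1 F.p2 F.c.c F.c.d i j = mcomm F.p1 F.p2 F.c (rp i) (rp j) :=
    cmI_eq F.p1 F.p2 _ F.c_mem
  have hdeg : (F.classes.all fun i =>
      F.classes.countP (cmI F.p1 F.p2 F.c.c F.c.d i) == 3) = true := by
    refine List.all_eq_true.mpr fun i hi => ?_
    obtain ⟨hi32, hic⟩ := hmem i hi
    have h := F.conjT_deg hp hg hic
    rw [F.count_classes] at h
    rw [beq_iff_eq, ← h]
    exact List.countP_congr fun j hj => by rw [hcm i hi32 j (hmem j hj).1]; rfl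
  have hcountA : ∀ (q : (TT → TT) → Bool) (f : ℕ → Bool),
      (∀ i < 32, q (actM F.p1 F.p2 (rp i)) = f i) →
      (cnt S q).ncard = 4 * F.classes.countP f := by
    intro q f h
    rw [F.ncard_cnt hp hg]
    congr 1
    exact List.countP_congr fun i hi => by rw [h i (hmem i hi).1]
  have hcountB : ∀ (q : (TT → TT) → Bool) (f : ℕ → Bool),
      (∀ i < 32, q (actS F.p1 F.p2 (rp i)) = f i) →
      (cnt S.swap q).ncard = 4 * F.classes.countP f := by
    intro q f h
    rw [F.ncard_cnt_swap hp hg]
    congr 1
    exact List.countP_congr fun i hi => by rw [h i (hmem i hi).1]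
  have hblockA : ∀ n : S.N, ∃ b, ∀ u : TT, u.b = false → u.e = true →
      P1 (w1Of F.p1) (S.act n u) = xor (P1 (w1Of F.p1) u) b := by
    rintro ⟨n, hn⟩
    obtain ⟨x, rfl⟩ := F.el_surj hp hn
    obtain ⟨i, w, hw, e⟩ : ∃ i, ∃ w ∈ wList, x = mw (rp i) w := by
      obtain ⟨hr, w, hw, e⟩ := cls_spec x
      rw [reps_eq] at hr
      obtain ⟨i, -, hi⟩ := List.mem_map.mp hr
      exact ⟨i, w, hw, by rw [hi]; exact e⟩
    refine ⟨P1 (w1Of F.p1) (actM F.p1 F.p2 x TT.t), fun u hu he => ?_⟩
    rw [show S.act ⟨F.el x, hn⟩ u = actM F.p1 F.p2 x u from F.act_el' x u, e, F.actM_mw _ hw]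
    obtain ⟨hr, -⟩ := cls_spec (rp i)
    exact (by decide +kernel : ∀ p1 p2 : Bool, ∀ r ∈ reps, ∀ u : TT, u.b = false → u.e = true →
      P1 (w1Of p1) (actM p1 p2 r u) = xor (P1 (w1Of p1) u) (P1 (w1Of p1) (actM p1 p2 r TT.t)))
      F.p1 F.p2 (rp i) (by
        have : rp i = cls (rp i) := rfl
        rw [this]; exact hr) u hu he
  have hblockB : ∀ n : S.swap.N, ∃ b, ∀ u : TT, u.b = false → u.e = true →
      P1 (w1Of F.p2) (S.swap.act n u) = xor (P1 (w1Of F.p2) u) b := by
    rintro ⟨n, hn'⟩
    have hn : n ∈ S.N := swap_N (S := S) ▸ hn'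
    obtain ⟨x, rfl⟩ := F.el_surj hp hn
    obtain ⟨i, w, hw, e⟩ : ∃ i, ∃ w ∈ wList, x = mw (rp i) w := by
      obtain ⟨hr, w, hw, e⟩ := cls_spec x
      rw [reps_eq] at hr
      obtain ⟨i, -, hi⟩ := List.mem_map.mp hr
      exact ⟨i, w, hw, by rw [hi]; exact e⟩
    refine ⟨P1 (w1Of F.p2) (actS F.p1 F.p2 x TT.t), fun u hu he => ?_⟩
    rw [swap_act hn hn', F.act_el' x]
    show P1 _ (actS F.p1 F.p2 x u) = _
    simp only [actS]
    rw [e, F.actM_mw _ hw]
    obtain ⟨hr, -⟩ := cls_spec (rp i)
    exact (by decide +kernel : ∀ p1 p2 : Bool, ∀ r ∈ reps, ∀ u : TT, u.b = false → u.e = true →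
      P1 (w1Of p2) (actS p1 p2 r u) = xor (P1 (w1Of p2) u) (P1 (w1Of p2) (actS p1 p2 r TT.t)))
      F.p1 F.p2 (rp i) (by
        have : rp i = cls (rp i) := rfl
        rw [this]; exact hr) u hu he
  have hw1 : ∀ p : Bool, w1Of p ∈ [TT.z, TT.r] := by decide
  have hA : sideOk (oddA F.p1) vA (wA F.p1) F.classes = true := by
    have hs' := fun i hi => sideA_eq F.p1 F.p2 i hi
    refine sideOk_of_dvd (hcountA oddF _ fun i hi => (hs' i hi).1).symm
      (side_sign hno hp hg) ?_ (side_block hno hp hg (hw1 F.p1) hblockA)
    rw [hcountA _ (fun i => oddA F.p1 i && (vA i || wA F.p1 i))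
        (fun i hi => by obtain ⟨a, b, c, d⟩ := hs' i hi; rw [a, d]),
      hcountA _ (fun i => !oddA F.p1 i && vA i)
        (fun i hi => by obtain ⟨a, b, c, d⟩ := hs' i hi; rw [a, b]),
      hcountA _ (fun i => !oddA F.p1 i && wA F.p1 i)
        (fun i hi => by obtain ⟨a, b, c, d⟩ := hs' i hi; rw [a, c])]
  have hB : sideOk oddB vB (wB F.p2) F.classes = true := by
    have hp' := swap_patFour hp
    have hg' := swap_good hp hg
    have hs' := fun i hi => sideB_eq F.p1 F.p2 i hi
    refine sideOk_of_dvd (hcountB oddF _ fun i hi => (hs' i hi).1).symm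
      (side_sign hno hp' hg') ?_ (side_block hno hp' hg' (hw1 F.p2) hblockB)
    rw [hcountB _ (fun i => oddB i && (vB i || wB F.p2 i))
        (fun i hi => by obtain ⟨a, b, c, d⟩ := hs' i hi; rw [a, d]),
      hcountB _ (fun i => !oddB i && vB i)
        (fun i hi => by obtain ⟨a, b, c, d⟩ := hs' i hi; rw [a, b]),
      hcountB _ (fun i => !oddB i && wB F.p2 i)
        (fun i hi => by obtain ⟨a, b, c, d⟩ := hs' i hi; rw [a, c])]
  have hok : allOk F.p1 F.p2 F.c F.classes = true := by
    simp only [allOk, Bool.and_eq_true]
    exact ⟨⟨hdeg, hA⟩, hB⟩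
  have := search F.p1 F.p2 F.c F.c_mem s hs
  rw [← hl, hok] at this
  simpa [survivor] using this

end Frame

end Setup

end CfsgLib.Z2S6
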