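import Cfsg.Agent.Z2S6.AllGood

/-!
# Normalised coset representatives of `T` in `N(T)`

When every element of `N(T)` is good, `W = ⟨r, z⟩` is central in `N(T)` and there are involutions
`g`, `k` in `N(T)` with `t^g = tr`, `Y^g = Y` and `t^k = trz`, `X^k = X`.
-/

set_option autoImplicit false
set_option linter.unusedSectionVars false
set_option linter.style.haveILetI false

open Subgroup

namespace CfsgLib.Z2S6

/-- The coset `XW`. -/
def xList : List TT := [TT.X, TT.X * TT.z, TT.X * TT.r, TT.X * TT.r * TT.z]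
/-- The coset `YW`. -/
def yList : List TT := [TT.Y, TT.Y * TT.z, TT.Y * TT.r, TT.Y * TT.r * TT.z]

/-- The action of `g` in coordinates. -/
def aG (p1 : Bool) (u : TT) : TT :=
  Setup.af (TT.t * TT.r) (bif p1 then TT.X * TT.r else TT.X) TT.Y TT.r u

/-- The action of `k` in coordinates. -/
def aK (p2 : Bool) (u : TT) : TT :=
  Setup.af (TT.t * (TT.r * TT.z)) TT.X (bif p2 then TT.Y * TT.r else TT.Y) TT.r u

namespace Setup

variable {G : Type*} [Group G] {S : Setup G}

/-- Powers of `ρ` on `A₁`. -/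
theorem cj_rho_pow {v : TT} (hv : v.b = false) :
    ∀ i : ℕ, cj (S.ρ ^ i) (S.j v) = S.j (rhoT^[i] v) ∧ (rhoT^[i] v).b = false := by
  intro i
  induction i with
  | zero => exact ⟨by simp, hv⟩
  | succ n ih =>
    rw [pow_succ, ← cj_cj, ih.1, Function.iterate_succ_apply', S.cj_rho_eq ih.2]
    exact ⟨rfl, (by decide +kernel : ∀ u : TT, u.b = false → (rhoT u).b = false) _ ih.2⟩

theorem cj_word_rho (w : TT) (i : ℕ) {v : TT} (hv : v.b = false) :
    cj (S.j w * S.ρ ^ i) (S.j v) = S.j (rhoT^[i] (w⁻¹ * v * w)) := by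
  rw [← cj_cj, S.cj_j]
  exact (cj_rho_pow
    ((by decide +kernel : ∀ v w : TT, v.b = false → (w⁻¹ * v * w).b = false) v w hv) i).1

theorem swap_T : S.swap.T = S.T := by
  ext x
  constructor
  · rintro ⟨u, rfl⟩; rw [swap_j]; exact S.j_mem _
  · rintro ⟨u, rfl⟩
    exact ⟨swapT u, by rw [swap_j, swapT_swapT]⟩

theorem swap_N : S.swap.N = S.N := by
  show Subgroup.normalizer (S.swap.T : Set G) = Subgroup.normalizer (S.T : Set G)
  rw [swap_T]

theorem swap_patFour (hp : S.IsPatFour) : S.swap.IsPatFour := by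
  intro u
  rw [swap_E, hp]
  have : ∀ u, pat false false false true true true (swapT u) =
      pat false false false true true true u := by decide +kernel
  rw [this]

variable [Finite G]

theorem swap_act {g : G} (hg : g ∈ S.N) (hg' : g ∈ S.swap.N) (u : TT) :
    S.swap.act ⟨g, hg'⟩ u = swapT (S.act ⟨g, hg⟩ (swapT u)) := by
  apply S.swap.j_inj
  rw [j_act, swap_j, swap_j, swapT_swapT, j_act]

/-- The parameters of a good element. -/
theorem good_params (hp : S.IsPatFour) (hg : ∀ g : S.N, Good g) (g : S.N) :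
    S.act g TT.t ∈ pList ∧ S.act g TT.X ∈ xList ∧ S.act g TT.Y ∈ yList ∧
      ∀ u, S.act g u = af (S.act g TT.t) (S.act g TT.X) (S.act g TT.Y) TT.r u := by
  obtain ⟨h1, h2, h3, -, hb, hf⟩ := act_params hp g
  rw [(hg g).1] at hf
  have hX := (hg g).2
  have hY : (S.act g TT.Y).b = true := by
    rw [hX] at hb; simpa using hb
  exact ⟨h1, (by decide : ∀ x ∈ ncList, x.b = false → x ∈ xList) _ h2 hX,
    (by decide : ∀ y ∈ ncList, y.b = true → y ∈ yList) _ h3 hY, hf⟩

theorem swap_good (hp : S.IsPatFour) (hg : ∀ g : S.N, Good g) : ∀ g : S.swap.N, Good g := by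
  rintro ⟨g, hg'⟩
  have hgN : g ∈ S.N := swap_N (S := S) ▸ hg'
  obtain ⟨hp', hx, hy, hf⟩ := good_params hp hg ⟨g, hgN⟩
  rw [Good, swap_act hgN, swap_act hgN, hf (swapT TT.r), hf (swapT TT.X)]
  exact (by decide +kernel : ∀ p ∈ pList, ∀ x ∈ xList, ∀ y ∈ yList,
    swapT (af p x y TT.r (swapT TT.r)) = TT.r ∧ (swapT (af p x y TT.r (swapT TT.X))).b = false)
    _ hp' _ hx _ hy

theorem sq_mem_T (hp : S.IsPatFour) (hg : ∀ g : S.N, Good g) (g : S.N) :
    ((g * g : S.N) : G) ∈ S.T := by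
  obtain ⟨hp', hx, hy, hf⟩ := good_params hp hg g
  rw [S.mem_T_iff_act_t, S.act_comp, hf (S.act g TT.t)]
  exact (by decide +kernel : ∀ p ∈ pList, ∀ x ∈ xList, ∀ y ∈ yList,
    af p x y TT.r p = TT.t) _ hp' _ hx _ hy

/-- An element moving `t` to `trz` sends `X` to `X` or `Xz`. -/
theorem act_X_of_trz (hp : S.IsPatFour) (hg : ∀ g : S.N, Good g) {k : S.N}
    (hk : S.act k TT.t = TT.t * (TT.r * TT.z)) :
    S.act k TT.X = TT.X ∨ S.act k TT.X = TT.X * TT.z := by
  obtain ⟨-, hx, hy, hf⟩ := good_params hp hg k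
  rw [hk] at hf
  set h : G := (k : G)⁻¹ * S.ρ * k with hh
  have key : ∀ v : TT, v.b = false →
      cj h (S.j (S.act k v)) = S.j (S.act k (rhoT v)) := by
    intro v hv
    rw [j_act, j_act, ← S.cj_rho_eq hv, hh]
    unfold cj
    group
  have ht : cj h S.t = S.t := by
    have h1 := key (TT.t * (TT.r * TT.z)) (by decide)
    rw [(by decide : rhoT (TT.t * (TT.r * TT.z)) = TT.t * (TT.r * TT.z))] at h1
    have h2 : S.act k (TT.t * (TT.r * TT.z)) = TT.t := by
      rw [hf]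
      exact (by decide +kernel : ∀ x ∈ xList, ∀ y ∈ yList,
        af (TT.t * (TT.r * TT.z)) x y TT.r (TT.t * (TT.r * TT.z)) = TT.t) _ hx _ hy
    rwa [h2, j_t] at h1
  obtain ⟨w, i, hi, (e : h = S.j w * S.ρ ^ i)⟩ := S.normA h ((cj_eq_iff_commute _ _).mp ht) (fun u hu => by
    have hsur : ∀ x ∈ xList, ∀ y ∈ yList, ∀ u : TT, u.b = false →
        ∃ v : TT, v.b = false ∧ af (TT.t * (TT.r * TT.z)) x y TT.r v = u ∧
          (af (TT.t * (TT.r * TT.z)) x y TT.r (rhoT v)).b = false := by decide +kernel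
    obtain ⟨v, hv, hvu, hb⟩ := hsur _ hx _ hy u hu
    refine ⟨S.act k (rhoT v), by rw [hf]; exact hb, ?_⟩
    show cj h (S.j u) = S.j _
    rw [← key v hv, hf v, hvu])
  have h3 : ∀ v : TT, v.b = false → (S.act k v).b = false →
      rhoT^[i] (w⁻¹ * S.act k v * w) = S.act k (rhoT v) := by
    intro v hv hv'
    apply S.j_inj
    rw [← cj_word_rho w i hv', ← e, key v hv]
  have hxb : (S.act k TT.X).b = false := (hg k).2
  have e1 := h3 TT.X (by decide) hxb
  have e2 := h3 TT.r (by decide) (by rw [(hg k).1]; rfl)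
  rw [(hg k).1, (by decide : rhoT TT.r = TT.X)] at e2
  rw [(by decide : rhoT TT.X = TT.X * TT.z), S.act_mul, S.act_z] at e1
  exact (by decide +kernel : ∀ x ∈ xList, ∀ i < 3, ∀ w : TT,
    rhoT^[i] (w⁻¹ * x * w) = x * TT.z → rhoT^[i] (w⁻¹ * TT.r * w) = x →
      x = TT.X ∨ x = TT.X * TT.z) _ hx i hi w e1 e2

theorem act_mul_T (g : S.N) (w u : TT) :
    S.act (g * ⟨S.j w, S.T_le_N (S.j_mem w)⟩) u = w⁻¹ * S.act g u * w := by
  rw [S.act_comp, S.act_of_mem_T]

/-- An involution moving `t` to `trz` and fixing `X`. -/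
theorem exists_k (hp : S.IsPatFour) (hg : ∀ g : S.N, Good g) :
    ∃ k : S.N, (k : G) * k = 1 ∧ S.act k TT.t = TT.t * (TT.r * TT.z) ∧ S.act k TT.X = TT.X := by
  obtain ⟨k0, hk0⟩ := S.exists_mem_N (u := TT.t * (TT.r * TT.z)) (by decide)
    ((hp _).mpr (by decide))
  obtain ⟨k, hkt, hkX⟩ :
      ∃ k : S.N, S.act k TT.t = TT.t * (TT.r * TT.z) ∧ S.act k TT.X = TT.X := by
    rcases act_X_of_trz hp hg hk0 with e | e
    · exact ⟨k0, hk0, e⟩
    · refine ⟨k0 * ⟨S.j TT.Y, S.T_le_N (S.j_mem _)⟩, ?_, ?_⟩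
      · rw [act_mul_T, hk0]; decide
      · rw [act_mul_T, e]; decide
  obtain ⟨-, -, hy, hf⟩ := good_params hp hg k
  rw [hkt, hkX] at hf
  obtain ⟨u, hu⟩ := sq_mem_T hp hg k
  have hu' : S.j u = (k : G) * k := hu
  have hub : u.b = false ∧ u.e = false := by
    have h1 : u⁻¹ * TT.X * u = TT.X := by
      rw [← S.act_of_mem_T u, show (⟨S.j u, _⟩ : S.N) = k * k from Subtype.ext hu', S.act_comp,
        hkX, hkX]
    have h2 : S.act k u = u := by
      apply S.j_inj
      rw [j_act, hu', cj_eq_iff_commute, mul_assoc]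
    rw [hf] at h2
    exact (by decide +kernel : ∀ y ∈ yList, ∀ u : TT, u⁻¹ * TT.X * u = TT.X →
      af (TT.t * (TT.r * TT.z)) TT.X y TT.r u = u → u.b = false ∧ u.e = false) _ hy u h1 h2
  -- `ρ` centralizes `k` modulo `A₁`
  have hcomm : ∀ v : TT, v.b = false →
      cj ((k : G) * S.ρ) (S.j v) = cj (S.ρ * k) (S.j v) := by
    intro v hv
    have hd : ∀ y ∈ yList, ∀ v : TT, v.b = false →
        (af (TT.t * (TT.r * TT.z)) TT.X y TT.r v).b = false ∧
          rhoT (af (TT.t * (TT.r * TT.z)) TT.X y TT.r v) =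
            af (TT.t * (TT.r * TT.z)) TT.X y TT.r (rhoT v) := by decide +kernel
    obtain ⟨d1, d2⟩ := hd _ hy v hv
    rw [← cj_cj, ← cj_cj, ← j_act, hf v, S.cj_rho_eq d1, S.cj_rho_eq hv, ← j_act, hf (rhoT v), d2]
  set c : G := (S.ρ * k)⁻¹ * ((k : G) * S.ρ) with hc
  have hfix : ∀ u : TT, u.b = false → cj c (S.j u) = S.j u := by
    intro u hu
    have hsur : ∀ y ∈ yList, ∀ u : TT, u.b = false → ∃ v : TT, v.b = false ∧
        af (TT.t * (TT.r * TT.z)) TT.X y TT.r (rhoT v) = u := by decide +kernel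
    obtain ⟨v, hv, hvu⟩ := hsur _ hy u hu
    have h1 : cj (S.ρ * k) (S.j v) = S.j u := by
      rw [← cj_cj, S.cj_rho_eq hv, ← j_act, hf, hvu]
    rw [← h1, cj_cj, hc, mul_inv_cancel_left, hcomm v hv]
  have hct : c * S.t = S.t * c := by
    have := hfix TT.t (by decide)
    rw [j_t] at this
    exact (cj_eq_iff_commute _ _).mp this
  obtain ⟨a, i, hi, (ha : c = S.j a * S.ρ ^ i)⟩ := S.normA c hct fun u hu => ⟨u, hu, hfix u hu⟩
  have hai : i = 0 ∧ a.b = false := by
    refine (by decide +kernel : ∀ i < 3, ∀ a : TT,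
      (∀ v : TT, v.b = false → rhoT^[i] (a⁻¹ * v * a) = v) → i = 0 ∧ a.b = false) i hi a
      fun v hv => S.j_inj ?_
    rw [← cj_word_rho a i hv, ← ha, hfix v hv]
  rw [hai.1, pow_zero, mul_one] at ha
  have hρk : cj S.ρ (k : G) = k * S.j a := by rw [← ha, hc]; unfold cj; group
  have hsq : rhoT u = u * (S.act k a * a) := by
    apply S.j_inj
    rw [map_mul, map_mul, hu', ← S.cj_rho_eq hub.1, hu', cj_mul, hρk, j_act]
    unfold cj
    group
  rw [hf] at hsq
  have hu2 : u = 1 ∨ u = TT.r * TT.z :=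
    (by decide +kernel : ∀ y ∈ yList, ∀ u a : TT, u.b = false → u.e = false → a.b = false →
      rhoT u = u * (af (TT.t * (TT.r * TT.z)) TT.X y TT.r a * a) → u = 1 ∨ u = TT.r * TT.z)
      _ hy u a hub.1 hub.2 hai.2 hsq
  rcases hu2 with e | e
  · exact ⟨k, by rw [← hu', e, map_one], hkt, hkX⟩
  · refine ⟨k * ⟨S.j TT.t, S.T_le_N (S.j_mem _)⟩, ?_, ?_, ?_⟩
    · show (k : G) * S.j TT.t * ((k : G) * S.j TT.t) = 1
      have h : (k : G) * S.j TT.t * ((k : G) * S.j TT.t) =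
          (k : G) * k * (cj (k : G) (S.j TT.t) * S.j TT.t) := by unfold cj; group
      rw [h, ← hu', ← j_act, hkt, ← map_mul, ← map_mul, e]
      rw [← map_one S.j]
      exact congrArg S.j (by decide)
    · rw [act_mul_T, hkt]; decide
    · rw [act_mul_T, hkX]; decide

/-- Normalised representatives. -/
structure Frame (S : Setup G) [Finite G] where
  /-- the element moving `t` to `tr` -/
  g : S.N
  /-- the element moving `t` to `trz` -/
  k : S.N
  /-- `g` moves `X` to `Xr` -/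
  p1 : Bool
  /-- `k` moves `Y` to `Yr` -/
  p2 : Bool
  /-- the commutator -/
  c : TT
  g_sq : (g : G) * g = 1
  k_sq : (k : G) * k = 1
  act_g : ∀ u, S.act g u = aG p1 u
  act_k : ∀ u, S.act k u = aK p2 u
  cW : cen c = true ∧ c.e = false
  kg : (k : G) * g = g * k * S.j c

theorem exists_frame (hp : S.IsPatFour) (hg : ∀ g : S.N, Good g) : Nonempty (Frame S) := by
  obtain ⟨k0, hk2, hkt, hkX⟩ := exists_k hp hg
  obtain ⟨⟨gg, hgN'⟩, hg2, hgt, hgX⟩ := exists_k (swap_patFour hp) (swap_good hp hg)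
  have hgN : gg ∈ S.N := swap_N (S := S) ▸ hgN'
  rw [swap_act hgN] at hgt hgX
  set g0 : S.N := ⟨gg, hgN⟩ with hg0
  obtain ⟨hpg, hxg, hyg, hfg⟩ := good_params hp hg g0
  have hgtY : S.act g0 TT.t = TT.t * TT.r ∧ S.act g0 TT.Y = TT.Y := by
    rw [hfg] at hgt hgX
    exact (by decide +kernel : ∀ p ∈ pList, ∀ x ∈ xList, ∀ y ∈ yList,
      swapT (af p x y TT.r (swapT TT.t)) = TT.t * (TT.r * TT.z) →
      swapT (af p x y TT.r (swapT TT.X)) = TT.X → p = TT.t * TT.r ∧ y = TT.Y)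
      _ hpg _ hxg _ hyg hgt hgX
  have adjust : ∀ (w : TT) (g : S.N), w * w = 1 → (g : G) * g = 1 → S.act g w = w →
      ((g : G) * S.j w) * ((g : G) * S.j w) = 1 := by
    intro w g hw hg2' hgw
    have h : (g : G) * S.j w * ((g : G) * S.j w) =
        (g : G) * g * (cj (g : G) (S.j w) * S.j w) := by unfold cj; group
    rw [h, hg2', ← j_act, hgw, ← map_mul, hw, map_one, one_mul]
  obtain ⟨g, p1, hg2', hg1⟩ : ∃ (g : S.N) (p1 : Bool), (g : G) * g = 1 ∧
      ∀ u, S.act g u = aG p1 u := by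
    let e : Bool := (S.act g0 TT.X).d
    refine ⟨g0 * ⟨S.j (bif e then TT.Y else 1), S.T_le_N (S.j_mem _)⟩, (S.act g0 TT.X).c, ?_, ?_⟩
    · refine adjust _ g0 ?_ hg2 ?_
      · cases e <;> decide
      · cases e
        · exact S.act_one g0
        · exact hgtY.2
    · intro u
      rw [act_mul_T, hfg, hgtY.1, hgtY.2]
      exact (by decide +kernel : ∀ x ∈ xList, ∀ u : TT,
        (bif x.d then TT.Y else 1)⁻¹ * af (TT.t * TT.r) x TT.Y TT.r u *
          (bif x.d then TT.Y else 1) = aG x.c u) _ hxg u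
  obtain ⟨-, -, hyk, hfk⟩ := good_params hp hg k0
  obtain ⟨k, p2, hk2', hk1⟩ : ∃ (k : S.N) (p2 : Bool), (k : G) * k = 1 ∧
      ∀ u, S.act k u = aK p2 u := by
    let e : Bool := (S.act k0 TT.Y).d
    refine ⟨k0 * ⟨S.j (bif e then TT.X else 1), S.T_le_N (S.j_mem _)⟩, (S.act k0 TT.Y).c, ?_, ?_⟩
    · refine adjust _ k0 ?_ hk2 ?_
      · cases e <;> decide
      · cases e
        · exact S.act_one k0
        · exact hkX
    · intro u
      rw [act_mul_T, hfk, hkt, hkX]
      exact (by decide +kernel : ∀ y ∈ yList, ∀ u : TT,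
        (bif y.d then TT.X else 1)⁻¹ * af (TT.t * (TT.r * TT.z)) TT.X y TT.r u *
          (bif y.d then TT.X else 1) = aK y.c u) _ hyk u
  -- the commutator
  obtain ⟨c, hc⟩ := sq_mem_T hp hg (k * g)
  have hc' : S.j c = (k : G) * g * ((k : G) * g) := hc
  have hid : ∀ u : TT, c⁻¹ * u * c = u := by
    intro u
    rw [← S.act_of_mem_T c, show (⟨S.j c, _⟩ : S.N) = k * g * (k * g) from Subtype.ext hc',
      S.act_comp, S.act_comp k g, S.act_comp k g, hk1, hg1, hk1, hg1]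
    exact (by decide +kernel : ∀ (a b : Bool) (u : TT), aG a (aK b (aG a (aK b u))) = u) p1 p2 u
  have hcen : cen c = true :=
    (by decide +kernel : ∀ c : TT, (∀ u : TT, c⁻¹ * u * c = u) → cen c = true) c hid
  have hk3 : ∀ x : G, (k : G) * ((k : G) * x) = x := fun x => by rw [← mul_assoc, hk2', one_mul]
  have hg3 : ∀ x : G, (g : G) * ((g : G) * x) = x := fun x => by rw [← mul_assoc, hg2', one_mul]
  have hinv : S.j (c⁻¹) = (g : G) * k * ((g : G) * k) := by
    rw [map_inv, hc']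
    refine inv_eq_of_mul_eq_one_right ?_
    simp only [mul_assoc, hk3, hg3]
    rw [hk2']
  have hgc : aG p1 c = c⁻¹ := by
    rw [← hg1]
    apply S.j_inj
    rw [j_act, hinv, hc', cj, inv_eq_of_mul_eq_one_right hg2']
    simp only [mul_assoc, hg2', mul_one]
  have hce : c.e = false :=
    (by decide +kernel : ∀ (a : Bool) (c : TT), cen c = true → aG a c = c⁻¹ → c.e = false)
      p1 c hcen hgc
  refine ⟨⟨g, k, p1, p2, c, hg2', hk2', hg1, hk1, ⟨hcen, hce⟩, ?_⟩⟩
  rw [hc']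
  simp only [mul_assoc, hk3, hg3]

end Setup

end CfsgLib.Z2S6
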