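import Cfsg.Agent.Z2S6.Basic
import Mathlib.GroupTheory.Perm.Cycle.Type
import Mathlib.GroupTheory.Nilpotent
import Mathlib.GroupTheory.IndexNormal

/-!
# The possible fusion patterns of `t` in its centralizer

If `G` has no subgroup of index two, then (after possibly twisting) the conjugates of `t` in
`T = ⟨t⟩ × D₈ × ℤ/2` are either `{t} ∪ t·(class of z)` or `t` times all involutions of the factor.
-/

set_option autoImplicit false
set_option linter.unusedSectionVars false
set_option linter.style.haveILetI false

open Subgroup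

namespace CfsgLib.Z2S6

namespace Setup

variable {G : Type*} [Group G] (S : Setup G)

/-- The pattern of conjugates of `t` given by its values at `r, z, rz, tr, tz, trz`. -/
def pat (da db dc dta dtb dtc : Bool) (u : TT) : Bool :=
  decide (u * u = 1) &&
    (bif (rep u).e then
      (bif (rep u).c then (bif (rep u).d then dtc else dta) else (bif (rep u).d then dtb else true))
    else
      (bif (rep u).c then (bif (rep u).d then dc else da) else (bif (rep u).d then db else false)))

theorem E_eq_pat : ∃ da db dc dta dtb dtc : Bool,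
    ∀ u, S.E u ↔ pat da db dc dta dtb dtc u = true := by
  classical
  refine ⟨decide (S.E TT.r), decide (S.E TT.z), decide (S.E (TT.r * TT.z)),
    decide (S.E (TT.t * TT.r)), decide (S.E (TT.t * TT.z)), decide (S.E (TT.t * TT.r * TT.z)),
    fun u => ?_⟩
  by_cases hu : u * u = 1
  · have hr : rep u = ⟨(rep u).e, false, false, (rep u).c, (rep u).d⟩ :=
      (by decide +kernel : ∀ v : TT, v * v = 1 →
        rep v = ⟨(rep v).e, false, false, (rep v).c, (rep v).d⟩) u hu
    rw [S.E_rep u, pat, decide_eq_true hu, Bool.true_and]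
    generalize rep u = w at hr
    obtain ⟨e, a, b, c, d⟩ := w
    simp only [TT.mk.injEq, true_and, and_true] at hr
    obtain ⟨rfl, rfl⟩ := hr
    cases e <;> cases c <;> cases d <;>
      simp only [cond_true, cond_false, decide_eq_true_eq]
    · exact iff_of_false S.not_E_one (by simp)
    · exact Iff.rfl
    · exact Iff.rfl
    · exact Iff.rfl
    · exact iff_of_true S.E_t trivial
    · exact Iff.rfl
    · exact Iff.rfl
    · exact Iff.rfl
  · exact iff_of_false (S.not_E_of_sq hu) (by simp [pat, hu])

/-- An additive Boolean coordinate. -/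
def additive (f : TT → Bool) : Prop := ∀ u v : TT, f (u * v) = xor (f u) (f v)

variable [Finite G]

/-- Number of conjugates of `t` in `T` outside the kernel of a Boolean homomorphism. -/
theorem even_count (hno : ∀ K : Subgroup G, K.index ≠ 2) (f : TT → Bool) (hf : additive f)
    (hne : ∃ u, f u = true) (p : TT → Bool) (hp : ∀ u, S.E u ↔ p u = true) :
    Even (Finset.univ.filter fun u => p u = true ∧ f u = true).card := by
  classical
  have hf1 : f 1 = false := by
    have h := hf 1 1
    rw [mul_one] at h
    cases hh : f 1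
    · rfl
    · rw [hh] at h; simp at h
  let K0 : Subgroup TT :=
    { carrier := {u | f u = false}
      one_mem' := hf1
      mul_mem' := fun {a b} ha hb => by
        simp only [Set.mem_ofPred_eq] at ha hb ⊢; rw [hf, ha, hb]; rfl
      inv_mem' := fun {a} ha => by
        simp only [Set.mem_ofPred_eq] at ha ⊢
        have h := hf a a⁻¹
        rw [mul_inv_cancel, hf1, ha] at h
        simpa using h.symm }
  have h2 : K0.index = 2 := by
    rw [index_eq_two_iff]
    obtain ⟨a, ha⟩ := hne
    refine ⟨a, fun b => ?_⟩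
    show Xor (f (b * a) = false) (f b = false)
    rw [hf, ha]
    cases f b <;> simp [Xor]
  have hrel : (K0.map S.j).relIndex S.T = 2 := by
    rw [T, MonoidHom.range_eq_map, relIndex_map_map_of_injective K0 ⊤ S.j_inj, relIndex_top_right]
    exact h2
  have hle : K0.map S.j ≤ S.T := by rintro _ ⟨u, -, rfl⟩; exact S.j_mem u
  have h := dvd_of_index_two hno S.t_sq hle hrel
  have hset : {y : G | IsConj S.t y ∧ y ∈ S.T ∧ y ∉ K0.map S.j} =
      S.j '' {u | p u = true ∧ f u = true} := by
    ext y
    simp only [Set.mem_ofPred_eq, Set.mem_image]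
    constructor
    · rintro ⟨hy, ⟨u, rfl⟩, hK⟩
      refine ⟨u, ⟨(hp u).mp hy, ?_⟩, rfl⟩
      cases hfu : f u
      · exact absurd ⟨u, hfu, rfl⟩ hK
      · rfl
    · rintro ⟨u, ⟨hu, hfu⟩, rfl⟩
      refine ⟨(hp u).mpr hu, S.j_mem u, ?_⟩
      rintro ⟨v, hv, hvu⟩
      rw [S.j_inj hvu] at hv
      have : f u = false := hv
      rw [hfu] at this; cases this
  obtain ⟨m, ⟨k, rfl⟩, hC⟩ := S.card_C
  rw [hset, Set.ncard_image_of_injective _ S.j_inj, S.card_T, hC, Set.ncard_eq_toFinset_card'] at h
  obtain ⟨c, hc⟩ := h
  simp only [Set.toFinset_ofPred] at hc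
  rw [Nat.even_iff]
  generalize (Finset.univ.filter fun u => p u = true ∧ f u = true).card = n at hc ⊢
  have h2 : (2 * k + 1) * n = 2 * c := by linarith
  have := congrArg (· % 2) h2
  simp [Nat.mul_mod, Nat.add_mod] at this
  omega

theorem not_E_z : ¬ S.E TT.z := by
  intro h
  obtain ⟨g, hg⟩ := S.exists_mem_N (by decide) h
  rw [← S.act_z g] at hg
  exact absurd (S.act_inj g hg) (by decide)

/-- The map of the center of `T` sending `t, r, z` to `p, q, z`. -/
def lin (p q u : TT) : TT :=
  (bif u.e then p else 1) * ((bif u.c then q else 1) * (bif u.d then TT.z else 1))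

/-- Central coordinates. -/
def cen (u : TT) : Bool := !u.a && !u.b

theorem cen_iff : ∀ u : TT, (∀ v, u * v = v * u) ↔ cen u = true := by decide +kernel

theorem act_cen (g : S.N) {u : TT} (hu : cen u = true) :
    S.act g u = lin (S.act g TT.t) (S.act g TT.r) u := by
  have e : ∀ u : TT, cen u = true →
      u = (bif u.e then TT.t else 1) * ((bif u.c then TT.r else 1) * (bif u.d then TT.z else 1)) := by
    decide +kernel
  nth_rewrite 1 [e u hu]
  rw [act_mul, act_mul, lin]
  congr 1
  · cases u.e <;> simp [act_one]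
  · congr 1
    · cases u.c <;> simp [act_one]
    · cases u.d <;> simp [act_one, act_z]

theorem cen_act (g : S.N) {u : TT} (hu : cen u = true) : cen (S.act g u) = true :=
  (cen_iff _).mp fun v => S.act_central g ((cen_iff u).mpr hu) v

theorem act_T_cen {g : S.N} (hg : (g : G) ∈ S.T) {u : TT} (hu : cen u = true) :
    S.act g u = u := by
  obtain ⟨v, hv⟩ := hg
  have hg' : g = ⟨S.j v, S.T_le_N (S.j_mem v)⟩ := Subtype.ext hv.symm
  rw [hg', S.act_of_mem_T, mul_assoc, (cen_iff u).mpr hu, inv_mul_cancel_left]

theorem ncard_orbit (p : TT → Bool) (hp : ∀ u, S.E u ↔ p u = true) :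
    S.orbit.ncard = (Finset.univ.filter fun u => cen u = true ∧ p u = true).card := by
  rw [← Set.ncard_coe_finset]
  congr 1
  ext u
  simp [orbit, cen_iff, hp]

theorem exists_act_order_three (h3 : 3 ∣ S.orbit.ncard) :
    ∃ h : S.N, h ^ 3 = 1 ∧ (h : G) ∉ S.T := by
  haveI : Fact (Nat.Prime 3) := ⟨Nat.prime_three⟩
  obtain ⟨h, hh⟩ := exists_prime_orderOf_dvd_card' (G := S.N) 3
    (by rw [S.card_N]; exact Dvd.dvd.mul_left h3 32)
  refine ⟨h, by rw [← hh]; exact pow_orderOf_eq_one h, fun hT => ?_⟩
  have hord : orderOf (⟨(h : G), hT⟩ : S.T) = 3 :=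
    (Subgroup.orderOf_coe _).symm.trans ((Subgroup.orderOf_coe h).trans hh)
  have := orderOf_dvd_natCard (⟨(h : G), hT⟩ : S.T)
  rw [hord, S.card_T] at this
  norm_num at this

/-- The pattern with six conjugates in the center is impossible. -/
theorem orbit_ne_six (p : TT → Bool) (hp : ∀ u, S.E u ↔ p u = true)
    (hp6 : p = pat true false true true true true) : False := by
  classical
  have ho : S.orbit.ncard = 6 := by rw [S.ncard_orbit p hp, hp6]; decide +kernel
  obtain ⟨h, h3, hT⟩ := S.exists_act_order_three (by rw [ho]; norm_num)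
  obtain ⟨g, hg⟩ := S.exists_mem_N (u := TT.t * TT.z) (by decide)
    ((hp _).mpr (by rw [hp6]; decide))
  let T' : Subgroup S.N := S.T.subgroupOf S.N
  haveI : T'.Normal := Subgroup.normal_in_normalizer
  let π := QuotientGroup.mk' T'
  have hQ : Nat.card (S.N ⧸ T') = 6 := by
    have := T'.index_mul_card
    rw [Nat.card_congr (Subgroup.subgroupOfEquivOfLe S.T_le_N).toEquiv, S.card_T, S.card_N, ho,
      index_eq_card] at this
    omega
  have hord : orderOf (π h) = 3 := by
    haveI : Fact (Nat.Prime 3) := ⟨Nat.prime_three⟩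
    refine orderOf_eq_prime (by rw [← map_pow, h3, map_one]) fun h1 => hT ?_
    exact mem_subgroupOf.mp ((QuotientGroup.eq_one_iff h).mp h1)
  have hnorm : (zpowers (π h)).Normal := by
    refine normal_of_index_eq_two ?_
    have := (zpowers (π h)).index_mul_card
    rw [Nat.card_zpowers, hord, hQ] at this
    omega
  have hconj := hnorm.conj_mem _ (mem_zpowers (π h)) (π g)
  obtain ⟨i, hi⟩ : ∃ i : ℕ, π g * π h * (π g)⁻¹ = π h ^ i := by
    obtain ⟨i, hi⟩ := (isOfFinOrder_of_finite (π h)).mem_powers_iff_mem_zpowers.mpr hconj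
    exact ⟨i, hi.symm⟩
  have hi3 : π g * π h * (π g)⁻¹ = π h ^ (i % 3) := by
    rw [hi, ← hord, pow_mod_orderOf]
  -- the corresponding relation between the actions on the center
  have hrel : ∀ u, cen u = true →
      S.act (g * h) u = S.act (h ^ (i % 3) * g) u := by
    intro u hu
    have hmem : (g * h) * (h ^ (i % 3) * g)⁻¹ ∈ T' := by
      rw [← QuotientGroup.eq_one_iff]
      show π _ = 1
      rw [map_mul, map_inv, map_mul, map_mul, map_pow, mul_inv_rev, ← mul_assoc,
        hi3, mul_inv_cancel]
    have e : S.act (g * h) u =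
        S.act ((g * h) * (h ^ (i % 3) * g)⁻¹ * (h ^ (i % 3) * g)) u := by
      rw [inv_mul_cancel_right]
    rw [e, act_comp, act_comp, S.act_T_cen (mem_subgroupOf.mp hmem) hu, act_comp]
  set a := S.act h TT.t with ha
  set b := S.act h TT.r with hb
  set c := S.act g TT.r with hc
  have hgc : ∀ u, cen u = true → S.act g u = lin (TT.t * TT.z) c u := by
    intro u hu; rw [S.act_cen g hu, hg]
  have hhc : ∀ u, cen u = true → S.act h u = lin a b u := fun u hu => S.act_cen h hu
  have hct : cen TT.t = true := by decide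
  have hcr : cen TT.r = true := by decide
  have hcube : ∀ u, cen u = true → lin a b (lin a b (lin a b u)) = u := by
    intro u hu
    have : S.act (h * h * h) u = u := by
      rw [show h * h * h = h ^ 3 from (pow_three' h).symm, h3]
      apply S.j_inj; simp [j_act]
    rw [act_comp, act_comp] at this
    have h1 : cen (S.act h u) = true := S.cen_act h hu
    rwa [hhc _ (S.cen_act h h1), hhc _ h1, hhc u hu] at this
  have hane : a ≠ TT.t := fun e => hT ((S.mem_T_iff_act_t h).mpr e)
  have hpres : ∀ u, cen u = true → p (lin a b u) = p u ∧ p (lin (TT.t * TT.z) c u) = p u := by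
    intro u hu
    rw [← hhc u hu, ← hgc u hu]
    exact ⟨Bool.eq_iff_iff.mpr ((hp _).symm.trans ((S.E_act h u).trans (hp u))),
      Bool.eq_iff_iff.mpr ((hp _).symm.trans ((S.E_act g u).trans (hp u)))⟩
  have hcomb : (∀ u, cen u = true → lin a b (lin (TT.t * TT.z) c u) = lin (TT.t * TT.z) c u) ∨
      (∀ u, cen u = true →
        lin a b (lin (TT.t * TT.z) c u) = lin (TT.t * TT.z) c (lin a b u)) ∨
      (∀ u, cen u = true →
        lin a b (lin (TT.t * TT.z) c u) = lin (TT.t * TT.z) c (lin a b (lin a b u))) := by
    have h1 : ∀ u, cen u = true →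
        lin a b (lin (TT.t * TT.z) c u) = S.act g (S.act (h ^ (i % 3)) u) := by
      intro u hu
      rw [← hgc u hu, ← hhc _ (S.cen_act g hu), ← act_comp, hrel u hu, act_comp]
    have h012 : i % 3 = 0 ∨ i % 3 = 1 ∨ i % 3 = 2 := by omega
    rcases h012 with e | e | e <;> rw [e] at h1
    · left
      intro u hu
      rw [h1 u hu, pow_zero, ← hgc u hu]
      congr 1
      apply S.j_inj; simp [j_act]
    · right; left
      intro u hu
      rw [h1 u hu, pow_one, hgc _ (S.cen_act h hu), hhc u hu]
    · right; right
      intro u hu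
      rw [h1 u hu, pow_two, act_comp, hgc _ (S.cen_act h (S.cen_act h hu)),
        hhc _ (S.cen_act h hu), hhc u hu]
  have hfin : ∀ a b c : TT, cen a = true → cen b = true → cen c = true → a ≠ TT.t →
      (∀ u, cen u = true → lin a b (lin a b (lin a b u)) = u) →
      (∀ u, cen u = true → p (lin a b u) = p u ∧ p (lin (TT.t * TT.z) c u) = p u) →
      ¬ ((∀ u, cen u = true → lin a b (lin (TT.t * TT.z) c u) = lin (TT.t * TT.z) c u) ∨
        (∀ u, cen u = true →
          lin a b (lin (TT.t * TT.z) c u) = lin (TT.t * TT.z) c (lin a b u)) ∨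
        (∀ u, cen u = true →
          lin a b (lin (TT.t * TT.z) c u) = lin (TT.t * TT.z) c (lin a b (lin a b u)))) := by
    rw [hp6]; decide +kernel
  exact hfin a b c (S.cen_act h hct) (S.cen_act h hcr) (S.cen_act g hcr) hane hcube hpres hcomb

theorem conj_mem_N_of_sylow (hT : ∀ P : Subgroup G, IsPGroup 2 P → S.T ≤ P → P = S.T)
    {u v : TT} (hu : cen u = true) (hv : cen v = true) (h : IsConj (S.j u) (S.j v)) :
    ∃ g : S.N, S.act g u = v := by
  haveI : Fact (Nat.Prime 2) := ⟨Nat.prime_two⟩
  let P : Sylow 2 G := ⟨S.T, S.isPGroup_T, fun hQ hle => hT _ hQ hle⟩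
  have hc : ∀ w, cen w = true → S.j w ∈ centralizer ((P : Subgroup G) : Set G) := by
    intro w hw
    rw [mem_centralizer_iff]
    rintro _ ⟨x, rfl⟩
    rw [← map_mul, ← map_mul, (cen_iff w).mpr hw]
  obtain ⟨g, hg⟩ := exists_cj_of_isConj h
  obtain ⟨n, hn, he⟩ := Sylow.conj_eq_normalizer_conj_of_mem_centralizer P (S.j u) g (hc u hu)
    (by rw [show g⁻¹ * S.j u * g = S.j v from hg]; exact hc v hv)
  refine ⟨⟨n, hn⟩, S.j_inj ?_⟩
  rw [j_act, ← hg]
  exact he.symm

theorem T_eq_of_orbit_three (h3 : S.orbit.ncard = 3) (P : Subgroup G) (hP : IsPGroup 2 P)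
    (hle : S.T ≤ P) : P = S.T := by
  haveI : Fact (Nat.Prime 2) := ⟨Nat.prime_two⟩
  by_contra hne
  have hlt : S.T.subgroupOf P < ⊤ :=
    lt_top_iff_ne_top.mpr fun e => hne (le_antisymm (subgroupOf_eq_top.mp e) hle)
  haveI : Group.IsNilpotent P := hP.isNilpotent
  have h1 := normalizerCondition_of_isNilpotent (G := P) (S.T.subgroupOf P) hlt
  obtain ⟨x, hx, hxT⟩ := SetLike.exists_of_lt h1
  have hxN : (x : G) ∈ S.N := S.mem_N.mpr fun u => by
    have := (Subgroup.mem_normalizer_iff''.mp hx ⟨S.j u, hle (S.j_mem u)⟩).mp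
      (mem_subgroupOf.mpr (S.j_mem u))
    exact mem_subgroupOf.mp this
  obtain ⟨k, hk⟩ := IsPGroup.iff_orderOf.mp hP x
  let T' : Subgroup S.N := S.T.subgroupOf S.N
  haveI : T'.Normal := Subgroup.normal_in_normalizer
  have hQ : Nat.card (S.N ⧸ T') = 3 := by
    have := T'.index_mul_card
    rw [Nat.card_congr (Subgroup.subgroupOfEquivOfLe S.T_le_N).toEquiv, S.card_T, S.card_N, h3,
      index_eq_card] at this
    omega
  have d1 : orderOf (QuotientGroup.mk' T' ⟨x, hxN⟩) ∣ 2 ^ k := by
    refine (orderOf_map_dvd _ _).trans ?_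
    rw [← hk, ← Subgroup.orderOf_coe, ← Subgroup.orderOf_coe x]
  have d2 : orderOf (QuotientGroup.mk' T' ⟨x, hxN⟩) ∣ 3 := hQ ▸ orderOf_dvd_natCard _
  have h1' : orderOf (QuotientGroup.mk' T' ⟨x, hxN⟩) = 1 :=
    Nat.eq_one_of_dvd_coprimes
      (Nat.Coprime.pow_left k (by norm_num : Nat.Coprime 2 3)) d1 d2
  have := (QuotientGroup.eq_one_iff _).mp (orderOf_eq_one_iff.mp h1')
  exact hxT (mem_subgroupOf.mpr (mem_subgroupOf.mp this : (x : G) ∈ S.T))

/-- `rep v` lies in the orbit of `rep u` under the map `lin a b`. -/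
def sameCol (a b u v : TT) : Bool :=
  decide (rep v = rep u) || decide (rep v = lin a b (rep u)) ||
    decide (rep v = lin a b (lin a b (rep u)))

/-- The patterns with three conjugates in the center are impossible. -/
theorem orbit_ne_three (p : TT → Bool) (hp : ∀ u, S.E u ↔ p u = true)
    (hp3 : p = pat true false false true false false ∨ p = pat false false true true false false ∨
      p = pat true false false false false true ∨ p = pat false false true false false true) :
    False := by
  classical
  have ho : S.orbit.ncard = 3 := by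
    rw [S.ncard_orbit p hp]
    rcases hp3 with e | e | e | e <;> rw [e] <;> decide +kernel
  obtain ⟨h, h3, hT⟩ := S.exists_act_order_three (by rw [ho])
  set a := S.act h TT.t with ha
  set b := S.act h TT.r with hb
  have hhc : ∀ u, cen u = true → S.act h u = lin a b u := fun u hu => S.act_cen h hu
  have hcube : ∀ u, cen u = true → lin a b (lin a b (lin a b u)) = u := by
    intro u hu
    have : S.act (h * h * h) u = u := by
      rw [show h * h * h = h ^ 3 from (pow_three' h).symm, h3]
      apply S.j_inj; simp [j_act]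
    rw [act_comp, act_comp] at this
    have h1 : cen (S.act h u) = true := S.cen_act h hu
    rwa [hhc _ (S.cen_act h h1), hhc _ h1, hhc u hu] at this
  have hane : a ≠ TT.t := fun e => hT ((S.mem_T_iff_act_t h).mpr e)
  have hpres : ∀ u, cen u = true → p (lin a b u) = p u := by
    intro u hu
    rw [← hhc u hu]
    exact Bool.eq_iff_iff.mpr ((hp _).symm.trans ((S.E_act h u).trans (hp u)))
  -- conjugates of an involution of the center are its images under powers of `h`
  have hconj : ∀ u v, cen u = true → cen v = true → IsConj (S.j u) (S.j v) →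
      v = u ∨ v = lin a b u ∨ v = lin a b (lin a b u) := by
    intro u v hu hv huv
    obtain ⟨g, rfl⟩ := S.conj_mem_N_of_sylow (S.T_eq_of_orbit_three ho) hu hv huv
    let T' : Subgroup S.N := S.T.subgroupOf S.N
    haveI : T'.Normal := Subgroup.normal_in_normalizer
    have hQ : Nat.card (S.N ⧸ T') = 3 := by
      have := T'.index_mul_card
      rw [Nat.card_congr (Subgroup.subgroupOfEquivOfLe S.T_le_N).toEquiv, S.card_T, S.card_N, ho,
        index_eq_card] at this
      omega
    have hord : orderOf (QuotientGroup.mk' T' h) = 3 := by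
      haveI : Fact (Nat.Prime 3) := ⟨Nat.prime_three⟩
      refine orderOf_eq_prime (by rw [← map_pow, h3, map_one]) fun h1 => hT ?_
      exact mem_subgroupOf.mp ((QuotientGroup.eq_one_iff h).mp h1)
    have hgen : QuotientGroup.mk' T' g ∈ zpowers (QuotientGroup.mk' T' h) := by
      rw [eq_top_of_card_eq (zpowers (QuotientGroup.mk' T' h))
        (by rw [Nat.card_zpowers, hord, hQ])]
      exact mem_top _
    obtain ⟨n, hn⟩ := (isOfFinOrder_of_finite (QuotientGroup.mk' T' h)).mem_powers_iff_mem_zpowers.mpr hgen
    have hn3 : QuotientGroup.mk' T' g = QuotientGroup.mk' T' (h ^ (n % 3)) := by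
      rw [← hn, map_pow, ← hord, pow_mod_orderOf]
    have hmem : g * (h ^ (n % 3))⁻¹ ∈ T' := by
      rw [← QuotientGroup.eq_one_iff]
      show QuotientGroup.mk' T' _ = 1
      rw [map_mul, map_inv, hn3, mul_inv_cancel]
    have e : S.act g u = S.act (h ^ (n % 3)) u := by
      conv_lhs => rw [show g = g * (h ^ (n % 3))⁻¹ * h ^ (n % 3) by group]
      rw [act_comp, S.act_T_cen (mem_subgroupOf.mp hmem) hu]
    have : n % 3 = 0 ∨ n % 3 = 1 ∨ n % 3 = 2 := by omega
    rcases this with e' | e' | e' <;> rw [e, e']
    · left; apply S.j_inj; simp [j_act]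
    · right; left; rw [pow_one, hhc u hu]
    · right; right; rw [pow_two, act_comp, hhc _ (S.cen_act h hu), hhc u hu]
  -- every involution is conjugate to its representative
  have hrepconj : ∀ u, u * u = 1 → IsConj (S.j u) (S.j (rep u)) := by
    intro u hu
    have h1 : ∀ w : TT, w.b = false → IsConj (S.j w) (S.j (rhoT w)) := fun w hw => by
      rw [← S.cj_rho_eq hw]; exact isConj_cj _ _
    have h2 : ∀ w : TT, (swapT w).b = false →
        IsConj (S.j w) (S.j (swapT (rhoT (swapT w)))) := fun w hw => by
      have h := S.swap.cj_rho_eq hw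
      rw [S.swap_j, S.swap_j, swapT_swapT] at h
      rw [← h]; exact isConj_cj _ _
    have hcase : ∀ w : TT, w * w = 1 → rep w = w ∨
        (w.b = false ∧ rep w = rhoT w) ∨ (w.b = false ∧ rep w = rhoT (rhoT w) ∧
          (rhoT w).b = false) ∨
        ((swapT w).b = false ∧ rep w = swapT (rhoT (swapT w))) ∨
        ((swapT w).b = false ∧ rep w = swapT (rhoT (rhoT (swapT w))) ∧
          (rhoT (swapT w)).b = false) := by decide +kernel
    rcases hcase u hu with e | ⟨hb', e⟩ | ⟨hb', e, hb2⟩ | ⟨hb', e⟩ | ⟨hb', e, hb2⟩ <;> rw [e]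
    · exact h1 u hb'
    · exact (h1 u hb').trans (h1 _ hb2)
    · exact h2 u hb'
    · have := (h2 u hb').trans (h2 _ (by rw [swapT_swapT]; exact hb2))
      rwa [swapT_swapT] at this
  have hrep : ∀ u : TT, u * u = 1 → cen (rep u) = true := by decide +kernel
  have hXY : ∀ w : TT, w * w = 1 → ∀ u, cen u = true → w * u * (w * u) = 1 → 
      sameCol a b (w * u) (S.act h w * lin a b u) = true := by
    intro w _ u hu hwu
    rw [← hhc u hu, ← act_mul]
    have hv : S.act h (w * u) * S.act h (w * u) = 1 := by rw [← act_mul, hwu, act_one]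
    have hc : IsConj (S.j (rep (w * u))) (S.j (rep (S.act h (w * u)))) := by
      refine ((hrepconj _ hwu).symm.trans ?_).trans (hrepconj _ hv)
      rw [j_act]; exact isConj_cj _ _
    rcases hconj _ _ (hrep _ hwu) (hrep _ hv) hc with e | e | e <;> simp [sameCol, e]
  have key : ∀ a b : TT, cen a = true → cen b = true → a ≠ TT.t →
      (∀ u, cen u = true → lin a b (lin a b (lin a b u)) = u) →
      (∀ u, cen u = true → p (lin a b u) = p u) →
      ¬ (∃ x : TT, x * x = 1 ∧ cen x = false ∧ ∀ u, cen u = true →
          sameCol a b (TT.X * u) (x * lin a b u) = true) ∨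
      ¬ (∃ y : TT, y * y = 1 ∧ cen y = false ∧ ∀ u, cen u = true →
          sameCol a b (TT.Y * u) (y * lin a b u) = true) := by
    rcases hp3 with e | e | e | e <;> rw [e] <;> decide +kernel
  have hnc : ∀ w : TT, cen w = false → cen (S.act h w) = false := by
    intro w hw
    by_contra hc
    have hc' : cen (S.act h w) = true := by simpa using hc
    have h2 := S.cen_act h⁻¹ hc'
    have : S.act h⁻¹ (S.act h w) = w := by apply S.j_inj; simp [j_act, cj_inv_cancel]
    rw [this, hw] at h2
    cases h2
  have hsq : ∀ w : TT, w * w = 1 → S.act h w * S.act h w = 1 := fun w hw => by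
    rw [← act_mul, hw, act_one]
  have hside : ∀ w : TT, w * w = 1 → cen w = false →
      (∀ u, cen u = true → w * u * (w * u) = 1) → ∃ x : TT, x * x = 1 ∧ cen x = false ∧
        ∀ u, cen u = true → sameCol a b (w * u) (x * lin a b u) = true :=
    fun w hw hwc hall => ⟨_, hsq w hw, hnc w hwc, fun u hu => hXY w hw u hu (hall u hu)⟩
  rcases key a b (S.cen_act h (by decide)) (S.cen_act h (by decide)) hane hcube hpres with k | k
  · exact k (hside TT.X (by decide) (by decide) (by decide +kernel))
  · exact k (hside TT.Y (by decide) (by decide) (by decide +kernel))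

/-- The pattern with two conjugates of `t` in the center. -/
def IsPatOne : Prop := ∀ u, S.E u ↔ pat false false false false true false u = true

/-- The pattern with four conjugates of `t` in the center. -/
def IsPatFour : Prop := ∀ u, S.E u ↔ pat false false false true true true u = true

theorem patterns (hno : ∀ K : Subgroup G, K.index ≠ 2) :
    S.IsPatOne ∨ S.IsPatFour ∨ S.twist.IsPatFour := by
  classical
  obtain ⟨da, db, dc, dta, dtb, dtc, hp⟩ := S.E_eq_pat
  have hadd : ∀ f ∈ [fun u : TT => u.e, fun u => xor u.a u.c],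
      additive f ∧ ∃ u, f u = true := by
    intro f hf
    simp only [List.mem_cons, List.not_mem_nil, or_false] at hf
    rcases hf with rfl | rfl <;>
      exact ⟨fun u v => by simp [TT.mul_def, Bool.xor_assoc, Bool.xor_left_comm],
        ⟨true, true, false, false, false⟩, rfl⟩
  have h1 := S.even_count hno _ (hadd (fun u => u.e) (by simp)).1 (hadd _ (by simp)).2 _ hp
  have h2 := S.even_count hno _ (hadd (fun u => xor u.a u.c) (by simp)).1 (hadd _ (by simp)).2 _ hp
  have hb : db = false := by
    cases hdb : db
    · rfl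
    · refine absurd ((hp TT.z).mpr ?_) S.not_E_z
      subst hdb
      exact (by decide : ∀ a c x y w : Bool, pat a true c x y w TT.z = true) da dc dta dtb dtc
  subst hb
  have key : ∀ da dc dta dtb dtc : Bool,
      Even (Finset.univ.filter fun u : TT =>
        pat da false dc dta dtb dtc u = true ∧ u.e = true).card →
      Even (Finset.univ.filter fun u : TT =>
        pat da false dc dta dtb dtc u = true ∧ xor u.a u.c = true).card →
      (da, dc, dta, dtb, dtc) ∈ [(false, false, false, true, false),
        (false, false, true, true, true), (true, true, false, true, false),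
        (true, true, true, true, true), (true, false, true, false, false),
        (false, true, true, false, false), (true, false, false, false, true),
        (false, true, false, false, true)] := by
    decide +kernel
  have := key da dc dta dtb dtc h1 h2
  simp only [List.mem_cons, List.not_mem_nil, or_false, Prod.mk.injEq] at this
  rcases this with h | h | h | h | h | h | h | h <;> obtain ⟨rfl, rfl, rfl, rfl, rfl⟩ := h
  · exact Or.inl hp
  · exact Or.inr (Or.inl hp)
  · refine Or.inr (Or.inr fun u => ?_)
    rw [S.twist_E, hp]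
    have : ∀ u, pat true false true false true false (twistT u) =
        pat false false false true true true u := by decide +kernel
    rw [this]
  · exact (S.orbit_ne_six _ hp rfl).elim
  · exact (S.orbit_ne_three _ hp (Or.inl rfl)).elim
  · exact (S.orbit_ne_three _ hp (Or.inr (Or.inl rfl))).elim
  · exact (S.orbit_ne_three _ hp (Or.inr (Or.inr (Or.inl rfl)))).elim
  · exact (S.orbit_ne_three _ hp (Or.inr (Or.inr (Or.inr rfl)))).elim

end Setup

end CfsgLib.Z2S6
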