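import Cfsg.Agent.Z2S6.Survivor

/-!
# A setup always gives a subgroup of index two
-/

set_option autoImplicit false
set_option linter.unusedSectionVars false
set_option linter.style.haveILetI false

open Subgroup

namespace CfsgLib.Z2S6

namespace Setup

variable {G : Type*} [Group G] [Finite G]

theorem mixed_false {S : Setup G} (hno : ∀ K : Subgroup G, K.index ≠ 2) (hp : S.IsPatFour)
    (hg : ∀ g : S.N, Good g) (F : Frame S) (h1 : F.p1 = false) : False := by
  rcases F.classes_cases hno hp hg with ⟨a, b, c, d⟩ | ⟨a, -⟩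
  · exact (Survivor.mk hno hp hg F a b c d).false_of
  · rw [h1] at a; exact absurd a (by decide)

theorem patFour_false {S : Setup G} (hno : ∀ K : Subgroup G, K.index ≠ 2) (hp : S.IsPatFour) :
    False := by
  have hg := all_good hno hp
  obtain ⟨F⟩ := exists_frame hp hg
  rcases F.classes_cases hno hp hg with ⟨a, b, c, d⟩ | ⟨-, h2⟩
  · exact (Survivor.mk hno hp hg F a b c d).false_of
  -- exchange the two sides
  have hp' := swap_patFour hp
  have hg' := swap_good hp hg
  obtain ⟨F'⟩ := exists_frame hp' hg'
  refine mixed_false hno hp' hg' F' ?_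
  have hN : (F'.g : G) ∈ S.N := swap_N (S := S) ▸ F'.g.2
  obtain ⟨x, hx⟩ := F.el_surj hp hN
  have hact : ∀ u, aG F'.p1 u = swapT (actM F.p1 F.p2 x (swapT u)) := by
    intro u
    rw [← F'.act_g, show F'.g = ⟨(F'.g : G), F'.g.2⟩ from rfl, swap_act hN F'.g.2]
    congr 1
    rw [← F.act_el']
    congr 1
    exact Subtype.ext hx.symm
  obtain ⟨hr, w, hw, e⟩ := cls_spec x
  rw [e, F.actM_mw _ hw, h2] at hact
  cases h : F'.p1
  · rfl
  exfalso
  rw [h] at hact
  exact (by decide +kernel : ∀ p1 : Bool, ∀ r ∈ reps,
    ¬ (∀ u ∈ [TT.t, TT.X, TT.Y], aG true u = swapT (actM p1 false r (swapT u))))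
    F.p1 _ hr fun u _ => hact u

/-- The fusion forces a subgroup of index two. -/
theorem exists_index_two (S : Setup G) : ∃ K : Subgroup G, K.index = 2 := by
  by_contra hc
  push Not at hc
  rcases S.patterns hc with h | h | h
  · exact patOne_false hc h
  · exact patFour_false hc h
  · exact patFour_false hc h

end Setup

end CfsgLib.Z2S6
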