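import Mathlib.Data.Fintype.Basic
import Mathlib.Data.Fintype.Prod
import Mathlib.Tactic

/-!
# The group `ℤ/2 × (D₈ × ℤ/2)` in coordinates

`⟨e, a, b, c, d⟩` stands for `t^e X^a Y^b r^c z^d`, where `YX = XYz`.
-/

set_option autoImplicit false

namespace CfsgLib.Z2S6

/-- Coordinates of an element of `ℤ/2 × (D₈ × ℤ/2)`. -/
@[ext] structure TT where
  e : Bool
  a : Bool
  b : Bool
  c : Bool
  d : Bool
deriving DecidableEq, Fintype

namespace TT

instance : Mul TT :=
  ⟨fun u v => ⟨xor u.e v.e, xor u.a v.a, xor u.b v.b, xor u.c v.c,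
    xor (xor u.d v.d) (u.b && v.a)⟩⟩
instance : One TT := ⟨⟨false, false, false, false, false⟩⟩
instance : Inv TT := ⟨fun u => ⟨u.e, u.a, u.b, u.c, xor u.d (u.b && u.a)⟩⟩

theorem mul_def (u v : TT) : u * v = ⟨xor u.e v.e, xor u.a v.a, xor u.b v.b, xor u.c v.c,
    xor (xor u.d v.d) (u.b && v.a)⟩ := rfl

instance : Group TT where
  mul_assoc u v w := by
    obtain ⟨e, a, b, c, d⟩ := u; obtain ⟨e', a', b', c', d'⟩ := v
    obtain ⟨e'', a'', b'', c'', d''⟩ := w
    simp only [mul_def]
    ext <;> simp only [Bool.xor_assoc]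
    revert a a' a'' b b' b'' d d' d''
    decide
  one_mul := by decide
  mul_one := by decide
  inv_mul_cancel := by decide

def t : TT := ⟨true, false, false, false, false⟩
def X : TT := ⟨false, true, false, false, false⟩
def Y : TT := ⟨false, false, true, false, false⟩
def r : TT := ⟨false, false, false, true, false⟩
def z : TT := ⟨false, false, false, false, true⟩

end TT

variable {G : Type*} [Group G]

/-- A power with exponent `0` or `1`. -/
def bpow (x : G) (b : Bool) : G := if b then x else 1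

@[simp] theorem bpow_true (x : G) : bpow x true = x := rfl
@[simp] theorem bpow_false (x : G) : bpow x false = 1 := rfl

/-- Relations satisfied by `t, X, Y, r`. -/
structure TRel (t X Y r : G) : Prop where
  ht : t * t = 1
  hX : X * X = 1
  hY : Y * Y = 1
  hr : r * r = 1
  cX : X * t = t * X
  cY : Y * t = t * Y
  cr : r * t = t * r
  rX : r * X = X * r
  rY : r * Y = Y * r
  zX : (X * Y) * (X * Y) * X = X * ((X * Y) * (X * Y))

/-- `t^e X^a Y^b r^c z^d`. -/
def word (t X Y r : G) (u : TT) : G :=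
  bpow t u.e * (bpow X u.a * (bpow Y u.b * (bpow r u.c * bpow ((X * Y) * (X * Y)) u.d)))

namespace TRel

variable {t X Y r : G}

theorem z_sq (h : TRel t X Y r) : (X * Y) * (X * Y) * ((X * Y) * (X * Y)) = 1 := by
  have iX : X⁻¹ = X := inv_eq_of_mul_eq_one_right h.hX
  have iY : Y⁻¹ = Y := inv_eq_of_mul_eq_one_right h.hY
  have h1 : X * ((X * Y) * (X * Y)) * X = (X * Y) * (X * Y) := by
    rw [← h.zX, mul_assoc, h.hX, mul_one]
  have h2 : X * ((X * Y) * (X * Y)) * X = ((X * Y) * (X * Y))⁻¹ := by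
    simp only [mul_inv_rev, iX, iY, ← mul_assoc, h.hX, one_mul]
  calc (X * Y) * (X * Y) * ((X * Y) * (X * Y))
      = (X * Y) * (X * Y) * (X * ((X * Y) * (X * Y)) * X) := by rw [h1]
    _ = 1 := by rw [h2, mul_inv_cancel]

theorem YX (h : TRel t X Y r) : Y * X = X * Y * ((X * Y) * (X * Y)) := by
  have iX : X⁻¹ = X := inv_eq_of_mul_eq_one_right h.hX
  have iY : Y⁻¹ = Y := inv_eq_of_mul_eq_one_right h.hY
  calc Y * X = (X * Y)⁻¹ := by rw [mul_inv_rev, iX, iY]
    _ = X * Y * ((X * Y) * (X * Y)) :=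
        inv_eq_of_mul_eq_one_right (by simpa only [mul_assoc] using h.z_sq)

theorem comm_rules (h : TRel t X Y r) :
    Commute t X ∧ Commute t Y ∧ Commute t r ∧ Commute t ((X * Y) * (X * Y)) ∧ Commute r X ∧
    Commute r Y ∧ Commute r ((X * Y) * (X * Y)) ∧ Commute ((X * Y) * (X * Y)) X ∧
    Commute ((X * Y) * (X * Y)) Y := by
  have tX : Commute t X := h.cX.symm
  have tY : Commute t Y := h.cY.symm
  have zX : Commute ((X * Y) * (X * Y)) X := h.zX
  have rXY : Commute r (X * Y) := Commute.mul_right h.rX h.rY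
  have zXY : Commute ((X * Y) * (X * Y)) (X * Y) :=
    (Commute.refl (X * Y)).mul_left (Commute.refl (X * Y))
  have zY : Commute ((X * Y) * (X * Y)) Y := by
    have := zX.mul_right zXY
    rwa [← mul_assoc X X Y, h.hX, one_mul] at this
  exact ⟨tX, tY, h.cr.symm, (tX.mul_right tY).mul_right (tX.mul_right tY), h.rX, h.rY,
    rXY.mul_right rXY, zX, zY⟩

theorem commute_bpow {x y : G} (hc : Commute x y) (i j : Bool) : Commute (bpow x i) (bpow y j) := by
  cases i <;> cases j <;> simp [hc, Commute.one_left, Commute.one_right]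

theorem bpow_mul {x : G} (hx : x * x = 1) (i j : Bool) :
    bpow x i * bpow x j = bpow x (xor i j) := by
  cases i <;> cases j <;> simp [hx]

/-- The map from the coordinates. -/
def hom (h : TRel t X Y r) : TT →* G := MonoidHom.mk' (word t X Y r) (fun u v => by
  obtain ⟨tX, tY, tr, tz, rX, rY, rz, zX, zY⟩ := h.comm_rules
  have move : ∀ b a : Bool, bpow Y b * bpow X a =
      bpow X a * (bpow Y b * bpow ((X * Y) * (X * Y)) (b && a)) := by
    intro b a
    cases b <;> cases a <;> simp [bpow]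
    simpa only [mul_assoc] using h.YX
  obtain ⟨e, a, b, c, d⟩ := u
  obtain ⟨e', a', b', c', d'⟩ := v
  simp only [word, TT.mul_def]
  generalize hzz : (X * Y) * (X * Y) = z at *
  have hz2 : z * z = 1 := by rw [← hzz]; exact h.z_sq
  rw [← bpow_mul h.ht e e', ← bpow_mul h.hX a a', ← bpow_mul h.hY b b', ← bpow_mul h.hr c c',
    ← bpow_mul hz2 (xor d d') (b && a'), ← bpow_mul hz2 d d']
  simp only [mul_assoc]
  congr 1
  -- bring `t` to the front
  rw [← (commute_bpow tz e' d).left_comm, ← (commute_bpow tr e' c).left_comm,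
    ← (commute_bpow tY e' b).left_comm, ← (commute_bpow tX e' a).left_comm]
  congr 2
  -- move `X` across
  rw [(commute_bpow zX d a').left_comm, (commute_bpow rX c a').left_comm]
  rw [← mul_assoc (bpow Y b) (bpow X a'), move, mul_assoc]
  congr 1
  rw [mul_assoc]
  congr 1
  -- move `Y` across
  rw [(commute_bpow zY d b').left_comm, (commute_bpow rY c b').left_comm,
    (commute_bpow zY (b && a') b').left_comm]
  congr 1
  rw [← (commute_bpow rz c' d).left_comm, ← (commute_bpow rz c (b && a')).left_comm]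
  congr 1
  rw [← (commute_bpow rz c' (b && a')).left_comm]
  congr 1
  rw [(commute_bpow (Commute.refl z) (b && a') d).left_comm,
    (commute_bpow (Commute.refl z) (b && a') d').eq])

theorem hom_apply (h : TRel t X Y r) (u : TT) : h.hom u = word t X Y r u := rfl

theorem hom_gens (h : TRel t X Y r) : h.hom TT.t = t ∧ h.hom TT.X = X ∧ h.hom TT.Y = Y ∧
    h.hom TT.r = r ∧ h.hom TT.z = (X * Y) * (X * Y) := by
  simp [hom_apply, word, TT.t, TT.X, TT.Y, TT.r, TT.z]

end TRel

end CfsgLib.Z2S6
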