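import Cfsg.Agent.Z2S6.Frame

/-!
# The normalizer of `A₁ = ⟨t, X, r, z⟩`
-/

set_option autoImplicit false
set_option linter.unusedSectionVars false
set_option linter.style.haveILetI false

open Subgroup

namespace CfsgLib.Z2S6

/-- The elements of `A₁` with `e = 0`. -/
def bList : List TT :=
  [false, true].flatMap fun a => [false, true].flatMap fun c => [false, true].map fun d =>
    (⟨false, a, false, c, d⟩ : TT)

/-- `rz`. -/
def vv : TT := TT.r * TT.z

/-- A map of `A₁` fixing `rz`, given by the images of `t`, `X`, `r`. -/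
def aa (a x q u : TT) : TT :=
  (bif u.e then a else 1) * ((bif u.a then x else 1) *
    ((bif u.c then q else 1) * (bif u.d then q * vv else 1)))

/-- Equality modulo `rz`. -/
def eqv (u w : TT) : Bool := decide (u = w) || decide (u = w * vv)

/-- Reversal of the cyclic order of the three classes modulo `rz`. -/
def sg (f : TT → TT) : Bool :=
  bList.all fun b => eqv (f (Setup.rhoT b)) (Setup.rhoT (Setup.rhoT (f b)))

/-- The second block. -/
def P1 (w1 u : TT) : Bool :=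
  decide (TT.t * u ∈ [vv, w1, Setup.rhoT w1, Setup.rhoT (Setup.rhoT w1)])

theorem bList_spec : ∀ u : TT, (u ∈ bList ↔ u.e = false ∧ u.b = false) := by decide +kernel

theorem rho_bList : ∀ b ∈ bList, Setup.rhoT b ∈ bList := by decide +kernel

theorem sg_congr {f f' : TT → TT} (h : ∀ b ∈ bList, f b = f' b) : sg f = sg f' := by
  rw [Bool.eq_iff_iff, sg, sg, List.all_eq_true, List.all_eq_true]
  constructor <;> intro hs b hb <;> have := hs b hb <;>
    rw [h b hb, h _ (rho_bList b hb)] at * <;> exact this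

/-- The linear parts of the admissible maps. -/
def lins : List (TT × TT) :=
  (bList.flatMap fun x => bList.map fun q => (x, q)).filter fun p =>
    bList.all fun b => decide (aa 1 p.1 p.2 b = 1 → b = 1)

set_option synthInstance.maxSize 100000 in
theorem sg_comp : ∀ p ∈ lins, ∀ p' ∈ lins,
    sg (fun u => aa 1 p'.1 p'.2 (aa 1 p.1 p.2 u)) =
      xor (sg (aa 1 p.1 p.2)) (sg (aa 1 p'.1 p'.2)) := by decide +kernel

namespace Setup

variable {G : Type*} [Group G] {S : Setup G}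

/-- `A₁`. -/
def AS : Subgroup TT where
  carrier := {u | u.b = false}
  one_mem' := rfl
  mul_mem' {a b} ha hb := by
    simp only [Set.mem_ofPred_eq, TT.mul_def] at ha hb ⊢; simp [ha, hb]
  inv_mem' {a} ha := ha

/-- The image of `A₁`. -/
def A1 (S : Setup G) : Subgroup G := AS.map S.j

/-- The normalizer of `A₁`. -/
def N1 (S : Setup G) : Subgroup G := Subgroup.normalizer ((A1 S : Subgroup G) : Set G)

theorem j_mem_A1 {u : TT} : S.j u ∈ A1 S ↔ u.b = false := by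
  constructor
  · rintro ⟨w, hw, e⟩
    exact S.j_inj e ▸ hw
  · exact fun h => ⟨u, h, rfl⟩

variable [Finite G]

theorem mem_N1 {g : G} :
    g ∈ N1 S ↔ ∀ u : TT, u.b = false → ∃ v : TT, v.b = false ∧ cj g (S.j u) = S.j v := by
  constructor
  · intro hg u hu
    obtain ⟨v, hv, e⟩ := (Subgroup.mem_normalizer_iff''.mp hg (S.j u)).mp (j_mem_A1.mpr hu)
    exact ⟨v, hv, e.symm⟩
  · intro h
    let φ : A1 S → A1 S := fun x => ⟨cj g x.1, by
      obtain ⟨u, hu, e⟩ := x.2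
      obtain ⟨v, hv, e'⟩ := h u hu
      rw [← e, e']; exact j_mem_A1.mpr hv⟩
    have hinj : Function.Injective φ := fun a b hab =>
      Subtype.ext (cj_injective g (congrArg Subtype.val hab))
    have hsur := (Finite.injective_iff_bijective.mp hinj).2
    refine Subgroup.mem_normalizer_iff''.mpr fun x => ⟨?_, fun hx => ?_⟩
    · rintro ⟨u, hu, rfl⟩
      obtain ⟨v, hv, e⟩ := h u hu
      show g⁻¹ * S.j u * g ∈ A1 S
      rw [show g⁻¹ * S.j u * g = S.j v from e]
      exact j_mem_A1.mpr hv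
    · obtain ⟨u, hu⟩ := hsur ⟨_, hx⟩
      rw [show x = u.1 from (cj_injective g (congrArg Subtype.val hu)).symm]
      exact u.2

/-- The action on `A₁` in coordinates. -/
noncomputable def actA (x : N1 S) (u : TT) : TT :=
  if h : u.b = false then (mem_N1.mp x.2 u h).choose else u

theorem j_actA (x : N1 S) {u : TT} (hu : u.b = false) :
    S.j (actA x u) = cj (x : G) (S.j u) := by
  rw [actA, dif_pos hu]; exact (mem_N1.mp x.2 u hu).choose_spec.2.symm

theorem actA_b (x : N1 S) {u : TT} (hu : u.b = false) : (actA x u).b = false := by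
  rw [actA, dif_pos hu]; exact (mem_N1.mp x.2 u hu).choose_spec.1

theorem actA_eq {x : N1 S} {u w : TT} (hu : u.b = false) (h : cj (x : G) (S.j u) = S.j w) :
    actA x u = w := S.j_inj (by rw [j_actA x hu, h])

theorem mul_b {u v : TT} (hu : u.b = false) (hv : v.b = false) : (u * v).b = false := by
  rw [TT.mul_def]; simp [hu, hv]

theorem actA_mul (x : N1 S) {u v : TT} (hu : u.b = false) (hv : v.b = false) :
    actA x (u * v) = actA x u * actA x v := by
  apply actA_eq (mul_b hu hv)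
  rw [map_mul, cj_mul, map_mul, j_actA x hu, j_actA x hv]

theorem actA_one (x : N1 S) : actA x 1 = 1 := actA_eq rfl (by simp)

theorem actA_comp (x y : N1 S) {u : TT} (hu : u.b = false) :
    actA (x * y) u = actA y (actA x u) := by
  apply actA_eq hu
  rw [j_actA y (actA_b x hu), j_actA x hu, cj_cj]
  rfl

theorem actA_inj (x : N1 S) {u v : TT} (hu : u.b = false) (hv : v.b = false)
    (h : actA x u = actA x v) : u = v := by
  apply S.j_inj
  apply cj_injective (x : G)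
  rw [← j_actA x hu, ← j_actA x hv, h]

theorem T_le_N1 : S.T ≤ N1 S := by
  rintro _ ⟨w, rfl⟩
  refine mem_N1.mpr fun u hu => ⟨w⁻¹ * u * w, ?_, S.cj_j u w⟩
  exact (by decide +kernel : ∀ u w : TT, u.b = false → (w⁻¹ * u * w).b = false) u w hu

theorem rho_pow_mem (i : ℕ) : S.ρ ^ i ∈ N1 S :=
  mem_N1.mpr fun u hu => ⟨rhoT^[i] u, (cj_rho_pow (S := S) hu i).2, (cj_rho_pow hu i).1⟩

theorem actA_rho_pow (i : ℕ) {u : TT} (hu : u.b = false) :
    actA (⟨S.ρ ^ i, rho_pow_mem i⟩ : N1 S) u = rhoT^[i] u :=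
  actA_eq hu (cj_rho_pow hu i).1

theorem N_le_N1 (hp : S.IsPatFour) (hg : ∀ g : S.N, Good g) : S.N ≤ N1 S := by
  intro n hn
  obtain ⟨hp', hx, hy, hf⟩ := good_params hp hg ⟨n, hn⟩
  refine mem_N1.mpr fun u hu => ⟨S.act (⟨n, hn⟩ : S.N) u, ?_, (S.j_act (⟨n, hn⟩ : S.N) u).symm⟩
  rw [hf]
  exact (by decide +kernel : ∀ p ∈ pList, ∀ x ∈ xList, ∀ y ∈ yList, ∀ u : TT, u.b = false →
    (af p x y TT.r u).b = false) _ hp' _ hx _ hy u hu

theorem exists_shift (hp : S.IsPatFour) {a : TT} (ha : a.b = false) (hae : a.e = true) :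
    ∃ n : S.N, ∃ i < 3, rhoT^[i] (S.act n TT.t) = a := by
  obtain ⟨i, hi, w, hw, e⟩ := (by decide +kernel : ∀ a : TT, a.b = false → a.e = true →
    ∃ i < 3, ∃ w ∈ pList, rhoT^[i] w = a) a ha hae
  obtain ⟨n, hn⟩ := S.exists_mem_N (u := w)
    ((cen_iff w).mpr ((by decide : ∀ w ∈ pList, cen w = true) w hw))
    ((hp w).mpr ((by decide : ∀ w ∈ pList, twelve w = true) w hw))
  exact ⟨n, i, hi, by rw [hn, e]⟩

theorem actA_e (hp : S.IsPatFour) (x : N1 S) {u : TT} (hu : u.b = false) :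
    (actA x u).e = u.e := by
  have h : ∀ w : TT, w.b = false → twelve w = w.e := by decide +kernel
  rw [← h _ (actA_b x hu), ← h _ hu, Bool.eq_iff_iff]
  exact (hp _).symm.trans ((S.E_cj (j_actA x hu).symm).symm.trans (hp u))

theorem fix_t_form {x : G} (hx : x ∈ N1 S) (h : cj x S.t = S.t) :
    ∃ w : TT, ∃ l < 3, x = S.j w * S.ρ ^ l :=
  S.normA x ((cj_eq_iff_commute _ _).mp h) (mem_N1.mp hx)

/-- Every element of `N(A₁)` is `j w * ρ ^ l * n * ρ ^ i`. -/
theorem decomp (hp : S.IsPatFour) (hg : ∀ g : S.N, Good g) (x : N1 S) :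
    ∃ w : TT, ∃ l < 3, ∃ n : S.N, ∃ i < 3, (x : G) = S.j w * S.ρ ^ l * n * S.ρ ^ i ∧
      ∀ u : TT, u.b = false →
        actA x u = rhoT^[i] (S.act n (rhoT^[l] (w⁻¹ * u * w))) := by
  have hta : (actA x TT.t).e = true := by rw [actA_e hp x rfl]; rfl
  obtain ⟨n, i, hi, hn⟩ := exists_shift hp (actA_b x rfl) hta
  have hy : (n : G) * S.ρ ^ i ∈ N1 S := mul_mem (N_le_N1 hp hg n.2) (rho_pow_mem i)
  have hy' : ∀ u : TT, u.b = false → cj ((n : G) * S.ρ ^ i) (S.j u) = S.j (rhoT^[i] (S.act n u)) := by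
    intro u hu
    obtain ⟨hp', hx', hyy, hf⟩ := good_params hp hg n
    have hb : (S.act n u).b = false := by
      rw [hf]
      exact (by decide +kernel : ∀ p ∈ pList, ∀ x ∈ xList, ∀ y ∈ yList, ∀ u : TT, u.b = false →
        (af p x y TT.r u).b = false) _ hp' _ hx' _ hyy u hu
    rw [← cj_cj, ← j_act, (cj_rho_pow hb i).1]
  have hfix : cj ((x : G) * ((n : G) * S.ρ ^ i)⁻¹) S.t = S.t := by
    have h1 : cj (x : G) (S.j TT.t) = cj ((n : G) * S.ρ ^ i) (S.j TT.t) := by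
      rw [← j_actA x rfl, hy' _ rfl, hn]
    rw [← cj_cj, ← j_t, h1, cj_inv_cancel]
  obtain ⟨w, l, hl, e⟩ := fix_t_form (mul_mem x.2 (inv_mem hy)) hfix
  have hxe : (x : G) = S.j w * S.ρ ^ l * n * S.ρ ^ i := by
    rw [← e]; group
  refine ⟨w, l, hl, n, i, hi, hxe, fun u hu => actA_eq hu ?_⟩
  rw [hxe, mul_assoc, ← cj_cj, cj_word_rho w l hu]
  refine hy' _ (cj_rho_pow (S := S) ?_ l).2
  exact (by decide +kernel : ∀ u w : TT, u.b = false → (w⁻¹ * u * w).b = false) u w hu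

theorem actA_vv (hp : S.IsPatFour) (hg : ∀ g : S.N, Good g) (x : N1 S) :
    actA x vv = vv := by
  obtain ⟨w, l, hl, n, i, hi, -, hf⟩ := decomp hp hg x
  rw [hf vv rfl, (by decide +kernel : ∀ w : TT, ∀ l < 3, rhoT^[l] (w⁻¹ * vv * w) = vv) w l hl,
    vv, S.act_mul, (hg n).1, S.act_z]
  exact (by decide +kernel : ∀ i < 3, rhoT^[i] (TT.r * TT.z) = TT.r * TT.z) i hi

/-- The parameters of the action on `A₁`. -/
theorem actA_form (hp : S.IsPatFour) (hg : ∀ g : S.N, Good g) (x : N1 S) :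
    (∃ b ∈ bList, actA x TT.t = TT.t * b) ∧ (actA x TT.X, actA x TT.r) ∈ lins ∧
      ∀ u : TT, u.b = false →
        actA x u = aa (actA x TT.t) (actA x TT.X) (actA x TT.r) u := by
  have hmem : ∀ u : TT, u.b = false → u.e = false → actA x u ∈ bList := fun u hu he =>
    (bList_spec _).mpr ⟨(actA_e hp x hu).trans he, actA_b x hu⟩
  have hform : ∀ u : TT, u.b = false →
      actA x u = aa (actA x TT.t) (actA x TT.X) (actA x TT.r) u := by
    intro u hu
    have hz : actA x TT.z = actA x TT.r * vv := by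
      conv_lhs => rw [(by decide : TT.z = TT.r * vv)]
      rw [actA_mul x rfl rfl, actA_vv hp hg x]
    have hd : ∀ u : TT, u.b = false → u = (bif u.e then TT.t else 1) * ((bif u.a then TT.X else 1) *
        ((bif u.c then TT.r else 1) * (bif u.d then TT.z else 1))) := by decide +kernel
    conv_lhs => rw [hd u hu]
    have hb : ∀ (i : Bool) (g : TT), g.b = false → (bif i then g else 1).b = false := by
      intro i g hg'; cases i
      · rfl
      · exact hg'
    rw [actA_mul x (hb _ _ rfl) (mul_b (hb _ _ rfl) (mul_b (hb _ _ rfl) (hb _ _ rfl))),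
      actA_mul x (hb _ _ rfl) (mul_b (hb _ _ rfl) (hb _ _ rfl)),
      actA_mul x (hb _ _ rfl) (hb _ _ rfl), aa, ← hz]
    cases u.e <;> cases u.a <;> cases u.c <;> cases u.d <;>
      simp only [cond_true, cond_false, actA_one]
  refine ⟨⟨TT.t * actA x TT.t, ?_, ?_⟩, ?_, hform⟩
  · refine (bList_spec _).mpr ⟨?_, mul_b rfl (actA_b x rfl)⟩
    rw [TT.mul_def, actA_e hp x (u := TT.t) rfl]; rfl
  · rw [← mul_assoc, (by decide : TT.t * TT.t = 1), one_mul]
  · refine List.mem_filter.mpr ⟨?_, List.all_eq_true.mpr fun b hb => decide_eq_true fun h => ?_⟩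
    · exact List.mem_flatMap.mpr ⟨_, hmem _ rfl rfl, List.mem_map.mpr ⟨_, hmem _ rfl rfl, rfl⟩⟩
    · obtain ⟨hbe, hbb⟩ := (bList_spec b).mp hb
      refine actA_inj x hbb rfl ?_
      rw [hform b hbb, actA_one]
      show aa _ _ _ b = 1
      rw [← h]
      simp only [aa, hbe, cond_false]

theorem sg_actA (hp : S.IsPatFour) (hg : ∀ g : S.N, Good g) (x : N1 S) :
    sg (actA x) = sg (aa 1 (actA x TT.X) (actA x TT.r)) := by
  refine sg_congr fun b hb => ?_
  obtain ⟨hbe, hbb⟩ := (bList_spec b).mp hb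
  rw [(actA_form hp hg x).2.2 b hbb]
  simp only [aa, hbe, cond_false]

theorem sg_mul (hp : S.IsPatFour) (hg : ∀ g : S.N, Good g) (x y : N1 S) :
    sg (actA (x * y)) = xor (sg (actA x)) (sg (actA y)) := by
  rw [sg_actA hp hg x, sg_actA hp hg y,
    ← sg_comp _ (actA_form hp hg x).2.1 _ (actA_form hp hg y).2.1]
  refine sg_congr fun b hb => ?_
  obtain ⟨hbe, hbb⟩ := (bList_spec b).mp hb
  rw [actA_comp x y hbb, (actA_form hp hg x).2.2 b hbb,
    (actA_form hp hg y).2.2 _ (by rw [← (actA_form hp hg x).2.2 b hbb]; exact actA_b x hbb)]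
  have he : (aa (actA x TT.t) (actA x TT.X) (actA x TT.r) b).e = false := by
    rw [← (actA_form hp hg x).2.2 b hbb, actA_e hp x hbb]; exact hbe
  have e1 : aa (actA x TT.t) (actA x TT.X) (actA x TT.r) b =
      aa 1 (actA x TT.X) (actA x TT.r) b := by
    simp only [aa, hbe, cond_false]
  rw [e1] at he ⊢
  generalize aa 1 (actA x TT.X) (actA x TT.r) b = c at he ⊢
  simp only [aa, he, cond_false]

/-- Compatibility with the blocks. -/
def Blk (w1 : TT) (x : N1 S) (s : Bool) : Prop :=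
  ∀ u : TT, u.b = false → u.e = true → P1 w1 (actA x u) = xor (P1 w1 u) s

theorem Blk.value {w1 : TT} (hw : w1 ∈ [TT.z, TT.r]) {x : N1 S} {s : Bool} (h : Blk w1 x s) :
    P1 w1 (actA x TT.t) = s := by
  rw [h TT.t rfl rfl, (by decide : ∀ w ∈ [TT.z, TT.r], P1 w TT.t = false) w1 hw, Bool.false_xor]

theorem Blk.comp (hp : S.IsPatFour) {w1 : TT} {x y : N1 S} {s s' : Bool} (h : Blk w1 x s)
    (h' : Blk w1 y s') : Blk w1 (x * y) (xor s s') := by
  intro u hu he
  rw [actA_comp x y hu, h' _ (actA_b x hu) ((actA_e hp x hu).trans he), h u hu he, Bool.xor_assoc]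

theorem blk_exists (hp : S.IsPatFour) (hg : ∀ g : S.N, Good g) {w1 : TT} (hw : w1 ∈ [TT.z, TT.r])
    (hblock : ∀ n : S.N, ∃ s, ∀ u : TT, u.b = false → u.e = true →
      P1 w1 (S.act n u) = xor (P1 w1 u) s) (x : N1 S) : Blk w1 x (P1 w1 (actA x TT.t)) := by
  suffices ∃ s, Blk w1 x s by
    obtain ⟨s, hs⟩ := this
    rwa [hs.value hw]
  obtain ⟨w, l, hl, n, i, hi, -, hf⟩ := decomp hp hg x
  obtain ⟨s, hs⟩ := hblock n
  obtain ⟨hp', hx', hyy, hfn⟩ := good_params hp hg n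
  refine ⟨s, fun u hu he => ?_⟩
  have d1 : ∀ w1 ∈ [TT.z, TT.r], ∀ l < 3, ∀ u : TT, u.b = false → u.e = true →
      (rhoT^[l] u).b = false ∧ (rhoT^[l] u).e = true ∧ P1 w1 (rhoT^[l] u) = P1 w1 u := by
    decide +kernel
  have d2 : ∀ w1 ∈ [TT.z, TT.r], ∀ w u : TT, u.b = false → u.e = true →
      (w⁻¹ * u * w).b = false ∧ (w⁻¹ * u * w).e = true ∧ P1 w1 (w⁻¹ * u * w) = P1 w1 u := by
    decide +kernel
  have d3 : ∀ p ∈ pList, ∀ x ∈ xList, ∀ y ∈ yList, ∀ u : TT, u.b = false → u.e = true →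
      (af p x y TT.r u).b = false ∧ (af p x y TT.r u).e = true := by decide +kernel
  obtain ⟨a1, a2, a3⟩ := d2 w1 hw w u hu he
  obtain ⟨b1, b2, b3⟩ := d1 w1 hw l hl _ a1 a2
  obtain ⟨c1, c2⟩ := d3 _ hp' _ hx' _ hyy _ b1 b2
  rw [hf u hu, (d1 w1 hw i hi _ (by rw [hfn]; exact c1) (by rw [hfn]; exact c2)).2.2,
    hs _ b1 b2, b3, a3]

/-- An element of `N(A₁)` moving `t` into `tW` and fixing the class of `r` lies in `N(T)`. -/
theorem mem_N_of_class (hp : S.IsPatFour) (hg : ∀ g : S.N, Good g) (x : N1 S)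
    (ht : actA x TT.t ∈ pList) (hr : eqv (actA x TT.r) TT.r = true) : (x : G) ∈ S.N := by
  obtain ⟨n, hn⟩ := S.exists_mem_N (u := actA x TT.t)
    ((cen_iff _).mpr ((by decide : ∀ w ∈ pList, cen w = true) _ ht))
    ((hp _).mpr ((by decide : ∀ w ∈ pList, twelve w = true) _ ht))
  have hfix : cj ((x : G) * (n : G)⁻¹) S.t = S.t := by
    rw [← cj_cj, ← j_t, ← j_actA x rfl, ← hn, j_act, cj_inv_cancel]
  obtain ⟨w, l, hl, e⟩ := fix_t_form (mul_mem x.2 (inv_mem (N_le_N1 hp hg n.2))) hfix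
  have hxe : (x : G) = S.j w * S.ρ ^ l * n := by rw [← e]; group
  have hl0 : l = 0 := by
    obtain ⟨hp', hx', hy', hf⟩ := good_params hp hg n
    have h1 : actA x TT.r = S.act n (rhoT^[l] (w⁻¹ * TT.r * w)) := by
      apply actA_eq rfl
      rw [hxe, ← cj_cj, cj_word_rho w l rfl, ← j_act]
    rw [h1, hf] at hr
    exact (by decide +kernel : ∀ p ∈ pList, ∀ x ∈ xList, ∀ y ∈ yList, ∀ l < 3, ∀ w : TT,
      eqv (af p x y TT.r (rhoT^[l] (w⁻¹ * TT.r * w))) TT.r = true → l = 0)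
      _ hp' _ hx' _ hy' l hl w hr
  rw [hxe, hl0, pow_zero, mul_one]
  exact mul_mem (S.T_le_N (S.j_mem w)) n.2

theorem card_fix_t : Nat.card {x : N1 S // cj (x : G) S.t = S.t} = 96 := by
  let φ : TT × Fin 3 → {x : N1 S // cj (x : G) S.t = S.t} := fun p =>
    ⟨⟨S.j p.1 * S.ρ ^ (p.2 : ℕ), mul_mem (T_le_N1 (S.j_mem _)) (rho_pow_mem _)⟩, by
      show cj (S.j p.1 * S.ρ ^ (p.2 : ℕ)) S.t = S.t
      rw [← j_t, cj_word_rho p.1 _ rfl]
      exact congrArg S.j ((by decide +kernel : ∀ w : TT, ∀ i : Fin 3,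
        rhoT^[(i : ℕ)] (w⁻¹ * TT.t * w) = TT.t) p.1 p.2)⟩
  have hinj : Function.Injective φ := by
    rintro ⟨w, i⟩ ⟨w', i'⟩ h
    have h' : S.j w * S.ρ ^ (i : ℕ) = S.j w' * S.ρ ^ (i' : ℕ) :=
      congrArg (fun q : {x : N1 S // cj (x : G) S.t = S.t} => ((q : N1 S) : G)) h
    have hr : rhoT^[(i : ℕ)] (w⁻¹ * TT.r * w) = rhoT^[(i' : ℕ)] (w'⁻¹ * TT.r * w') := by
      apply S.j_inj
      rw [← cj_word_rho w i rfl, ← cj_word_rho w' i' rfl, h']
    have hii : i = i' := (by decide +kernel : ∀ w w' : TT, ∀ i i' : Fin 3,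
      rhoT^[(i : ℕ)] (w⁻¹ * TT.r * w) = rhoT^[(i' : ℕ)] (w'⁻¹ * TT.r * w') → i = i') w w' i i' hr
    subst hii
    rw [S.j_inj (mul_right_cancel h')]
  have hsur : Function.Surjective φ := by
    rintro ⟨⟨x, hx⟩, h⟩
    obtain ⟨w, l, hl, e⟩ := fix_t_form hx h
    exact ⟨(w, ⟨l, hl⟩), Subtype.ext (Subtype.ext e.symm)⟩
  rw [← Nat.card_congr (Equiv.ofBijective φ ⟨hinj, hsur⟩), Nat.card_prod, card_TT, Nat.card_fin]

theorem card_N1 (hp : S.IsPatFour) (hg : ∀ g : S.N, Good g) : Nat.card (N1 S) = 768 := by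
  classical
  let Ω : Set TT := {a | (a.e && !a.b) = true}
  have hΩ : ∀ a : Ω, ∃ s : N1 S, actA s TT.t = (a : TT) := by
    rintro ⟨a, ha⟩
    have ha' : a.e = true ∧ a.b = false := by simpa [Ω] using ha
    obtain ⟨n, i, hi, e⟩ := exists_shift hp ha'.2 ha'.1
    refine ⟨⟨n, N_le_N1 hp hg n.2⟩ * ⟨S.ρ ^ i, rho_pow_mem i⟩, ?_⟩
    have h1 : actA (⟨n, N_le_N1 hp hg n.2⟩ : N1 S) TT.t = S.act n TT.t :=
      actA_eq rfl (S.j_act n TT.t).symm
    rw [actA_comp _ _ rfl, h1, actA_rho_pow i (by rw [← h1]; exact actA_b _ rfl), e]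
  choose s hs using hΩ
  have hmem : ∀ x : N1 S, actA x TT.t ∈ Ω := fun x => by
    show (_ && _) = true
    rw [actA_e hp x (u := TT.t) rfl, actA_b x rfl]; rfl
  let e : N1 S ≃ Ω × {x : N1 S // cj (x : G) S.t = S.t} :=
    { toFun := fun x => (⟨_, hmem x⟩, ⟨x * (s ⟨_, hmem x⟩)⁻¹, by
        show cj ((x : G) * ((s ⟨_, hmem x⟩ : N1 S) : G)⁻¹) S.t = S.t
        rw [← cj_cj, ← j_t, ← j_actA x rfl,
          show S.j (actA x TT.t) = cj ((s ⟨_, hmem x⟩ : N1 S) : G) (S.j TT.t) by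
            rw [← j_actA _ rfl, hs], cj_inv_cancel]⟩)
      invFun := fun p => p.2.1 * s p.1
      left_inv := fun x => inv_mul_cancel_right _ _
      right_inv := fun ⟨a, ⟨c, hc⟩⟩ => by
        have ha : actA (c * s a) TT.t = (a : TT) := by
          rw [actA_comp _ _ rfl, actA_eq (x := c) (w := TT.t) rfl (by rw [j_t]; exact hc), hs]
        have e1 : (⟨_, hmem (c * s a)⟩ : Ω) = a := Subtype.ext ha
        refine Prod.ext e1 (Subtype.ext ?_)
        show c * s a * (s ⟨_, hmem (c * s a)⟩)⁻¹ = c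
        rw [e1, mul_inv_cancel_right] }
  rw [Nat.card_congr e, Nat.card_prod, card_fix_t, Nat.card_coe_set_eq, ← countP_eq_ncard,
    show allTT.countP (fun a => a.e && !a.b) = 8 from by decide +kernel]

end Setup

end CfsgLib.Z2S6
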