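import Cfsg.Agent.Z2S6.PatternOne
import Mathlib.GroupTheory.SpecificGroups.Cyclic
import Mathlib.GroupTheory.Commutator.Basic

/-!
# In the pattern with four central conjugates `N(T)` fixes `r` and the two classes of `X` and `Y`
-/

set_option autoImplicit false
set_option linter.unusedSectionVars false
set_option linter.style.haveILetI false

open Subgroup

namespace CfsgLib.Z2S6

namespace Setup

variable {G : Type*} [Group G] (S : Setup G)

/-- The conjugates of `t` in `T` in this pattern. -/
def twelve (u : TT) : Bool := pat false false false true true true u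

theorem twelve_iff : ∀ u : TT, twelve u = true ↔ (u.e = true ∧ u * u = 1) := by decide +kernel

/-- The endomorphism with the given images of `t, X, Y, r` and fixing `z`. -/
def af (p x y q u : TT) : TT :=
  (bif u.e then p else 1) * ((bif u.a then x else 1) * ((bif u.b then y else 1) *
    ((bif u.c then q else 1) * (bif u.d then TT.z else 1))))

/-- Possible images of `t`. -/
def pList : List TT := [TT.t, TT.t * TT.z, TT.t * TT.r, TT.t * TT.r * TT.z]
/-- Possible images of `X` and `Y`. -/
def ncList : List TT :=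
  [TT.X, TT.X * TT.z, TT.X * TT.r, TT.X * TT.r * TT.z,
    TT.Y, TT.Y * TT.z, TT.Y * TT.r, TT.Y * TT.r * TT.z]
/-- Possible images of `r`. -/
def qList : List TT := [TT.r, TT.r * TT.z]

/-- `R = XY`. -/
def RR : TT := ⟨false, true, true, false, false⟩
/-- `tR`. -/
def tRR : TT := ⟨true, true, true, false, false⟩

/-- Number of fixed points. -/
def nfix (f : TT → TT) : ℕ := allTT.countP fun v => decide (f v = v)

theorem moved_r : ∀ p ∈ pList, ∀ x ∈ ncList, ∀ y ∈ ncList,
    (∀ u, af p x y (TT.r * TT.z) (af p x y (TT.r * TT.z) u) = u) →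
      p = TT.t ∨ p = TT.t * TT.z := by decide +kernel

theorem swap_fix : ∀ p ∈ pList, ∀ x ∈ ncList, ∀ y ∈ ncList, x.b = true → p ≠ TT.t →
    (∀ u, af p x y TT.r (af p x y TT.r u) = u) →
      nfix (af p x y TT.r) ≤ 8 ∧ (nfix (af p x y TT.r) = 8 →
        p = TT.t * TT.z ∧ af p x y TT.r tRR = tRR) := by decide +kernel

set_option synthInstance.maxSize 100000 in
set_option synthInstance.maxHeartbeats 1000000 in
theorem swap_comm : ∀ x ∈ ncList, ∀ y ∈ ncList, x.b = true →
    (∀ u, af (TT.t * TT.z) x y TT.r (af (TT.t * TT.z) x y TT.r u) = u) →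
    af (TT.t * TT.z) x y TT.r tRR = tRR →
    ∀ x' ∈ ncList, ∀ y' ∈ ncList, ∀ q' ∈ qList, x'.b ≠ y'.b →
      (∀ u ∈ [TT.t, TT.X, TT.Y], af (TT.t * TT.r) x' y' q' (af (TT.t * TT.z) x y TT.r u) =
        af (TT.t * TT.z) x y TT.r (af (TT.t * TT.r) x' y' q' u)) →
      af (TT.t * TT.r) x' y' q' tRR ≠ tRR ∧
        af (TT.t * TT.r) x' y' q' tRR ≠ tRR * TT.z := by decide +kernel

set_option synthInstance.maxSize 100000 in
set_option synthInstance.maxHeartbeats 1000000 in
theorem pair_cases : ∀ p ∈ pList, ∀ x ∈ ncList, ∀ y ∈ ncList, x.b = false → y.b = true →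
    p ≠ TT.t → (∀ u, af p x y TT.r (af p x y TT.r u) = u) → 8 ≤ nfix (af p x y TT.r) →
    ∀ u : TT, u.e = true → af p x y TT.r u * u = 1 →
      (u * u = 1 ∧ af p x y TT.r u = u) ∨
      (p = TT.t * TT.z ∧ u.a = true ∧ u.b = true ∧
        ((∀ v : TT, v.e = false → af p x y TT.r v = v) ∨
         (∀ v : TT, v.e = false → u⁻¹ * af p x y TT.r v * u = v) ∨
         (nfix (af p x y TT.r) = 8 ∧ af p x y TT.r RR = RR ∧
           (x = TT.X * TT.r ∨ x = TT.X * TT.r * TT.z)))) ∨
      (nfix (af p x y TT.r) = 8 ∧ ∃ w : TT, af p x y TT.r w = w ∧ w.a ≠ w.b ∧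
        ∀ v : TT, af p x y TT.r v = v → v.a ≠ v.b → v.b = w.b) := by decide +kernel

theorem side_keep : ∀ p ∈ pList, ∀ x ∈ ncList, ∀ y ∈ ncList, ∀ q ∈ qList, x.b ≠ y.b →
    ∀ w : TT, w.a ≠ w.b → (af p x y q w).a ≠ (af p x y q w).b ∧
      ((af p x y q w).b = w.b → x.b = false) := by decide +kernel

set_option synthInstance.maxSize 100000 in
set_option synthInstance.maxHeartbeats 1000000 in
theorem eight_false : ∀ x ∈ ncList, ∀ y ∈ ncList,
    (x = TT.X * TT.r ∨ x = TT.X * TT.r * TT.z) → y.b = true →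
    af (TT.t * TT.z) x y TT.r RR = RR →
    ∀ u : TT, u.e = true → u.a = true → u.b = true →
    ∀ pk ∈ [TT.t * TT.r, TT.t * TT.r * TT.z], ∀ xk ∈ ncList, ∀ yk ∈ ncList,
      xk.b ≠ yk.b → af pk xk yk TT.r RR = RR * TT.z →
      ∀ q : TT, q⁻¹ * af pk xk yk TT.r RR * q = RR * TT.z →
        af (TT.t * TT.z) x y TT.r q⁻¹ * af pk xk yk TT.r u * q ≠ u := by decide +kernel

theorem square_e : ∀ p ∈ pList, ∀ x ∈ ncList, ∀ y ∈ ncList, ∀ q ∈ qList,
    p ≠ TT.t → ¬ (p = TT.t * TT.z ∧ q ≠ TT.r) → x.b ≠ y.b →
    ∀ u : TT, u.e = true → af p x y q u = u →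
      ¬ ∀ v : TT, af p x y q (af p x y q v) = u⁻¹ * v * u := by decide +kernel

variable [Finite G]

variable {S}

theorem six_act_e (hp : S.IsPatFour) (g : S.N) {w : TT} (hw : twelve w = true) :
    twelve (S.act g w) = true :=
  (hp _).mp ((S.E_act g w).mpr ((hp w).mpr hw))

/-- The action of an element of `N(T)` in parameters. -/
theorem act_params (hp : S.IsPatFour) (g : S.N) :
    S.act g TT.t ∈ pList ∧ S.act g TT.X ∈ ncList ∧ S.act g TT.Y ∈ ncList ∧
      S.act g TT.r ∈ qList ∧ (S.act g TT.X).b ≠ (S.act g TT.Y).b ∧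
      ∀ u, S.act g u = af (S.act g TT.t) (S.act g TT.X) (S.act g TT.Y) (S.act g TT.r) u := by
  have he : ∀ w, twelve w = true → (S.act g w).e = true := fun w hw =>
    ((twelve_iff _).mp (six_act_e hp g hw)).1
  have mule : ∀ v w, (v * w : TT).e = xor v.e w.e := fun _ _ => rfl
  have ht : (S.act g TT.t).e = true := he _ (by decide)
  have h0 : ∀ w, twelve (TT.t * w) = true → (S.act g w).e = false := by
    intro w hw
    have := he _ hw
    rw [S.act_mul, mule, ht] at this
    simpa using this
  have hpt : S.act g TT.t ∈ pList := by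
    have h1 := six_act_e hp g (w := TT.t) (by decide)
    have h2 : cen (S.act g TT.t) = true := S.cen_act g (by decide)
    exact (by decide +kernel : ∀ w, twelve w = true → cen w = true → w ∈ pList) _ h1 h2
  have hnc : ∀ w, cen w = false → cen (S.act g w) = false := by
    intro w hw
    by_contra hc
    have hc' : cen (S.act g w) = true := by simpa using hc
    have h2 := S.cen_act g⁻¹ hc'
    have : S.act g⁻¹ (S.act g w) = w := by apply S.j_inj; simp [j_act, cj_inv_cancel]
    rw [this, hw] at h2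
    cases h2
  have hsq : ∀ w : TT, w * w = 1 → S.act g w * S.act g w = 1 := fun w hw => by
    rw [← S.act_mul, hw, S.act_one]
  have hl : ∀ w : TT, w.e = false → cen w = false → w * w = 1 → w ∈ ncList := by decide +kernel
  have hX : S.act g TT.X ∈ ncList := hl _ (h0 _ (by decide)) (hnc _ (by decide)) (hsq _ (by decide))
  have hY : S.act g TT.Y ∈ ncList := hl _ (h0 _ (by decide)) (hnc _ (by decide)) (hsq _ (by decide))
  have hq : S.act g TT.r ∈ qList := by
    have hz : S.act g TT.r ≠ TT.z := fun e =>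
      absurd (S.act_inj g (e.trans (S.act_z g).symm)) (by decide)
    have h1 : S.act g TT.r ≠ 1 := fun e =>
      absurd (S.act_inj g (e.trans (S.act_one g).symm)) (by decide)
    exact (by decide +kernel : ∀ w : TT, w.e = false → cen w = true → w ≠ 1 → w ≠ TT.z →
      w ∈ qList) _ (h0 _ (by decide)) (S.cen_act g (by decide)) h1 hz
  have hb : (S.act g TT.X).b ≠ (S.act g TT.Y).b := by
    intro e
    have hxy : S.act g TT.X * S.act g TT.Y = S.act g TT.Y * S.act g TT.X :=
      (by decide +kernel : ∀ a ∈ ncList, ∀ b ∈ ncList, a.b = b.b → a * b = b * a) _ hX _ hY e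
    rw [← S.act_mul, ← S.act_mul] at hxy
    exact absurd (S.act_inj g hxy) (by decide)
  refine ⟨hpt, hX, hY, hq, hb, fun u => ?_⟩
  have dec : ∀ w : TT, w = (bif w.e then TT.t else 1) * ((bif w.a then TT.X else 1) *
      ((bif w.b then TT.Y else 1) * ((bif w.c then TT.r else 1) *
        (bif w.d then TT.z else 1)))) := by decide +kernel
  nth_rewrite 1 [dec u]
  rw [af, S.act_mul, S.act_mul, S.act_mul, S.act_mul]
  cases u.e <;> cases u.a <;> cases u.b <;> cases u.c <;> cases u.d <;>
    simp [S.act_one, S.act_z]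

theorem act_e_four (hp : S.IsPatFour) (g : S.N) {u : TT} (hu : u.e = false) :
    (S.act g u).e = false := by
  obtain ⟨hp', hx, hy, hq, -, hf⟩ := act_params hp g
  rw [hf u]
  revert hu
  generalize S.act g TT.t = p at hp' ⊢
  generalize S.act g TT.X = x at hx ⊢
  generalize S.act g TT.Y = y at hy ⊢
  generalize S.act g TT.r = q at hq ⊢
  have : ∀ x ∈ ncList, x.e = false := by decide
  have hq' : ∀ q ∈ qList, q.e = false := by decide
  intro hu
  simp only [af, TT.mul_def]
  rw [hu]
  cases u.a <;> cases u.b <;> cases u.c <;> cases u.d <;>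
    simp [this x hx, this y hy, hq' q hq, show (1 : TT).e = false from rfl,
      show TT.z.e = false from rfl]

theorem card_N_four (hp : S.IsPatFour) : Nat.card S.N = 128 := by
  rw [S.card_N, S.ncard_orbit _ hp]; decide +kernel

theorem isPGroup_N_four (hp : S.IsPatFour) : IsPGroup 2 S.N :=
  IsPGroup.of_card (n := 7) (by rw [card_N_four hp]; rfl)

/-- An element moving `t` to `tz` fixes `r`. -/
theorem r_of_tz (hp : S.IsPatFour) (g : S.N) (hg : S.act g TT.t = TT.t * TT.z) :
    S.act g TT.r = TT.r := by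
  obtain ⟨-, -, -, hq, -, -⟩ := act_params hp g
  by_contra hne
  simp only [qList, List.mem_cons, List.not_mem_nil, or_false] at hq
  have hq' := hq.resolve_left hne
  obtain ⟨k, hk⟩ := S.exists_mem_N (u := TT.t * TT.r) (by decide) ((hp _).mpr (by decide))
  have e : S.act (k * g * k⁻¹) TT.t = TT.t := by
    rw [S.act_comp, S.act_comp, hk, S.act_mul, hg, hq',
      (by decide : TT.t * TT.z * (TT.r * TT.z) = TT.t * TT.r), ← hk, ← S.act_comp, mul_inv_cancel]
    apply S.j_inj; simp [j_act]
  have hmem : k * g * k⁻¹ ∈ S.T.subgroupOf S.N := mem_subgroupOf.mpr ((S.mem_T_iff_act_t _).mpr e)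
  haveI : (S.T.subgroupOf S.N).Normal := Subgroup.normal_in_normalizer
  have := (Subgroup.Normal.conj_mem inferInstance _ hmem k⁻¹ : _ ∈ S.T.subgroupOf S.N)
  rw [show k⁻¹ * (k * g * k⁻¹) * k⁻¹⁻¹ = g by group, mem_subgroupOf, S.mem_T_iff_act_t, hg] at this
  exact absurd this (by decide)

theorem mem_T_of_act_t_eq (g h : S.N) (e : S.act g TT.t = S.act h TT.t) :
    ((g * h⁻¹ : S.N) : G) ∈ S.T := by
  rw [S.mem_T_iff_act_t, S.act_comp, e, ← S.act_comp, mul_inv_cancel]
  apply S.j_inj; simp [j_act]

/-- The elements of `N(T)` fixing `r` and the classes of `X` and `Y`. -/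
def Good (g : S.N) : Prop := S.act g TT.r = TT.r ∧ (S.act g TT.X).b = false

theorem good_mul (hp : S.IsPatFour) {g h : S.N} (hg : Good g) (hh : Good h) : Good (g * h) := by
  refine ⟨by rw [S.act_comp, hg.1, hh.1], ?_⟩
  obtain ⟨-, hx, -, -, -, -⟩ := act_params hp g
  obtain ⟨hp', hx', hy', -, -, hf⟩ := act_params hp h
  rw [S.act_comp, hf, hh.1]
  have : ∀ p ∈ pList, ∀ x' ∈ ncList, ∀ y' ∈ ncList, x'.b = false →
      ∀ x ∈ ncList, x.b = false → (af p x' y' TT.r x).b = false := by decide +kernel
  exact this _ hp' _ hx' _ hy' hh.2 _ hx hg.2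

theorem good_of_mem_T {g : S.N} (hg : (g : G) ∈ S.T) : Good g := by
  obtain ⟨v, hv⟩ := hg
  rw [Good, show g = ⟨S.j v, S.T_le_N (S.j_mem v)⟩ from Subtype.ext hv.symm, S.act_of_mem_T,
    S.act_of_mem_T]
  exact (by decide +kernel : ∀ v : TT, v⁻¹ * TT.r * v = TT.r ∧ (v⁻¹ * TT.X * v).b = false) v

/-- The subgroup of good elements. -/
def goodSubgroup (hp : S.IsPatFour) : Subgroup S.N where
  carrier := {g | Good g}
  one_mem' := good_of_mem_T (one_mem S.T)
  mul_mem' := good_mul hp
  inv_mem' {g} hg := by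
    have hpow : ∀ n : ℕ, Good (g ^ n) := by
      intro n
      induction n with
      | zero => exact good_of_mem_T (by rw [pow_zero]; exact one_mem _)
      | succ n ih => rw [pow_succ]; exact good_mul hp ih hg
    have : g⁻¹ = g ^ (orderOf g - 1) := by
      refine inv_eq_of_mul_eq_one_right ?_
      rw [← pow_succ', Nat.sub_add_cancel (orderOf_pos g), pow_orderOf_eq_one]
    rw [Set.mem_ofPred_eq, this]
    exact hpow _

theorem good_coset (hp : S.IsPatFour) (hbad : ∃ g : S.N, ¬ Good g) {g h : S.N} (hg : Good g)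
    (hh : Good h) (hgT : (g : G) ∉ S.T) (hhT : (h : G) ∉ S.T) : ((g⁻¹ * h : S.N) : G) ∈ S.T := by
  set K : Subgroup S.N := goodSubgroup hp with hK
  let T' : Subgroup K := (S.T.subgroupOf S.N).subgroupOf K
  have hle : S.T.subgroupOf S.N ≤ K := fun x hx => good_of_mem_T (mem_subgroupOf.mp hx)
  have hcT : Nat.card (S.T.subgroupOf S.N) = 32 := by
    rw [Nat.card_congr (Subgroup.subgroupOfEquivOfLe S.T_le_N).toEquiv, S.card_T]
  have hT' : Nat.card T' = 32 := by
    rw [Nat.card_congr (Subgroup.subgroupOfEquivOfLe hle).toEquiv, hcT]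
  have hlt : Nat.card K < 128 := by
    obtain ⟨b, hb⟩ := hbad
    rw [← card_N_four hp]
    refine lt_of_le_of_ne (Subgroup.card_le_card_group K) fun e => hb ?_
    exact ((Subgroup.card_eq_iff_eq_top K).mp e ▸ mem_top b : b ∈ K)
  have hdvd : Nat.card K ∣ 128 := card_N_four hp ▸ Subgroup.card_subgroup_dvd_card K
  obtain ⟨i, hi, hK'⟩ := (Nat.dvd_prime_pow Nat.prime_two).mp (show Nat.card K ∣ 2 ^ 7 from hdvd)
  have hi6 : i ≤ 6 := by
    by_contra h
    rw [hK', show i = 7 by omega] at hlt
    norm_num at hlt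
  have hidx : T'.index ≤ 2 := by
    have := T'.index_mul_card
    rw [hT', hK'] at this
    have : (2 : ℕ) ^ i ≤ 2 ^ 6 := Nat.pow_le_pow_right (by norm_num) hi6
    norm_num at this ⊢
    omega
  have hmem : ∀ x : K, x ∈ T' ↔ ((x : S.N) : G) ∈ S.T := fun x => Iff.rfl
  rcases Nat.lt_or_ge T'.index 2 with h1 | h1
  · have : T' = ⊤ := index_eq_one.mp (by have := T'.index_ne_zero_of_finite; omega)
    exact absurd ((hmem ⟨g, hg⟩).mp (this ▸ mem_top _)) hgT
  · have h2 : T'.index = 2 := le_antisymm hidx h1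
    have hg' : ((⟨g, hg⟩ : K))⁻¹ ∉ T' := fun e => hgT ((hmem _).mp (inv_mem_iff.mp e))
    exact (hmem ((⟨g, hg⟩ : K)⁻¹ * ⟨h, hh⟩)).mp ((mul_mem_iff_of_index_two h2).mpr
      ⟨fun e => absurd e hg', fun e => absurd ((hmem _).mp e) hhT⟩)

/-- The elements of `N(T)` whose square lies in `T` have square in `P`. -/
theorem sq_e (hp : S.IsPatFour) (g : S.N) {u : TT} (hu : S.j u = (g : G) * g) : u.e = false := by
  by_cases hgT : (g : G) ∈ S.T
  · obtain ⟨v, hv⟩ := hgT
    have : u = v * v := S.j_inj (by rw [hu, map_mul, hv])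
    rw [this, TT.mul_def]
    simp
  obtain ⟨hp', hx, hy, hq, hb, hf⟩ := act_params hp g
  cases he : u.e
  · rfl
  refine absurd ?_ (square_e _ hp' _ hx _ hy _ hq (fun e => hgT ((S.mem_T_iff_act_t g).mpr e))
    (fun e => e.2 (r_of_tz hp g e.1)) hb u he ?_)
  · intro v
    rw [← hf v, ← hf, ← S.act_comp]
    apply S.j_inj
    rw [j_act, ← S.cj_j, hu]
    rfl
  · rw [← hf]
    apply S.j_inj
    rw [j_act, hu, cj_eq_iff_commute, mul_assoc]

/-- Facts on `2`-subgroups `centIn S.N y` of order 32. -/
theorem cent_facts (hp : S.IsPatFour) {y : G} (hy : IsConj S.t y)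
    (h32 : Nat.card (centIn S.N y) = 32) :
    (∀ c0 ∈ centIn S.N y, c0 * c0 = S.z → ∀ a ∈ centIn S.N y, a * a = 1 ∨ a * a = S.z) ∧
    (∀ c0 ∈ centIn S.N y, c0 * c0 = S.z → ∀ a ∈ centIn S.N y, ∀ b ∈ centIn S.N y,
      cj b a = a ∨ cj b a = a * S.z) ∧
    (∃ a ∈ centIn S.N y, ∃ b ∈ centIn S.N y, a * b ≠ b * a) ∧
    {w | IsConj S.t w ∧ w ∈ centIn S.N y}.ncard = 12 := by
  obtain ⟨g, -, hg⟩ := (S.centIn_bound (isPGroup_N_four hp) hy).2 h32
  have hpre : ∀ u, cj g⁻¹ (S.j u) ∈ centIn S.N y := fun u =>
    (hg _).mpr (by rw [cj_cancel_inv]; exact S.j_mem u)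
  have hsz : ∀ c0 ∈ centIn S.N y, c0 * c0 = S.z → cj g S.z = S.z := by
    intro c0 hc0 he
    obtain ⟨u, hu⟩ := (hg c0).mp hc0
    have e : cj g S.z = S.j (u * u) := by rw [← he, cj_mul, map_mul, hu]
    rcases sq_vals u with h | h
    · rw [h, map_one] at e
      have hz1 : S.z = 1 := cj_injective g (e.trans (cj_one_right g).symm)
      exact absurd (S.j_inj ((S.j_z.trans hz1).trans (map_one S.j).symm)) (by decide)
    · rw [e, h, j_z]
  refine ⟨fun c0 hc0 he a ha => ?_, fun c0 hc0 he a ha b hb => ?_,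
    ⟨_, hpre TT.X, _, hpre TT.Y, fun e => ?_⟩, ?_⟩
  · obtain ⟨u, hu⟩ := (hg a).mp ha
    have e : cj g (a * a) = S.j (u * u) := by rw [cj_mul, map_mul, hu]
    rcases sq_vals u with h | h
    · left; rw [h, map_one] at e; exact cj_injective g (e.trans (cj_one_right g).symm)
    · right; rw [h, j_z] at e; exact cj_injective g (e.trans (hsz c0 hc0 he).symm)
  · obtain ⟨u, hu⟩ := (hg a).mp ha
    obtain ⟨v, hv⟩ := (hg b).mp hb
    have e : cj g (cj b a) = S.j (v⁻¹ * u * v) := by
      rw [← S.cj_j, hu, hv]; unfold cj; group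
    rcases (by decide +kernel : ∀ u v : TT, v⁻¹ * u * v = u ∨ v⁻¹ * u * v = u * TT.z) u v with
      h | h
    · left; rw [h, hu] at e; exact cj_injective g e
    · right
      rw [h, map_mul, hu, j_z, ← hsz c0 hc0 he, ← cj_mul] at e
      exact cj_injective g e
  · rw [← cj_mul, ← cj_mul, ← map_mul, ← map_mul] at e
    exact absurd (S.j_inj (cj_injective _ e)) (by decide)
  · have e : {w | IsConj S.t w ∧ w ∈ centIn S.N y} =
        cj g⁻¹ '' (S.j '' {u | twelve u = true}) := by
      ext w
      simp only [Set.mem_ofPred_eq, Set.mem_image, exists_exists_and_eq_and]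
      constructor
      · rintro ⟨hw, hc⟩
        obtain ⟨u, hu⟩ := (hg w).mp hc
        refine ⟨u, (hp u).mp ?_, by rw [hu, cj_inv_cancel]⟩
        show IsConj S.t (S.j u)
        rw [hu, isConj_cj_iff]; exact hw
      · rintro ⟨u, hu, rfl⟩
        exact ⟨(isConj_cj_iff _ _).mpr ((hp u).mpr hu), hpre u⟩
    rw [e, Set.ncard_image_of_injective _ (cj_injective _),
      Set.ncard_image_of_injective _ S.j_inj, ← countP_eq_ncard]
    decide +kernel

/-- If `z` is a commutator of the centralizer, all its squares are `1` or `z`. -/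
theorem cent_comm_z (hp : S.IsPatFour) {y : G} (hy : IsConj S.t y)
    (h32 : Nat.card (centIn S.N y) = 32) {a b : G} (ha : a ∈ centIn S.N y)
    (hb : b ∈ centIn S.N y) (hab : cj b a = a * S.z) {c : G} (hc : c ∈ centIn S.N y) :
    c * c = 1 ∨ c * c = S.z := by
  obtain ⟨g, -, hg⟩ := (S.centIn_bound (isPGroup_N_four hp) hy).2 h32
  obtain ⟨u, hu⟩ := (hg a).mp ha
  obtain ⟨v, hv⟩ := (hg b).mp hb
  obtain ⟨w, hw⟩ := (hg c).mp hc
  have e : cj g (cj b a) = S.j (v⁻¹ * u * v) := by
    rw [← S.cj_j, hu, hv]; unfold cj; group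
  rw [hab, cj_mul, ← hu] at e
  have hz : cj g S.z = S.z := by
    rcases (by decide +kernel : ∀ u v : TT, v⁻¹ * u * v = u ∨ v⁻¹ * u * v = u * TT.z) u v with
      h | h <;> rw [h] at e
    · have hz1 : S.z = 1 := cj_injective g ((mul_eq_left.mp e).trans (cj_one_right g).symm)
      exact absurd (S.j_inj ((S.j_z.trans hz1).trans (map_one S.j).symm)) (by decide)
    · rw [map_mul, j_z] at e; exact mul_left_cancel e
  have e2 : cj g (c * c) = S.j (w * w) := by rw [cj_mul, map_mul, hw]
  rcases sq_vals w with h | h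
  · left; rw [h, map_one] at e2; exact cj_injective g (e2.trans (cj_one_right g).symm)
  · right; rw [h, j_z] at e2; exact cj_injective g (e2.trans hz.symm)

/-- Two commuting conjugates of `t` never have a conjugate of `t` as product. -/
theorem no_triangle (hp : S.IsPatFour) {x x' : G} (hx : IsConj S.t x) (hx' : IsConj S.t x')
    (hc : x * x' = x' * x) : ¬ IsConj S.t (x * x') := by
  obtain ⟨g, hg⟩ := exists_cj_of_isConj hx.symm
  have h1 : IsConj S.t (cj g x') := (isConj_cj_iff _ _).mpr hx'
  have hcomm : cj g x' * S.t = S.t * cj g x' := by rw [← hg, ← cj_mul, ← cj_mul, hc]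
  obtain ⟨d, hd⟩ := exists_cj_of_isConj h1
  have hsq : cj g x' ^ 2 ^ 1 = 1 := by
    rw [pow_one, pow_two, ← hd, ← cj_mul, S.t_sq, cj_one_right]
  haveI : Fact (Nat.Prime 2) := ⟨Nat.prime_two⟩
  have hP : IsPGroup 2 (zpowers (cj g x')) := by
    obtain ⟨i, -, hi⟩ := (Nat.dvd_prime_pow Nat.prime_two).mp (orderOf_dvd_of_pow_eq_one hsq)
    exact IsPGroup.of_card (n := i) (by rw [Nat.card_zpowers, hi])
  obtain ⟨c, hct, hc'⟩ := S.exists_conj_le hP
    (zpowers_le.mpr (mem_centralizer_singleton_iff.mpr hcomm))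
  obtain ⟨u, hu⟩ := hc' _ (mem_zpowers _)
  have hEu : S.E u := by
    show IsConj S.t (S.j u)
    rw [hu, isConj_cj_iff]; exact h1
  intro hxx
  have : S.E (TT.t * u) := by
    show IsConj S.t (S.j (TT.t * u))
    have e : cj c (cj g (x * x')) = S.j (TT.t * u) := by
      rw [cj_mul, cj_mul, hg, hct, map_mul, j_t, hu]
    rw [← e, isConj_cj_iff, isConj_cj_iff]
    exact hxx
  exact (by decide +kernel : ∀ u, twelve u = true → ¬ twelve (TT.t * u) = true) u
    ((hp u).mp hEu) ((hp _).mp this)

/-- Size and image of the centralizer of an element outside `T`. -/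
theorem cent_fix (hp : S.IsPatFour) {y : S.N} (h32 : Nat.card (centIn S.N (y : G)) = 32) :
    8 ≤ nfix (S.act y) ∧ (nfix (S.act y) = 8 →
      ∀ g : S.N, ∃ c : S.N, (c : G) ∈ centIn S.N (y : G) ∧ ((c⁻¹ * g : S.N) : G) ∈ S.T) := by
  haveI : (S.T.subgroupOf S.N).Normal := Subgroup.normal_in_normalizer
  let C : Subgroup S.N := (centIn S.N (y : G)).subgroupOf S.N
  have hC : Nat.card C = 32 := by
    exact (Nat.card_congr (Subgroup.subgroupOfEquivOfLe inf_le_left).toEquiv).trans h32
  let f : C →* S.N ⧸ S.T.subgroupOf S.N := (QuotientGroup.mk' _).comp C.subtype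
  have hQ : Nat.card (S.N ⧸ S.T.subgroupOf S.N) = 4 := by
    have := (S.T.subgroupOf S.N).index_mul_card
    rw [Nat.card_congr (Subgroup.subgroupOfEquivOfLe S.T_le_N).toEquiv, S.card_T, card_N_four hp,
      index_eq_card] at this
    omega
  have hker : Nat.card f.ker = nfix (S.act y) := by
    rw [nfix, countP_eq_ncard, ← Nat.card_coe_set_eq]
    have hfwd : ∀ x : f.ker, (((x : C) : S.N) : G) ∈ S.T := fun x =>
      mem_subgroupOf.mp ((QuotientGroup.eq_one_iff _).mp x.2)
    let F : f.ker → {u : TT | decide (S.act y u = u) = true} := fun x => ⟨(hfwd x).choose, by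
      show decide (_ = _) = true
      rw [decide_eq_true_iff]
      apply S.j_inj
      rw [j_act, cj_eq_iff_commute, (hfwd x).choose_spec]
      exact (mem_centIn.mp (mem_subgroupOf.mp (x : C).2)).2.symm⟩
    refine Nat.card_congr (Equiv.ofBijective F ⟨?_, ?_⟩)
    · intro a b hab
      refine Subtype.ext (Subtype.ext (Subtype.ext ?_))
      have h : ((F a : {u : TT | decide (S.act y u = u) = true}) : TT) = (F b : TT) := by rw [hab]
      exact ((hfwd a).choose_spec.symm.trans (congrArg S.j h)).trans (hfwd b).choose_spec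
    · rintro ⟨v, hv⟩
      have hv' : S.act y v = v := of_decide_eq_true hv
      have hmem : (⟨S.j v, S.T_le_N (S.j_mem v)⟩ : S.N) ∈ C :=
        mem_subgroupOf.mpr (mem_centIn.mpr ⟨S.T_le_N (S.j_mem v),
          ((cj_eq_iff_commute _ _).mp (by rw [← j_act, hv'])).symm⟩)
      have hk : (⟨_, hmem⟩ : C) ∈ f.ker :=
        (QuotientGroup.eq_one_iff _).mpr (mem_subgroupOf.mpr (S.j_mem v))
      refine ⟨⟨_, hk⟩, Subtype.ext (S.j_inj ?_)⟩
      exact (hfwd ⟨_, hk⟩).choose_spec
  have hmul : Nat.card f.range * nfix (S.act y) = 32 := by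
    rw [← hker, ← hC, ← Subgroup.index_ker, Subgroup.index_mul_card]
  have hle : Nat.card f.range ≤ 4 := hQ ▸ Subgroup.card_le_card_group f.range
  refine ⟨?_, fun h8 g => ?_⟩
  · by_contra h
    have := Nat.mul_le_mul hle (show nfix (S.act y) ≤ 7 by omega)
    omega
  · have htop : f.range = ⊤ := (Subgroup.card_eq_iff_eq_top _).mp (by rw [hQ]; rw [h8] at hmul; omega)
    obtain ⟨c, hc⟩ := (htop ▸ mem_top _ : QuotientGroup.mk' _ g ∈ f.range)
    exact ⟨(c : S.N), mem_subgroupOf.mp c.2, mem_subgroupOf.mp (QuotientGroup.eq.mp hc)⟩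

theorem act_invol {y : S.N} (hy : (y : G) * y = 1) (u : TT) : S.act y (S.act y u) = u := by
  rw [← S.act_comp, show y * y = 1 from Subtype.ext hy]
  apply S.j_inj; simp [j_act]

theorem conj_sq {x : G} (hx : IsConj S.t x) : x * x = 1 := by
  obtain ⟨c, hc⟩ := exists_cj_of_isConj hx
  rw [← hc, ← cj_mul, S.t_sq, cj_one_right]

theorem fix_of_comm {c y : S.N} (hc : (c : G) ∈ centIn S.N (y : G)) :
    cj (c : G) (y : G) = y := (cj_eq_iff_commute _ _).mpr (mem_centIn.mp hc).2

/-- Outer conjugates of `t` with large centralizer are good. -/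
theorem ext_good (hp : S.IsPatFour) {y : S.N} (hy : IsConj S.t (y : G)) (hyT : (y : G) ∉ S.T)
    (h32 : Nat.card (centIn S.N (y : G)) = 32) : Good y := by
  have hy2 := conj_sq hy
  obtain ⟨hp', hx, hy', hq, -, hf⟩ := act_params hp y
  have hne : S.act y TT.t ≠ TT.t := fun e => hyT ((S.mem_T_iff_act_t y).mpr e)
  have hinv : ∀ u, S.act y (S.act y u) = u := act_invol hy2
  simp only [qList, List.mem_cons, List.not_mem_nil, or_false] at hq
  have hr : S.act y TT.r = TT.r := by
    rcases hq with h | h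
    · exact h
    · rw [h] at hf
      rcases moved_r _ hp' _ hx _ hy' (fun u => by rw [← hf, ← hf, hinv]) with e | e
      · exact absurd e hne
      · exact r_of_tz hp y e
  refine ⟨hr, ?_⟩
  by_contra hb
  have hb' : (S.act y TT.X).b = true := by simpa using hb
  rw [hr] at hf
  obtain ⟨h8le, h8imp⟩ := swap_fix _ hp' _ hx _ hy' hb' hne (fun u => by rw [← hf, ← hf, hinv])
  obtain ⟨hge, hfull⟩ := cent_fix hp h32
  have hfe : S.act y = af (S.act y TT.t) (S.act y TT.X) (S.act y TT.Y) TT.r := funext hf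
  rw [hfe] at hge
  have h8 : nfix (S.act y) = 8 := by rw [hfe]; omega
  obtain ⟨hpz, hR⟩ := h8imp (by rw [hfe] at h8; exact h8)
  obtain ⟨g, hg⟩ := S.exists_mem_N (u := TT.t * TT.r) (by decide) ((hp _).mpr (by decide))
  obtain ⟨c, hc, hcg⟩ := hfull h8 g
  have hct : S.act c TT.t = TT.t * TT.r := by
    rw [← hg]
    have e : g = c * (c⁻¹ * g) := by group
    conv_rhs => rw [e]
    rw [S.act_comp, S.act_T_cen hcg (S.cen_act c (by decide))]
  obtain ⟨-, hx2, hy2', hq2, hb2, hf2⟩ := act_params hp c
  rw [hct] at hf2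
  have hcomm : ∀ u, S.act c (S.act y u) = S.act y (S.act c u) := by
    intro u
    rw [← S.act_comp, ← S.act_comp]
    congr 1
    exact Subtype.ext (mem_centIn.mp hc).2.symm
  rw [hpz] at hf hR
  have hkey := swap_comm _ hx _ hy' hb' (fun u => by rw [← hf, ← hf, hinv]) hR _ hx2 _ hy2' _ hq2 hb2
    (fun u _ => by rw [← hf2, ← hf, ← hf, ← hf2, hcomm])
  -- commutators in the centralizer
  have hRmem : S.j tRR ∈ centIn S.N (y : G) :=
    mem_centIn.mpr ⟨S.T_le_N (S.j_mem _),
      ((cj_eq_iff_commute _ _).mp (by rw [← j_act, hf, hR])).symm⟩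
  have hR2 : S.j tRR * S.j tRR = S.z := by
    rw [← map_mul, ← j_z]; exact congrArg S.j (by decide)
  obtain ⟨-, hcom, -, -⟩ := cent_facts hp hy h32
  rcases hcom _ hRmem hR2 _ hRmem _ hc with e | e
  · exact hkey.1 (by rw [← hf2]; apply S.j_inj; rw [j_act, e])
  · exact hkey.2 (by rw [← hf2]; apply S.j_inj; rw [j_act, e, map_mul, j_z])

/-- An outer conjugate centralizing `P` cannot have a companion in `tR`. -/
theorem sixteen_false (hp : S.IsPatFour) {y : S.N} (hy : IsConj S.t (y : G))
    (hyT : (y : G) ∉ S.T) (h32 : Nat.card (centIn S.N (y : G)) = 32)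
    (hP : ∀ v : TT, v.e = false → S.act y v = v) (hyt : S.act y TT.t = TT.t * TT.z) {u : TT}
    (hue : u.e = true) (hua : u.a = true) (hub : u.b = true)
    (hy' : IsConj S.t ((y : G) * S.j u)) : False := by
  have hy2 := conj_sq hy
  have hcomm : ∀ v : TT, v.e = false → S.j v * (y : G) = y * S.j v := fun v hv =>
    ((cj_eq_iff_commute _ _).mp (by rw [← j_act, hP v hv])).symm
  -- the centralizer is `P ∪ yP`
  let A : Set G := S.j '' {v | v.e = false}
  let B : Set G := (fun v => (y : G) * S.j v) '' {v | v.e = false}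
  have hsub : A ∪ B ⊆ (centIn S.N (y : G) : Set G) := by
    rintro _ (⟨v, hv, rfl⟩ | ⟨v, hv, rfl⟩)
    · exact mem_centIn.mpr ⟨S.T_le_N (S.j_mem v), hcomm v hv⟩
    · refine mem_centIn.mpr ⟨mul_mem y.2 (S.T_le_N (S.j_mem v)), ?_⟩
      show (y : G) * S.j v * y = y * (y * S.j v)
      rw [mul_assoc, hcomm v hv]
  have hdj : Disjoint A B := by
    rw [Set.disjoint_left]
    rintro _ ⟨v, -, rfl⟩ ⟨w, -, hw⟩
    exact hyT ((mul_mem_cancel_right (S.j_mem w)).mp
      ((show (y : G) * S.j w = S.j v from hw) ▸ S.j_mem v))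
  have h16 : ({v | v.e = false} : Set TT).ncard = 16 := by
    rw [show ({v | v.e = false} : Set TT) = {v | (!v.e) = true} from Set.ext fun v => by simp,
      ← countP_eq_ncard]
    decide +kernel
  have heq : A ∪ B = (centIn S.N (y : G) : Set G) := by
    refine Set.eq_of_subset_of_ncard_le hsub ?_ (Set.toFinite _)
    rw [Set.ncard_union_eq hdj (Set.toFinite _) (Set.toFinite _),
      Set.ncard_image_of_injective _ S.j_inj,
      Set.ncard_image_of_injective _ (fun a b h => S.j_inj (mul_left_cancel h)), h16,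
      ← Nat.card_coe_set_eq]
    exact h32.le
  obtain ⟨-, -, -, h12⟩ := cent_facts hp hy h32
  have hset : {w | IsConj S.t w ∧ w ∈ centIn S.N (y : G)} ⊆
      (fun v => (y : G) * S.j v) '' {v | (!v.e && decide (v * v = 1)) = true} := by
    rintro w ⟨hw, hwc⟩
    rcases (heq ▸ hwc : w ∈ A ∪ B) with ⟨v, hv, rfl⟩ | ⟨v, hv, rfl⟩
    · exact absurd ((twelve_iff v).mp ((hp v).mp hw)).1 (by rw [hv]; decide)
    · refine ⟨v, ?_, rfl⟩
      have hsq := conj_sq hw
      simp only [Set.mem_ofPred_eq, Bool.and_eq_true, Bool.not_eq_true', decide_eq_true_eq]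
      refine ⟨hv, S.j_inj ?_⟩
      rw [map_mul, map_one, ← hsq, mul_assoc, ← mul_assoc (S.j v), hcomm v hv, ← mul_assoc,
        ← mul_assoc, hy2, one_mul]
  have heq2 : {w | IsConj S.t w ∧ w ∈ centIn S.N (y : G)} =
      (fun v => (y : G) * S.j v) '' {v | (!v.e && decide (v * v = 1)) = true} := by
    refine Set.eq_of_subset_of_ncard_le hset ?_ (Set.toFinite _)
    rw [h12, Set.ncard_image_of_injective _ (fun a b h => S.j_inj (mul_left_cancel h)),
      ← countP_eq_ncard]
    decide +kernel
  have hall : ∀ v : TT, v.e = false → v * v = 1 → IsConj S.t ((y : G) * S.j v) := by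
    intro v hv hv2
    have : (y : G) * S.j v ∈ {w | IsConj S.t w ∧ w ∈ centIn S.N (y : G)} :=
      heq2 ▸ ⟨v, by simp [hv, hv2], rfl⟩
    exact this.1
  -- the triangle `tX, y·u, y·(tXu)`
  have key : ∀ u : TT, u.e = true → u.a = true → u.b = true →
      (u * (TT.t * TT.X)).e = false ∧ u * (TT.t * TT.X) * (u * (TT.t * TT.X)) = 1 := by
    decide +kernel
  have e1 : (y : G) * S.j (u * (TT.t * TT.X)) = (y : G) * S.j u * S.j (TT.t * TT.X) := by
    rw [map_mul, mul_assoc]
  have htX : IsConj S.t (S.j (TT.t * TT.X)) := (hp _).mpr (by decide)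
  refine no_triangle hp hy' htX ?_ (e1 ▸ hall _ (key u hue hua hub).1 (key u hue hua hub).2)
  have hact : S.act y (TT.t * TT.X) = TT.t * TT.z * TT.X := by
    rw [S.act_mul, hyt, hP TT.X rfl]
  have hj : S.j (TT.t * TT.X) * (y : G) = (y : G) * S.j (TT.t * TT.z * TT.X) := by
    rw [← hact, j_act]; unfold cj; group
  rw [mul_assoc, ← mul_assoc (S.j (TT.t * TT.X)), hj, mul_assoc, ← map_mul, ← map_mul]
  congr 2
  exact (by decide +kernel : ∀ u : TT, u.a = true → u.b = true →
    u * (TT.t * TT.X) = TT.t * TT.z * TT.X * u) u hua hub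

/-- Two outer conjugates with large centralizers agree modulo `P`. -/
theorem ext_pair (hp : S.IsPatFour) (hbad : ∃ g : S.N, ¬ Good g) {y y' : S.N}
    (hy : IsConj S.t (y : G)) (hy' : IsConj S.t (y' : G)) (hyT : (y : G) ∉ S.T)
    (hy'T : (y' : G) ∉ S.T) (h32 : Nat.card (centIn S.N (y : G)) = 32)
    (h32' : Nat.card (centIn S.N (y' : G)) = 32) :
    ∃ u : TT, u.e = false ∧ (y : G) * S.j u = y' := by
  have hgood := ext_good hp hy hyT h32
  have hgood' := ext_good hp hy' hy'T h32'
  obtain ⟨u, hu⟩ := good_coset hp hbad hgood hgood' hyT hy'T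
  have hu' : (y : G) * S.j u = y' := by rw [hu, Subgroup.coe_mul, Subgroup.coe_inv]; group
  refine ⟨u, ?_, hu'⟩
  cases he : u.e
  · rfl
  exfalso
  have hy2 := conj_sq hy
  have hy2' := conj_sq hy'
  have hinv : ∀ u, S.act y (S.act y u) = u := act_invol hy2
  obtain ⟨hp', hx, hyv, -, hb, hf⟩ := act_params hp y
  have hne : S.act y TT.t ≠ TT.t := fun e => hyT ((S.mem_T_iff_act_t y).mpr e)
  rw [hgood.1] at hf
  have hfe : S.act y = af (S.act y TT.t) (S.act y TT.X) (S.act y TT.Y) TT.r := funext hf
  have hswap : ∀ v, S.j v * (y : G) = y * S.j (S.act y v) := fun v => by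
    rw [j_act]; unfold cj; group
  have husq : S.act y u * u = 1 := by
    apply S.j_inj
    rw [map_mul, map_one, ← hy2', ← hu', mul_assoc, ← mul_assoc (S.j u), hswap, ← mul_assoc,
      ← mul_assoc, hy2, one_mul]
  have hyY : (S.act y TT.Y).b = true := by rw [hgood.2] at hb; simpa using hb
  rcases pair_cases _ hp' _ hx _ hyv hgood.2 hyY hne (fun u => by rw [← hf, ← hf, hinv])
    (hfe ▸ (cent_fix hp h32).1) u he (by rw [← hf]; exact husq) with
    ⟨hu2, hfix⟩ | ⟨hpz, hua, hub, hP | hP | ⟨h8, hR, hxr⟩⟩ | ⟨h8, w, hw, hwn, hside⟩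
  · -- a triangle
    rw [← hf] at hfix
    have hEu : IsConj S.t (S.j u) := (hp u).mpr ((twelve_iff u).mpr ⟨he, hu2⟩)
    refine no_triangle hp hy hy' ?_ ?_
    · rw [← hu', mul_assoc, hswap, hfix]
    · rw [← hu', ← mul_assoc, hy2, one_mul]; exact hEu
  · exact sixteen_false hp hy hyT h32 (fun v hv => by rw [hf]; exact hP v hv) hpz he hua hub
      (hu' ▸ hy')
  · have he' : y' = y * ⟨S.j u, S.T_le_N (S.j_mem u)⟩ := Subtype.ext hu'.symm
    have hact' : ∀ v, S.act y' v = u⁻¹ * S.act y v * u := fun v => by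
      rw [he', S.act_comp, S.act_of_mem_T]
    have hyt' : S.act y' TT.t = TT.t * TT.z := by
      rw [hact', hpz]; exact (by decide : ∀ w : TT, w⁻¹ * (TT.t * TT.z) * w = TT.t * TT.z) u
    have hinvu : (y : G) = y' * S.j u⁻¹ := by rw [map_inv, ← hu', mul_inv_cancel_right]
    refine sixteen_false hp hy' hy'T h32' (fun v hv => by rw [hact', hf]; exact hP v hv) hyt'
      (u := u⁻¹) ?_ ?_ ?_ (hinvu ▸ hy)
    · exact he
    · exact hua
    · exact hub
  · -- the centralizer meets every coset
    have h8' : nfix (S.act y) = 8 := by rw [hfe]; exact h8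
    obtain ⟨-, hfull⟩ := cent_fix hp h32
    obtain ⟨hsq, hcom, hnab, -⟩ := cent_facts hp hy h32
    have hRmem : S.j RR ∈ centIn S.N (y : G) :=
      mem_centIn.mpr ⟨S.T_le_N (S.j_mem _),
        ((cj_eq_iff_commute _ _).mp (by rw [← j_act, hf, hR])).symm⟩
    have hR2 : S.j RR * S.j RR = S.z := by
      rw [← map_mul, ← j_z]; exact congrArg S.j (by decide)
    have hTfix : ∀ {a : S.N}, (a : G) ∈ S.T → ∀ {w : TT}, cen w = true → S.act a w = w :=
      fun ha _ hw => S.act_T_cen ha hw
    -- every element fixes `r`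
    have hrfix : ∀ g : S.N, S.act g TT.r = TT.r := by
      intro g
      obtain ⟨c, hc, hcg⟩ := hfull h8' g
      have hcr : S.act c TT.r = TT.r := by
        have hcc : ((c * c : S.N) : G) ∈ S.T := by
          rcases hsq _ hRmem hR2 _ hc with e | e
          · rw [Subgroup.coe_mul, e]; exact one_mem _
          · rw [Subgroup.coe_mul, e, ← j_z]; exact S.j_mem _
        obtain ⟨hpc, -, -, hqc, -, -⟩ := act_params hp c
        simp only [qList, List.mem_cons, List.not_mem_nil, or_false] at hqc
        rcases hqc with e | e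
        · exact e
        · have h1 := hTfix hcc (w := TT.t) (by decide)
          have hct : S.act c TT.t = TT.t ∨ S.act c TT.t = TT.t * TT.z := by
            have hlin : ∀ p ∈ pList, lin p (TT.r * TT.z) p = TT.t → p = TT.t ∨ p = TT.t * TT.z := by
              decide +kernel
            refine hlin _ hpc ?_
            rw [S.act_comp, S.act_cen c (S.cen_act c (by decide : cen TT.t = true)), e] at h1
            exact h1
          rcases hct with h | h
          · exact (good_of_mem_T ((S.mem_T_iff_act_t c).mpr h)).1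
          · exact r_of_tz hp c h
      have e : g = c * (c⁻¹ * g) := by group
      rw [e, S.act_comp, hcr, hTfix hcg (by decide)]
    obtain ⟨b, hb'⟩ := hbad
    obtain ⟨k, hk, hkb⟩ := hfull h8' b
    have hkswap : (S.act k TT.X).b = true := by
      by_contra h
      have h' : (S.act k TT.X).b = false := by simpa using h
      have hgk : Good k := ⟨hrfix k, h'⟩
      refine hb' ?_
      have := good_mul hp hgk (good_of_mem_T hkb)
      rwa [show k * (k⁻¹ * b) = b by group] at this
    have hkpne : S.act k TT.t ≠ TT.t ∧ S.act k TT.t ≠ TT.t * TT.z := by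
      constructor
      · intro e
        have := (good_of_mem_T ((S.mem_T_iff_act_t k).mpr e)).2
        rw [hkswap] at this; cases this
      · intro e
        have hm := mem_T_of_act_t_eq k y (e.trans hpz.symm)
        have : Good k := by
          have h := good_mul hp (good_of_mem_T hm) hgood
          rwa [inv_mul_cancel_right] at h
        rw [Good, hkswap] at this; exact absurd this.2 (by decide)
    obtain ⟨hpk, hxk, hyk, -, hbk, hfk⟩ := act_params hp k
    rw [hrfix k] at hfk
    -- `R` is inverted by `k`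
    have hRk : cj (k : G) (S.j RR) = S.j RR * S.z := by
      rcases hcom _ hRmem hR2 _ hRmem _ hk with e | e
      · exfalso
        -- then the centralizer would be abelian
        have hgen : ∀ c ∈ centIn S.N (y : G), ∀ d ∈ ({(y : G), (k : G)} : Set G) ∪
            S.j '' {v | S.act y v = v}, c * d = d * c → True := fun _ _ _ _ _ => trivial
        clear hgen
        obtain ⟨a, ha, b', hb'', hne'⟩ := hnab
        refine hne' ?_
        have hfixk : ∀ v, S.act y v = v → S.act k v = v := by
          have hfl : ∀ x ∈ ncList, ∀ yy ∈ ncList, (x = TT.X * TT.r ∨ x = TT.X * TT.r * TT.z) →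
              yy.b = true → af (TT.t * TT.z) x yy TT.r RR = RR →
              nfix (af (TT.t * TT.z) x yy TT.r) = 8 →
              ∀ v, af (TT.t * TT.z) x yy TT.r v = v →
                v.e = false ∧ v.a = v.b := by decide +kernel
          intro v hv
          rw [hf, hpz] at hv
          rw [hpz] at hR h8
          obtain ⟨hve, hvab⟩ := hfl _ hx _ hyv hxr hyY hR h8 v hv
          have hdec : ∀ v : TT, v.e = false → v.a = v.b →
              v = (bif v.a then RR else 1) * ((bif v.c then TT.r else 1) *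
                (bif (v.d) then TT.z else 1)) := by decide +kernel
          rw [hdec v hve hvab, S.act_mul, S.act_mul]
          have hkR : S.act k RR = RR := S.j_inj (by rw [j_act, e])
          cases v.a <;> cases v.c <;> cases v.d <;>
            simp only [cond_true, cond_false, S.act_one, hrfix k, S.act_z, hkR, mul_one, one_mul]
        let K : Subgroup G := Subgroup.closure
          (({(y : G), (k : G)} : Set G) ∪ S.j '' {v | S.act y v = v})
        have hKle : (centIn S.N (y : G) : Subgroup G) ≤ K := by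
          intro c hc
          have hcN := (mem_centIn.mp hc).1
          obtain ⟨hpc, -, -, -, -, -⟩ := act_params hp (⟨c, hcN⟩ : S.N)
          have hyK : (y : G) ∈ K := Subgroup.subset_closure (Or.inl (Or.inl rfl))
          have hkK : (k : G) ∈ K := Subgroup.subset_closure (Or.inl (Or.inr rfl))
          have hin : ∀ d : S.N, (d : G) ∈ K → (d : G) ∈ centIn S.N (y : G) →
              S.act (⟨c, hcN⟩ : S.N) TT.t = S.act d TT.t → c ∈ K := by
            intro d hdK hdC e
            obtain ⟨v, hv⟩ := mem_T_of_act_t_eq (⟨c, hcN⟩ : S.N) d e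
            have hv' : S.j v = c * (d : G)⁻¹ := hv
            have hvf : S.act y v = v := by
              apply S.j_inj
              rw [j_act, cj_eq_iff_commute, hv']
              exact (mem_centIn.mp (mul_mem hc (inv_mem hdC))).2.symm
            have : c = S.j v * (d : G) := by rw [hv']; group
            rw [this]
            exact mul_mem (Subgroup.subset_closure (Or.inr ⟨v, hvf, rfl⟩)) hdK
          have hyC : (y : G) ∈ centIn S.N (y : G) := mem_centIn.mpr ⟨y.2, rfl⟩
          have hkk : S.act (k * y) TT.t = S.act k TT.t * TT.z := by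
            rw [S.act_comp, hf, hpz]
            exact (by decide +kernel : ∀ p ∈ pList, ∀ x yy : TT,
              af (TT.t * TT.z) x yy TT.r p = p * TT.z) _ hpk _ _
          have hcases : S.act (⟨c, hcN⟩ : S.N) TT.t = S.act 1 TT.t ∨
              S.act (⟨c, hcN⟩ : S.N) TT.t = S.act y TT.t ∨
              S.act (⟨c, hcN⟩ : S.N) TT.t = S.act k TT.t ∨
              S.act (⟨c, hcN⟩ : S.N) TT.t = S.act (k * y) TT.t := by
            rw [hpz, hkk, show S.act (1 : S.N) TT.t = TT.t from S.j_inj (by simp [j_act])]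
            obtain ⟨hk1, hk2⟩ := hkpne
            exact (by decide +kernel : ∀ p ∈ pList, p ≠ TT.t → p ≠ TT.t * TT.z → ∀ c ∈ pList,
              c = TT.t ∨ c = TT.t * TT.z ∨ c = p ∨ c = p * TT.z) _ hpk hk1 hk2 _ hpc
          rcases hcases with e | e | e | e
          · exact hin 1 (by simp) (by simp) e
          · exact hin y hyK hyC e
          · exact hin k hkK hk e
          · exact hin (k * y) (mul_mem hkK hyK) (mul_mem hk hyC) e
        have hKc : ∀ a ∈ K, ∀ b ∈ K, a * b = b * a := by
          intro a ha b hb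
          refine Subgroup.closure_induction₂ (p := fun a b _ _ => a * b = b * a)
            ?_ ?_ ?_ ?_ ?_ ?_ ?_ ha hb
          · rintro c d (hc | hc) (hd | hd)
            · rcases hc with rfl | rfl <;> rcases hd with rfl | rfl
              · rfl
              · exact (mem_centIn.mp hk).2.symm
              · exact (mem_centIn.mp hk).2
              · rfl
            · obtain ⟨v, hv, rfl⟩ := hd
              rcases hc with rfl | rfl
              · exact (cj_eq_iff_commute _ _).mp (by rw [← j_act, hv])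
              · exact (cj_eq_iff_commute _ _).mp (by rw [← j_act, hfixk v hv])
            · obtain ⟨v, hv, rfl⟩ := hc
              rcases hd with rfl | rfl
              · exact ((cj_eq_iff_commute _ _).mp (by rw [← j_act, hv])).symm
              · exact ((cj_eq_iff_commute _ _).mp (by rw [← j_act, hfixk v hv])).symm
            · obtain ⟨v, hv, rfl⟩ := hc
              obtain ⟨w, hw, rfl⟩ := hd
              rw [← map_mul, ← map_mul]
              congr 1
              have hfl : ∀ x ∈ ncList, ∀ yy ∈ ncList, (x = TT.X * TT.r ∨ x = TT.X * TT.r * TT.z) →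
                  yy.b = true → af (TT.t * TT.z) x yy TT.r RR = RR →
                  nfix (af (TT.t * TT.z) x yy TT.r) = 8 →
                  ∀ v, af (TT.t * TT.z) x yy TT.r v = v →
                  ∀ w, af (TT.t * TT.z) x yy TT.r w = w → v * w = w * v := by decide +kernel
              have hv' : S.act y v = v := hv
              have hw' : S.act y w = w := hw
              rw [hf, hpz] at hv' hw'
              rw [hpz] at hR h8
              exact hfl _ hx _ hyv hxr hyY hR h8 v hv' w hw'
          · intro x _; group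
          · intro x _; group
          · intro a b c _ _ _ h1 h2; rw [mul_assoc, h2, ← mul_assoc, h1, mul_assoc]
          · intro a b c _ _ _ h1 h2; rw [← mul_assoc, h1, mul_assoc, h2, ← mul_assoc]
          · intro a b _ _ h; exact (Commute.inv_left h).eq
          · intro a b _ _ h; exact (Commute.inv_right h).eq
        exact hKc _ (hKle ha) _ (hKle hb'')
      · exact e
    have hRk' : S.act k RR = RR * TT.z := S.j_inj (by rw [j_act, hRk, map_mul, j_z])
    -- the same for `y'`
    have he' : y' = y * ⟨S.j u, S.T_le_N (S.j_mem u)⟩ := Subtype.ext hu'.symm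
    have hact' : ∀ v, S.act y' v = u⁻¹ * S.act y v * u := fun v => by
      rw [he', S.act_comp, S.act_of_mem_T]
    have h8'' : nfix (S.act y') = 8 := by
      have e : S.act y' = fun v => u⁻¹ * af (S.act y TT.t) (S.act y TT.X) (S.act y TT.Y) TT.r v * u :=
        funext fun v => by rw [hact', hf]
      rw [e, hpz]
      rw [hpz] at hR
      exact (by decide +kernel : ∀ x ∈ ncList, ∀ yy ∈ ncList,
        (x = TT.X * TT.r ∨ x = TT.X * TT.r * TT.z) → yy.b = true →
        af (TT.t * TT.z) x yy TT.r RR = RR → ∀ u : TT, u.a = true → u.b = true →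
        nfix (fun v => u⁻¹ * af (TT.t * TT.z) x yy TT.r v * u) = 8)
        _ hx _ hyv hxr hyY hR u hua hub
    obtain ⟨-, hfull'⟩ := cent_fix hp h32'
    obtain ⟨-, hcom', hnab', -⟩ := cent_facts hp hy' h32'
    have hRmem' : S.j RR ∈ centIn S.N (y' : G) := by
      refine mem_centIn.mpr ⟨S.T_le_N (S.j_mem _),
        ((cj_eq_iff_commute _ _).mp ?_).symm⟩
      rw [← j_act, hact', hf, hR]
      exact congrArg S.j ((by decide +kernel : ∀ u : TT, u.a = true → u.b = true →
        u⁻¹ * RR * u = RR) u hua hub)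
    obtain ⟨k', hk', hkk'⟩ := hfull' h8'' k
    obtain ⟨q, hq⟩ : ((k⁻¹ * k' : S.N) : G) ∈ S.T := by
      have := inv_mem hkk'
      rw [show k⁻¹ * k' = (k'⁻¹ * k)⁻¹ by group]
      exact this
    have hk'eq : k' = k * ⟨S.j q, S.T_le_N (S.j_mem q)⟩ :=
      Subtype.ext (by rw [Subgroup.coe_mul]; show (k' : G) = (k : G) * S.j q; rw [hq]; simp)
    have hactk' : ∀ v, S.act k' v = q⁻¹ * S.act k v * q := fun v => by
      rw [hk'eq, S.act_comp, S.act_of_mem_T]
    rw [hpz] at hR
    have hkpl : S.act k TT.t ∈ [TT.t * TT.r, TT.t * TT.r * TT.z] := by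
      obtain ⟨hk1, hk2⟩ := hkpne
      exact (by decide +kernel : ∀ p ∈ pList, p ≠ TT.t → p ≠ TT.t * TT.z →
        p ∈ [TT.t * TT.r, TT.t * TT.r * TT.z]) _ hpk hk1 hk2
    have hRk2 : S.act k' RR = RR * TT.z := by
      rcases hcom' _ hRmem' hR2 _ hRmem' _ hk' with e | e
      · -- the same argument: the commutator is forced by `k`
        exfalso
        obtain ⟨a, ha, b', hb'', hne'⟩ := hnab'
        refine hne' ?_
        let F : Set TT := {v | S.act y' v = v}
        have hFab : ∀ v ∈ F, v.e = false ∧ v.a = v.b := by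
          intro v hv
          have hv' : u⁻¹ * af (TT.t * TT.z) (S.act y TT.X) (S.act y TT.Y) TT.r v * u = v := by
            rw [← hpz, ← hf, ← hact']; exact hv
          exact (by decide +kernel : ∀ x ∈ ncList, ∀ yy ∈ ncList,
            (x = TT.X * TT.r ∨ x = TT.X * TT.r * TT.z) → yy.b = true →
            af (TT.t * TT.z) x yy TT.r RR = RR → ∀ u : TT, u.a = true → u.b = true →
            ∀ v : TT, u⁻¹ * af (TT.t * TT.z) x yy TT.r v * u = v → v.e = false ∧ v.a = v.b)
            _ hx _ hyv hxr hyY hR u hua hub v hv'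
        have hkfix : ∀ v ∈ F, S.act k' v = v := by
          intro v hv
          obtain ⟨hve, hvab⟩ := hFab v hv
          have hdec : ∀ v : TT, v.e = false → v.a = v.b →
              v = (bif v.a then RR else 1) * ((bif v.c then TT.r else 1) *
                (bif (v.d) then TT.z else 1)) := by decide +kernel
          rw [hdec v hve hvab, S.act_mul, S.act_mul]
          have hkR : S.act k' RR = RR := S.j_inj (by rw [j_act, e])
          cases v.a <;> cases v.c <;> cases v.d <;>
            simp only [cond_true, cond_false, S.act_one, hrfix k', S.act_z, hkR, mul_one, one_mul]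
        have hy'K : (y' : G) ∈ centIn S.N (y' : G) := mem_centIn.mpr ⟨y'.2, rfl⟩
        have hyt' : S.act y' TT.t = TT.t * TT.z := by
          rw [hact', hpz]
          exact (by decide : ∀ w : TT, w⁻¹ * (TT.t * TT.z) * w = TT.t * TT.z) u
        have hk't : S.act k' TT.t = S.act k TT.t := by
          rw [hactk', mul_assoc, (cen_iff _).mpr (S.cen_act k (by decide)), inv_mul_cancel_left]
        let K : Subgroup G := Subgroup.closure (({(y' : G), (k' : G)} : Set G) ∪ S.j '' F)
        have hKle : (centIn S.N (y' : G) : Subgroup G) ≤ K := by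
          intro c hc
          have hcN := (mem_centIn.mp hc).1
          obtain ⟨hpc, -, -, -, -, -⟩ := act_params hp (⟨c, hcN⟩ : S.N)
          have hyK : (y' : G) ∈ K := Subgroup.subset_closure (Or.inl (Or.inl rfl))
          have hkK : (k' : G) ∈ K := Subgroup.subset_closure (Or.inl (Or.inr rfl))
          have hin : ∀ d : S.N, (d : G) ∈ K → (d : G) ∈ centIn S.N (y' : G) →
              S.act (⟨c, hcN⟩ : S.N) TT.t = S.act d TT.t → c ∈ K := by
            intro d hdK hdC e
            obtain ⟨v, hv⟩ := mem_T_of_act_t_eq (⟨c, hcN⟩ : S.N) d e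
            have hv' : S.j v = c * (d : G)⁻¹ := hv
            have hvf : S.act y' v = v := by
              apply S.j_inj
              rw [j_act, cj_eq_iff_commute, hv']
              exact (mem_centIn.mp (mul_mem hc (inv_mem hdC))).2.symm
            have : c = S.j v * (d : G) := by rw [hv']; group
            rw [this]
            exact mul_mem (Subgroup.subset_closure (Or.inr ⟨v, hvf, rfl⟩)) hdK
          have hcases : S.act (⟨c, hcN⟩ : S.N) TT.t = S.act 1 TT.t ∨
              S.act (⟨c, hcN⟩ : S.N) TT.t = S.act y' TT.t ∨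
              S.act (⟨c, hcN⟩ : S.N) TT.t = S.act k' TT.t ∨
              S.act (⟨c, hcN⟩ : S.N) TT.t = S.act (k' * y') TT.t := by
            have hkk : S.act (k' * y') TT.t = S.act k TT.t * TT.z := by
              rw [S.act_comp, hk't, S.act_cen y' (S.cen_act k (by decide : cen TT.t = true)),
                hyt', hrfix y']
              exact (by decide +kernel : ∀ p ∈ pList,
                lin (TT.t * TT.z) TT.r p = p * TT.z) _ hpk
            rw [hyt', hkk, hk't, show S.act (1 : S.N) TT.t = TT.t from S.j_inj (by simp [j_act])]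
            obtain ⟨hk1, hk2⟩ := hkpne
            exact (by decide +kernel : ∀ p ∈ pList, p ≠ TT.t → p ≠ TT.t * TT.z → ∀ c ∈ pList,
              c = TT.t ∨ c = TT.t * TT.z ∨ c = p ∨ c = p * TT.z) _ hpk hk1 hk2 _ hpc
          rcases hcases with e | e | e | e
          · exact hin 1 (by simp) (by simp) e
          · exact hin y' hyK hy'K e
          · exact hin k' hkK hk' e
          · exact hin (k' * y') (mul_mem hkK hyK) (mul_mem hk' hy'K) e
        have hKc : ∀ a ∈ K, ∀ b ∈ K, a * b = b * a := by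
          intro a ha b hb
          refine Subgroup.closure_induction₂ (p := fun a b _ _ => a * b = b * a)
            ?_ ?_ ?_ ?_ ?_ ?_ ?_ ha hb
          · rintro c d (hc | hc) (hd | hd)
            · rcases hc with rfl | rfl <;> rcases hd with rfl | rfl
              · rfl
              · exact (mem_centIn.mp hk').2.symm
              · exact (mem_centIn.mp hk').2
              · rfl
            · obtain ⟨v, hv, rfl⟩ := hd
              rcases hc with rfl | rfl
              · exact (cj_eq_iff_commute _ _).mp (by rw [← j_act, hv])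
              · exact (cj_eq_iff_commute _ _).mp (by rw [← j_act, hkfix v hv])
            · obtain ⟨v, hv, rfl⟩ := hc
              rcases hd with rfl | rfl
              · exact ((cj_eq_iff_commute _ _).mp (by rw [← j_act, hv])).symm
              · exact ((cj_eq_iff_commute _ _).mp (by rw [← j_act, hkfix v hv])).symm
            · obtain ⟨v, hv, rfl⟩ := hc
              obtain ⟨w, hw, rfl⟩ := hd
              rw [← map_mul, ← map_mul]
              congr 1
              obtain ⟨h1, h2⟩ := hFab v hv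
              obtain ⟨h3, h4⟩ := hFab w hw
              exact (by decide +kernel : ∀ v w : TT, v.a = v.b → w.a = w.b → v * w = w * v)
                v w h2 h4
          · intro x _; group
          · intro x _; group
          · intro a b c _ _ _ h1 h2; rw [mul_assoc, h2, ← mul_assoc, h1, mul_assoc]
          · intro a b c _ _ _ h1 h2; rw [← mul_assoc, h1, mul_assoc, h2, ← mul_assoc]
          · intro a b _ _ h; exact (Commute.inv_left h).eq
          · intro a b _ _ h; exact (Commute.inv_right h).eq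
        exact hKc _ (hKle ha) _ (hKle hb'')
      · exact S.j_inj (by rw [j_act, e, map_mul, j_z])
    refine eight_false _ hx _ hyv hxr hyY hR u he hua hub _ hkpl _ hxk _ hyk hbk
      (by rw [← hfk]; exact hRk') q (by rw [← hfk, ← hactk']; exact hRk2) ?_
    rw [← hpz, ← hf, ← hfk]
    apply S.j_inj
    -- `k'` centralizes `y u`
    have h := fix_of_comm hk'
    rw [show (k' : G) = (k : G) * S.j q from by rw [hk'eq]; rfl, ← hu', ← cj_cj, cj_mul,
      fix_of_comm hk, ← j_act, cj_mul, S.cj_j] at h
    have hyq : cj (S.j q) (y : G) = y * S.j (S.act y q⁻¹ * q) := by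
      rw [map_mul, ← mul_assoc, ← hswap, map_inv]; rfl
    rw [hyq, mul_assoc, ← map_mul] at h
    rw [show S.act y q⁻¹ * S.act k u * q = S.act y q⁻¹ * q * (q⁻¹ * S.act k u * q) by group]
    exact mul_left_cancel h
  · -- the centralizer meets every coset and preserves the side of `w`
    obtain ⟨-, hfull⟩ := cent_fix hp h32
    obtain ⟨b, hb'⟩ := hbad
    obtain ⟨c, hc, hcb⟩ := hfull (by rw [hfe]; exact h8) b
    suffices hgc : Good c by
      refine hb' ?_
      have := good_mul hp hgc (good_of_mem_T hcb)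
      rwa [show c * (c⁻¹ * b) = b by group] at this
    have hcy : ∀ v, S.act y v = v → S.act y (S.act c v) = S.act c v := by
      intro v hv
      rw [← S.act_comp, show c * y = y * c from Subtype.ext (mem_centIn.mp hc).2,
        S.act_comp, hv]
    obtain ⟨hpc, hxc, hyc, hqc, hbc, hfc⟩ := act_params hp c
    obtain ⟨h1, h2⟩ := side_keep _ hpc _ hxc _ hyc _ hqc hbc w hwn
    rw [← hfc] at h1 h2
    have hxb : (S.act c TT.X).b = false :=
      h2 (hside _ (by rw [← hf]; exact hcy w (by rw [hf]; exact hw)) h1)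
    refine ⟨?_, hxb⟩
    simp only [qList, List.mem_cons, List.not_mem_nil, or_false] at hqc
    rcases hqc with e | e
    · exact e
    have hrmem : S.j TT.r ∈ centIn S.N (y : G) :=
      mem_centIn.mpr ⟨S.T_le_N (S.j_mem _),
        ((cj_eq_iff_commute _ _).mp (by rw [← j_act, hgood.1])).symm⟩
    have hcc : ((c * c : S.N) : G) ∈ S.T := by
      rcases cent_comm_z hp hy h32 hrmem hc (by rw [← j_act, e, map_mul, j_z]) hc with h | h
      · rw [Subgroup.coe_mul, h]; exact one_mem _
      · rw [Subgroup.coe_mul, h, ← j_z]; exact S.j_mem _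
    have h1 := S.act_T_cen hcc (u := TT.t) (by decide)
    rw [S.act_comp, S.act_cen c (S.cen_act c (by decide : cen TT.t = true)), e] at h1
    have hlin : ∀ p ∈ pList, lin p (TT.r * TT.z) p = TT.t → p = TT.t ∨ p = TT.t * TT.z := by
      decide +kernel
    rcases hlin _ hpc h1 with h | h
    · exact (good_of_mem_T ((S.mem_T_iff_act_t c).mpr h)).1
    · exact r_of_tz hp c h

end Setup

end CfsgLib.Z2S6
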