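import Cfsg.Agent.Z2S6.Fusion
import Mathlib.GroupTheory.SpecificGroups.Cyclic
import Mathlib.GroupTheory.PGroup

/-!
# The fusion pattern with two conjugates of `t` in the center of `T`
-/

set_option autoImplicit false
set_option linter.unusedSectionVars false
set_option linter.style.haveILetI false

open Subgroup

namespace CfsgLib.Z2S6

namespace Setup

variable {G : Type*} [Group G] (S : Setup G)

/-- The conjugates of `t` in `T` in this pattern. -/
def six (u : TT) : Bool := pat false false false false true false u

/-- The action of an involution outside `T` whose commutators with `T` lie in `⟨z⟩`. -/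
def zAct (fx fy fr : Bool) (u : TT) : TT :=
  bif xor (xor u.e (u.a && fx)) (xor (u.b && fy) (u.c && fr)) then u * TT.z else u

/-- Coordinates modulo `z`. -/
def dropD (u : TT) : TT := ⟨u.e, u.a, u.b, u.c, false⟩

/-- Candidates modulo `z` for the outer conjugates. -/
def candOne (fx fy fr : Bool) : List TT :=
  ([false, true].flatMap fun e => [false, true].flatMap fun a => [false, true].flatMap fun b =>
    [false, true].map fun c => (⟨e, a, b, c, false⟩ : TT)).filter
      fun u => u != 1 && decide (zAct fx fy fr u * u = 1)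

/-- The degree condition at the outer elements. -/
def outerDeg (fx fy fr : Bool) (s : TT → Bool) (all : List TT) : Bool :=
  all.all fun u => !s u ||
    (all.countP (fun v => six v && decide (u⁻¹ * zAct fx fy fr v * u = v)) +
      all.countP (fun v => s v && decide (zAct fx fy fr u * v = zAct fx fy fr v * u)) == 6)

/-- The degree condition at the inner elements. -/
def innerDeg (fx fy fr : Bool) (s : TT → Bool) (all : List TT) : Bool :=
  all.all fun w => !six w ||
    (all.countP (fun v => six v && decide (v * w = w * v)) +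
      all.countP (fun v => s v && decide (v⁻¹ * zAct fx fy fr w * v = w)) == 6)

/-- All coordinates. -/
def allTT : List TT :=
  [false, true].flatMap fun e => [false, true].flatMap fun a => [false, true].flatMap fun b =>
    [false, true].flatMap fun c => [false, true].map fun d => (⟨e, a, b, c, d⟩ : TT)

theorem mem_allTT : ∀ u, u ∈ allTT := by decide +kernel

theorem nodup_allTT : allTT.Nodup := by decide +kernel

theorem one_model : ∀ fx fy fr : Bool, ∀ l ∈ (candOne fx fy fr).sublists,
    outerDeg fx fy fr (fun u => decide (dropD u ∈ 1 :: l)) allTT = true →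
    innerDeg fx fy fr (fun u => decide (dropD u ∈ 1 :: l)) allTT = true →
    (allTT.countP fun u => decide (dropD u ∈ 1 :: l)) % 4 ≠ 0 := by
  decide +kernel

theorem countP_eq_ncard (p : TT → Bool) : allTT.countP p = {u | p u = true}.ncard := by
  rw [List.countP_eq_length_filter, ← List.toFinset_card_of_nodup (nodup_allTT.filter _),
    ← Set.ncard_coe_finset]
  congr 1
  ext u
  simp [mem_allTT u]

variable [Finite G]

/-- The conjugates of `t` in `N` outside `T`. -/
def outer : Set G := {y | IsConj S.t y ∧ y ∈ S.N ∧ y ∉ S.T}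

theorem outer_invariant {h : G} (hh : h ∈ S.N) {y : G} (hy : y ∈ S.outer) : cj h y ∈ S.outer := by
  refine ⟨(isConj_cj_iff h y).mpr hy.1, mul_mem (mul_mem (inv_mem hh) hy.2.1) hh, fun hT => hy.2.2 ?_⟩
  obtain ⟨u, hu⟩ := hT
  have := S.mem_N.mp (inv_mem hh) u
  rwa [hu, cj_inv_cancel] at this

variable {S}

theorem orbit_one (hp : S.IsPatOne) : S.orbit.ncard = 2 := by
  rw [S.ncard_orbit _ hp]; decide +kernel

theorem card_N_one (hp : S.IsPatOne) : Nat.card S.N = 64 := by
  rw [S.card_N, orbit_one hp]

theorem isPGroup_N_one (hp : S.IsPatOne) : IsPGroup 2 S.N :=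
  IsPGroup.of_card (n := 6) (by rw [card_N_one hp]; rfl)

theorem act_t_one (hp : S.IsPatOne) (g : S.N) (hg : (g : G) ∉ S.T) :
    S.act g TT.t = TT.t * TT.z := by
  have h1 : six (S.act g TT.t) = true := (hp _).mp ((S.E_act g _).mpr S.E_t)
  have h2 : cen (S.act g TT.t) = true := S.cen_act g (by decide)
  have : ∀ u : TT, cen u = true → six u = true → u = TT.t ∨ u = TT.t * TT.z := by decide +kernel
  exact (this _ h2 h1).resolve_left fun e => hg ((S.mem_T_iff_act_t g).mpr e)

theorem mul_mem_T_one (hp : S.IsPatOne) {g h : G} (hg : g ∈ S.N) (hh : h ∈ S.N) (hgT : g ∉ S.T)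
    (hhT : h ∉ S.T) : g * h ∈ S.T := by
  have e : S.act (⟨g, hg⟩ * ⟨h, hh⟩) TT.t = TT.t := by
    rw [S.act_comp, act_t_one hp ⟨g, hg⟩ hgT, S.act_mul, act_t_one hp ⟨h, hh⟩ hhT, S.act_z]
    decide
  exact (S.mem_T_iff_act_t _).mpr e

theorem six_count (hp : S.IsPatOne) {x : G} (hx : IsConj S.t x)
    (h32 : Nat.card (centIn S.N x) = 32) :
    {y | IsConj S.t y ∧ y ∈ centIn S.N x}.ncard = 6 := by
  classical
  obtain ⟨g, -, hg⟩ := (S.centIn_bound (isPGroup_N_one hp) hx).2 h32
  have e : {y | IsConj S.t y ∧ y ∈ centIn S.N x} =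
      cj g⁻¹ '' (S.j '' {u | six u = true}) := by
    ext y
    simp only [Set.mem_ofPred_eq, Set.mem_image, exists_exists_and_eq_and]
    constructor
    · rintro ⟨hy, hc⟩
      obtain ⟨u, hu⟩ := (hg y).mp hc
      refine ⟨u, (hp u).mp ?_, by rw [hu, cj_inv_cancel]⟩
      show IsConj S.t (S.j u)
      rw [hu, isConj_cj_iff]; exact hy
    · rintro ⟨u, hu, rfl⟩
      exact ⟨(isConj_cj_iff _ _).mpr ((hp u).mpr hu),
        (hg _).mpr (by rw [cj_cancel_inv]; exact S.j_mem u)⟩
  rw [e, Set.ncard_image_of_injective _ (cj_injective _),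
    Set.ncard_image_of_injective _ S.j_inj, ← countP_eq_ncard]
  decide +kernel

/-- The subgroup `P` of `T`. -/
def PT : Subgroup TT where
  carrier := {u | u.e = false}
  one_mem' := rfl
  mul_mem' {a b} ha hb := by
    simp only [Set.mem_ofPred_eq, TT.mul_def] at ha hb ⊢; simp [ha, hb]
  inv_mem' {a} ha := ha

theorem act_e (hp : S.IsPatOne) (g : S.N) {u : TT} (hu : u.e = false) : (S.act g u).e = false := by
  by_cases hgT : (g : G) ∈ S.T
  · obtain ⟨v, hv⟩ := hgT
    rw [show g = ⟨S.j v, S.T_le_N (S.j_mem v)⟩ from Subtype.ext hv.symm, S.act_of_mem_T]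
    simp only [TT.mul_def]
    show xor (xor v.e u.e) v.e = false
    rw [hu]; cases v.e <;> rfl
  have ht := act_t_one hp g hgT
  have hr : (S.act g TT.r).e = false := by
    have hgg : ((g * g : S.N) : G) ∈ S.T := mul_mem_T_one hp g.2 g.2 hgT hgT
    have h1 := S.act_T_cen hgg (u := TT.r) (by decide)
    rw [S.act_comp, S.act_cen g (S.cen_act g (by decide : cen TT.r = true)), ht] at h1
    have : ∀ q : TT, cen q = true → lin (TT.t * TT.z) q q = TT.r → q.e = false := by decide +kernel
    exact this _ (S.cen_act g (by decide)) h1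
  have h6 : ∀ w, six w = true → six (S.act g w) = true :=
    fun w hw => (hp _).mp ((S.E_act g w).mpr ((hp w).mpr hw))
  have he : ∀ w, six w = true → w.e = true := by decide +kernel
  have hX : (S.act g (TT.t * TT.X * TT.r)).e = true := he _ (h6 _ (by decide))
  have hY : (S.act g (TT.t * TT.Y)).e = true := he _ (h6 _ (by decide))
  have htt : (S.act g TT.t).e = true := by rw [ht]; rfl
  have hz : (S.act g TT.z).e = false := by rw [S.act_z]; rfl
  have mule : ∀ v w, (v * w : TT).e = xor v.e w.e := fun _ _ => rfl
  rw [S.act_mul, S.act_mul, mule, mule, htt, hr] at hX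
  rw [S.act_mul, mule, htt] at hY
  have hX' : (S.act g TT.X).e = false := by simpa using hX
  have hY' : (S.act g TT.Y).e = false := by simpa using hY
  have dec : ∀ w : TT, w.e = false → w = (bif w.a then TT.X else 1) *
      ((bif w.b then TT.Y else 1) * ((bif w.c then TT.r else 1) * (bif w.d then TT.z else 1))) := by
    decide +kernel
  rw [dec u hu, S.act_mul, S.act_mul, S.act_mul, mule, mule, mule]
  have h1 : (S.act g 1).e = false := by rw [S.act_one]; rfl
  cases u.a <;> cases u.b <;> cases u.c <;> cases u.d <;> simp [hr, hX', hY', hz, h1]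

theorem patOne_false (hno : ∀ K : Subgroup G, K.index ≠ 2) (hp : S.IsPatOne) : False := by
  classical
  haveI : Fact (Nat.Prime 2) := ⟨Nat.prime_two⟩
  obtain ⟨m, hm, hC⟩ := S.card_C
  obtain ⟨k, rfl⟩ := hm
  have hN := card_N_one hp
  have h4 : 4 ∣ S.outer.ncard := by
    have hrel : S.T.relIndex S.N = 2 := by
      have := (S.T.subgroupOf S.N).index_mul_card
      rw [Nat.card_congr (Subgroup.subgroupOfEquivOfLe S.T_le_N).toEquiv, S.card_T, hN] at this
      show (S.T.subgroupOf S.N).index = 2
      omega
    have h : 2 * Nat.card S.N ∣ _ * S.outer.ncard := dvd_of_index_two hno S.t_sq S.T_le_N hrel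
    rw [hN, hC] at h
    obtain ⟨c, hc⟩ := h
    have : (2 * k + 1) * S.outer.ncard = 4 * c := by linarith
    exact (Nat.Coprime.dvd_mul_left (Nat.Coprime.pow_left 2
      (Nat.coprime_two_left.mpr ⟨k, rfl⟩ : Nat.Coprime 2 (2 * k + 1)))).mp ⟨c, this⟩
  by_cases hext : ∃ y ∈ S.outer, Nat.card (centIn S.N y) = 32
  · obtain ⟨y, ⟨hy, hyN, hyT⟩, h32⟩ := hext
    set g : S.N := ⟨y, hyN⟩ with hgdef
    have hy2 : y * y = 1 := by
      obtain ⟨c, hc⟩ := exists_cj_of_isConj hy
      rw [← hc, ← cj_mul, S.t_sq, cj_one_right]
    have hyinv : y⁻¹ = y := inv_eq_of_mul_eq_one_right hy2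
    have ht : S.act g TT.t = TT.t * TT.z := act_t_one hp g hyT
    -- the fixed points of `y` in `T`
    set F : Set TT := {u | S.act g u = u} with hFdef
    have hF : 16 ≤ F.ncard := by
      let φ : centIn S.N y → Bool × F := fun x =>
        if hx : (x : G) ∈ S.T then (false, ⟨hx.choose, by
          apply S.j_inj
          rw [j_act, hx.choose_spec, cj_eq_iff_commute]
          exact (mem_centIn.mp x.2).2.symm⟩)
        else
          have hxy : y * (x : G) ∈ S.T := mul_mem_T_one hp hyN (mem_centIn.mp x.2).1 hyT hx
          (true, ⟨hxy.choose, by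
            apply S.j_inj
            rw [j_act, hxy.choose_spec, cj_eq_iff_commute, ← mul_assoc, hy2, one_mul]
            show (x : G) = y * x * y
            rw [mul_assoc, (mem_centIn.mp x.2).2, ← mul_assoc, hy2, one_mul]⟩)
      have hφ : Function.Injective φ := by
        intro a b hab
        apply Subtype.ext
        by_cases ha : (a : G) ∈ S.T <;> by_cases hb : (b : G) ∈ S.T <;>
          simp only [φ, dif_pos, dif_neg, ha, hb, not_false_iff, Prod.mk.injEq,
            Bool.false_eq_true, Bool.true_eq_false, false_and, Subtype.mk.injEq, true_and] at hab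
        · rw [← ha.choose_spec, hab, hb.choose_spec]
        · have e1 := mul_mem_T_one hp hyN (mem_centIn.mp a.2).1 hyT ha
          have e2 := mul_mem_T_one hp hyN (mem_centIn.mp b.2).1 hyT hb
          exact mul_left_cancel (a := y) (by rw [← e1.choose_spec, hab, e2.choose_spec])
      have := Nat.card_le_card_of_injective φ hφ
      rw [h32, Nat.card_prod, Nat.card_eq_fintype_card, Fintype.card_bool,
        Nat.card_coe_set_eq] at this
      omega
    have hactsq : ∀ u, S.act g (S.act g u) = u := by
      intro u
      rw [← S.act_comp, show g * g = 1 from Subtype.ext hy2]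
      apply S.j_inj; simp [j_act]
    have hall : ∀ u, S.act g u = u ∨ S.act g u = u * TT.z := by
      intro u
      by_contra hcon
      push Not at hcon
      let u' : TT := u * TT.t
      have hu' : S.act g u' ≠ u' := by
        intro h
        apply hcon.2
        simp only [u'] at h
        rw [S.act_mul, ht] at h
        have := congrArg (· * (TT.t * TT.z)) h
        simpa [mul_assoc, (by decide : TT.t * (TT.z * (TT.t * TT.z)) = 1),
          (by decide : TT.t * (TT.t * TT.z) = TT.z)] using this
      -- three disjoint translates of the fixed points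
      have hmulF : ∀ {v w : TT}, v ∈ F → w ∈ F → v * w ∈ F := fun {v w} hv hw => by
        show S.act g _ = _; rw [S.act_mul, hv, hw]
      have hinvF : ∀ {v : TT}, v ∈ F → v⁻¹ ∈ F := fun {v} hv => by
        have h := S.act_one g
        rw [← mul_inv_cancel v, S.act_mul, show S.act g v = v from hv, mul_inv_cancel] at h
        exact eq_inv_of_mul_eq_one_right h
      have hdis : ∀ c, S.act g c ≠ c → ∀ x ∈ F, ∀ y ∈ F, x ≠ c * y := by
        intro c hc x hx y hy e
        apply hc
        have : c = x * y⁻¹ := by rw [e, mul_inv_cancel_right]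
        rw [this]; exact hmulF hx (hinvF hy)
      let ψ : Fin 3 × F → TT := fun q => ![1, TT.t, u] q.1 * q.2
      have hψ : Function.Injective ψ := by
        have htne : S.act g TT.t ≠ TT.t := by rw [ht]; decide
        rintro ⟨i, x⟩ ⟨i', x'⟩ e
        simp only [ψ] at e
        fin_cases i <;> fin_cases i' <;>
          simp only [Fin.reduceFinMk, Matrix.cons_val_zero, Matrix.cons_val_one, Matrix.cons_val,
            Fin.isValue, Fin.zero_eta, Fin.mk_one, one_mul] at e
        all_goals first
          | (rw [show x = x' from Subtype.ext (mul_left_cancel e)])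
          | (rw [show x = x' from Subtype.ext e])
          | skip
        · exact absurd e (hdis _ htne _ x.2 _ x'.2)
        · exact absurd e (hdis _ hcon.1 _ x.2 _ x'.2)
        · exact absurd e.symm (hdis _ htne _ x'.2 _ x.2)
        · refine absurd ?_ hu'
          show S.act g (u * TT.t) = u * TT.t
          have e2 : u * TT.t = (x : TT) * (x' : TT)⁻¹ := by
            calc u * TT.t = TT.t * (u * (x' : TT)) * (x' : TT)⁻¹ := by
                  rw [mul_assoc, mul_assoc, mul_inv_cancel, mul_one]
                  exact ((by decide : ∀ w : TT, TT.t * w = w * TT.t) u).symm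
              _ = TT.t * (TT.t * (x : TT)) * (x' : TT)⁻¹ := by rw [e]
              _ = (x : TT) * (x' : TT)⁻¹ := by
                  rw [← mul_assoc TT.t, (by decide : TT.t * TT.t = 1), one_mul]
          rw [e2]; exact hmulF x.2 (hinvF x'.2)
        · exact absurd e.symm (hdis _ hcon.1 _ x'.2 _ x.2)
        · refine absurd ?_ hu'
          show S.act g (u * TT.t) = u * TT.t
          have e2 : u * TT.t = (x' : TT) * (x : TT)⁻¹ := by
            calc u * TT.t = TT.t * (u * (x : TT)) * (x : TT)⁻¹ := by
                  rw [mul_assoc, mul_assoc, mul_inv_cancel, mul_one]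
                  exact ((by decide : ∀ w : TT, TT.t * w = w * TT.t) u).symm
              _ = TT.t * (TT.t * (x' : TT)) * (x : TT)⁻¹ := by rw [← e]
              _ = (x' : TT) * (x : TT)⁻¹ := by
                  rw [← mul_assoc TT.t, (by decide : TT.t * TT.t = 1), one_mul]
          rw [e2]; exact hmulF x'.2 (hinvF x.2)
      have := Nat.card_le_card_of_injective ψ hψ
      rw [Nat.card_prod, Nat.card_fin, Nat.card_coe_set_eq, card_TT] at this
      omega
    -- the commutators are given by three bits
    let bit : TT → Bool := fun u => decide (S.act g u ≠ u)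
    have hbit : ∀ u, S.act g u = bif bit u then u * TT.z else u := by
      intro u
      rcases hall u with h | h
      · simp [bit, h]
      · have : u * TT.z ≠ u := (by decide : ∀ w : TT, w * TT.z ≠ w) u
        simp [bit, h, this]
    have hbm : ∀ u v, bit (u * v) = xor (bit u) (bit v) := by
      intro u v
      have h := S.act_mul g u v
      rw [hbit, hbit u, hbit v] at h
      revert h
      generalize bit (u * v) = a; generalize bit u = b; generalize bit v = c
      intro h
      have : ∀ (u v : TT) (a b c : Bool), (bif a then u * v * TT.z else u * v) =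
          (bif b then u * TT.z else u) * (bif c then v * TT.z else v) → a = xor b c := by
        decide +kernel
      exact this u v a b c h
    set fx := bit TT.X with hfx
    set fy := bit TT.Y with hfy
    set fr := bit TT.r with hfr
    have hbt : bit TT.t = true := by simp [bit, ht]; decide
    have hbz : bit TT.z = false := by simp [bit, S.act_z]
    have hb1 : bit 1 = false := by simp [bit, S.act_one]
    have hform : ∀ u, S.act g u = zAct fx fy fr u := by
      intro u
      have dec : ∀ w : TT, w = (bif w.e then TT.t else 1) * ((bif w.a then TT.X else 1) *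
          ((bif w.b then TT.Y else 1) * ((bif w.c then TT.r else 1) *
            (bif w.d then TT.z else 1)))) := by decide +kernel
      have hu : bit u = xor (xor u.e (u.a && fx)) (xor (u.b && fy) (u.c && fr)) := by
        conv_lhs => rw [dec u]
        rw [hbm, hbm, hbm, hbm]
        cases u.e <;> cases u.a <;> cases u.b <;> cases u.c <;> cases u.d <;>
          simp [hbt, hbz, hb1, ← hfx, ← hfy, ← hfr]
      rw [hbit, hu, zAct]
    -- the outer conjugates in coordinates
    let s : TT → Bool := fun u => decide (IsConj S.t (y * S.j u))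
    have hs : ∀ u, s u = true ↔ IsConj S.t (y * S.j u) := fun u => decide_eq_true_iff
    have hswap : ∀ u, S.j u * y = y * S.j (S.act g u) := by
      intro u
      rw [j_act]
      show S.j u * y = y * (y⁻¹ * S.j u * y)
      group
    have hsq : ∀ u, (y * S.j u) * (y * S.j u) = S.j (S.act g u * u) := by
      intro u
      rw [mul_assoc, ← mul_assoc (S.j u), hswap, ← mul_assoc, ← mul_assoc, hy2, one_mul, map_mul]
    have hcomm : ∀ u v, ((y * S.j u) * (y * S.j v) = (y * S.j v) * (y * S.j u) ↔
        zAct fx fy fr u * v = zAct fx fy fr v * u) := by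
      intro u v
      have e : ∀ u v, (y * S.j u) * (y * S.j v) = S.j (S.act g u * v) := fun u v => by
        rw [mul_assoc, ← mul_assoc (S.j u), hswap, ← mul_assoc, ← mul_assoc, hy2, one_mul, map_mul]
      rw [e, e, hform, hform]
      exact ⟨fun h => S.j_inj h, congrArg S.j⟩
    have hcommT : ∀ u v, (S.j v * (y * S.j u) = (y * S.j u) * S.j v ↔
        u⁻¹ * zAct fx fy fr v * u = v) := by
      intro u v
      have e : S.j v * (y * S.j u) = y * S.j (zAct fx fy fr v * u) := by
        rw [← mul_assoc, hswap, hform, map_mul, mul_assoc]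
      rw [e, mul_assoc y, ← map_mul]
      constructor
      · intro h
        rw [mul_assoc, S.j_inj (mul_left_cancel h), inv_mul_cancel_left]
      · intro h
        congr 2
        conv_rhs => rw [← h]
        group
    have houtT : ∀ u, y * S.j u ∉ S.T := fun u hu =>
      hyT ((mul_mem_cancel_right (S.j_mem u)).mp hu)
    have hdecomp : ∀ x ∈ S.N, x ∉ S.T → ∃ u, x = y * S.j u := by
      intro x hx hxT
      obtain ⟨u, hu⟩ := mul_mem_T_one hp hyN hx hyT hxT
      exact ⟨u, by rw [hu, ← mul_assoc, hy2, one_mul]⟩
    have hout : S.outer = (fun u => y * S.j u) '' {u | s u = true} := by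
      ext x
      constructor
      · rintro ⟨hx, hxN, hxT⟩
        obtain ⟨u, rfl⟩ := hdecomp x hxN hxT
        exact ⟨u, (hs u).mpr hx, rfl⟩
      · rintro ⟨u, hu, rfl⟩
        exact ⟨(hs u).mp hu, mul_mem hyN (S.T_le_N (S.j_mem u)), houtT u⟩
    -- all of them have centralizers of order 32
    have hsdec : ∀ u, s u = true → zAct fx fy fr u * u = 1 := by
      intro u hu
      obtain ⟨c, hc⟩ := exists_cj_of_isConj ((hs u).mp hu)
      apply S.j_inj
      rw [← hform, ← hsq, ← hc, ← cj_mul, S.t_sq, cj_one_right, map_one]
    have hcount : ∀ (x : G), IsConj S.t x → x ∈ S.N →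
        ∀ (c : TT → Bool) (d : TT → Bool),
        (∀ v, S.j v * x = x * S.j v ↔ c v = true) →
        (∀ v, (y * S.j v) * x = x * (y * S.j v) ↔ d v = true) →
        32 ≤ allTT.countP c + allTT.countP d →
        allTT.countP (fun v => six v && c v) + allTT.countP (fun v => s v && d v) = 6 := by
      intro x hx hxN c d hc hd h16
      have hinj1 : Function.Injective (S.j : TT → G) := S.j_inj
      have hinj2 : Function.Injective (fun v => y * S.j v) :=
        fun a b h => S.j_inj (mul_left_cancel h)
      have h32x : Nat.card (centIn S.N x) = 32 := by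
        refine le_antisymm (S.centIn_bound (isPGroup_N_one hp) hx).1 ?_
        rw [countP_eq_ncard, countP_eq_ncard] at h16
        have hsub : S.j '' {v | c v = true} ∪ (fun v => y * S.j v) '' {v | d v = true} ⊆
            (centIn S.N x : Set G) := by
          rintro _ (⟨v, hv, rfl⟩ | ⟨v, hv, rfl⟩)
          · exact mem_centIn.mpr ⟨S.T_le_N (S.j_mem v), (hc v).mpr hv⟩
          · exact mem_centIn.mpr ⟨mul_mem hyN (S.T_le_N (S.j_mem v)), (hd v).mpr hv⟩
        have hdj : Disjoint (S.j '' {v | c v = true}) ((fun v => y * S.j v) '' {v | d v = true}) := by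
          rw [Set.disjoint_left]
          rintro _ ⟨v, -, rfl⟩ ⟨w, -, hw⟩
          exact houtT w ((show y * S.j w = S.j v from hw) ▸ S.j_mem v)
        have := Set.ncard_le_ncard hsub (Set.toFinite _)
        rw [Set.ncard_union_eq hdj (Set.toFinite _) (Set.toFinite _),
          Set.ncard_image_of_injective _ hinj1, Set.ncard_image_of_injective _ hinj2,
          ← Nat.card_coe_set_eq, ← Nat.card_coe_set_eq] at this
        simp only [Nat.card_coe_set_eq, SetLike.coe_sort_coe] at this
        rw [← SetLike.coe_sort_coe, Nat.card_coe_set_eq]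
        omega
      have h6 := six_count hp hx h32x
      rw [countP_eq_ncard, countP_eq_ncard]
      have e : {w | IsConj S.t w ∧ w ∈ centIn S.N x} =
          S.j '' {v | (six v && c v) = true} ∪ (fun v => y * S.j v) '' {v | (s v && d v) = true} := by
        ext w
        simp only [Set.mem_ofPred_eq, Bool.and_eq_true, Set.mem_union, Set.mem_image]
        constructor
        · rintro ⟨hw, hwc⟩
          obtain ⟨hwN, hwx⟩ := mem_centIn.mp hwc
          by_cases hwT : w ∈ S.T
          · obtain ⟨v, rfl⟩ := hwT
            exact Or.inl ⟨v, ⟨(hp v).mp hw, (hc v).mp hwx⟩, rfl⟩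
          · obtain ⟨v, rfl⟩ := hdecomp w hwN hwT
            exact Or.inr ⟨v, ⟨(hs v).mpr hw, (hd v).mp hwx⟩, rfl⟩
        · rintro (⟨v, ⟨hv, hcv⟩, rfl⟩ | ⟨v, ⟨hv, hdv⟩, rfl⟩)
          · exact ⟨(hp v).mpr hv, mem_centIn.mpr ⟨S.T_le_N (S.j_mem v), (hc v).mpr hcv⟩⟩
          · exact ⟨(hs v).mp hv,
              mem_centIn.mpr ⟨mul_mem hyN (S.T_le_N (S.j_mem v)), (hd v).mpr hdv⟩⟩
      have hdj : Disjoint (S.j '' {v | (six v && c v) = true})
          ((fun v => y * S.j v) '' {v | (s v && d v) = true}) := by
        rw [Set.disjoint_left]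
        rintro _ ⟨v, -, rfl⟩ ⟨w, -, hw⟩
        exact houtT w ((show y * S.j w = S.j v from hw) ▸ S.j_mem v)
      rw [e, Set.ncard_union_eq hdj (Set.toFinite _) (Set.toFinite _),
        Set.ncard_image_of_injective _ hinj1, Set.ncard_image_of_injective _ hinj2] at h6
      exact h6
    -- the symmetric shape of `s`
    have hs1 : s 1 = true := (hs 1).mpr (by rw [map_one, mul_one]; exact hy)
    have hsz : ∀ u, s u = s (u * TT.z) := by
      intro u
      rw [Bool.eq_iff_iff, hs, hs]
      have e : cj S.t (y * S.j u) = y * S.j (u * TT.z) := by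
        have h1 : cj S.t y = y * S.z := by
          have h := hswap TT.t
          rw [j_t, ht, map_mul, j_t, j_z] at h
          unfold cj
          rw [inv_eq_of_mul_eq_one_right S.t_sq, h, mul_assoc, mul_assoc S.t, ← j_z, S.t_comm,
            ← mul_assoc S.t, S.t_sq, one_mul]
        rw [cj_mul, h1, ← j_z, ← j_t, S.cj_j, mul_assoc, ← map_mul]
        congr 2
        exact (by decide : ∀ w : TT, TT.z * (TT.t⁻¹ * w * TT.t) = w * TT.z) u
      rw [← e, isConj_cj_iff]
    let l := (candOne fx fy fr).filter s
    have hsl : s = fun u => decide (dropD u ∈ 1 :: l) := by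
      funext u
      have hd : dropD u = u ∨ dropD u = u * TT.z :=
        (by decide : ∀ w : TT, dropD w = w ∨ dropD w = w * TT.z) u
      have hsd : s (dropD u) = s u := by
        rcases hd with e | e <;> rw [e]
        exact (hsz u).symm
      rw [← hsd, Bool.eq_iff_iff]
      simp only [decide_eq_true_eq, List.mem_cons]
      constructor
      · intro h
        by_cases h1 : dropD u = 1
        · exact Or.inl h1
        · refine Or.inr (List.mem_filter.mpr ⟨?_, h⟩)
          have : ∀ (a b c : Bool) (w : TT), dropD w ≠ 1 →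
              zAct a b c (dropD w) * dropD w = 1 → dropD w ∈ candOne a b c := by decide +kernel
          exact this fx fy fr u h1 (hsdec _ h)
      · rintro (h | h)
        · rw [h]; exact hs1
        · exact (List.mem_filter.mp h).2
    have h16a : ∀ (a b c : Bool) (u : TT), zAct a b c u * u = 1 →
        32 ≤ allTT.countP (fun v => decide (u⁻¹ * zAct a b c v * u = v)) +
          allTT.countP (fun v => decide (zAct a b c u * v = zAct a b c v * u)) := by
      decide +kernel
    have h16b : ∀ (a b c : Bool) (w : TT), six w = true →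
        32 ≤ allTT.countP (fun v => decide (v * w = w * v)) +
          allTT.countP (fun v => decide (v⁻¹ * zAct a b c w * v = w)) := by
      decide +kernel
    have hod : outerDeg fx fy fr s allTT = true := by
      rw [outerDeg, List.all_eq_true]
      intro u _
      cases hu : s u
      · rfl
      · simp only [Bool.not_true, Bool.false_or, beq_iff_eq]
        have q1 := h16a fx fy fr u (hsdec u hu)
        exact hcount _ ((hs u).mp hu) (mul_mem hyN (S.T_le_N (S.j_mem u)))
          (fun v => decide (u⁻¹ * zAct fx fy fr v * u = v))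
          (fun v => decide (zAct fx fy fr u * v = zAct fx fy fr v * u))
          (fun v => by rw [decide_eq_true_iff]; exact hcommT u v)
          (fun v => by rw [decide_eq_true_iff]; exact (hcomm v u).trans eq_comm) q1
    have hid : innerDeg fx fy fr s allTT = true := by
      rw [innerDeg, List.all_eq_true]
      intro w _
      cases hw : six w
      · rfl
      · simp only [Bool.not_true, Bool.false_or, beq_iff_eq]
        have q1 := h16b fx fy fr w hw
        exact hcount _ ((hp w).mpr hw) (S.T_le_N (S.j_mem w))
          (fun v => decide (v * w = w * v))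
          (fun v => decide (v⁻¹ * zAct fx fy fr w * v = w))
          (fun v => by
            rw [decide_eq_true_iff, ← map_mul, ← map_mul]
            exact ⟨fun h => S.j_inj h, congrArg S.j⟩)
          (fun v => by
            rw [decide_eq_true_iff]
            exact eq_comm.trans (hcommT v w)) q1
    rw [hsl] at hod hid
    refine one_model fx fy fr l (List.mem_sublists.mpr List.filter_sublist) hod hid ?_
    rw [countP_eq_ncard]
    have : S.outer.ncard = {u | decide (dropD u ∈ 1 :: l) = true}.ncard := by
      rw [hout, Set.ncard_image_of_injective _ (fun a b h => S.j_inj (mul_left_cancel h)), hsl]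
    omega
  · push Not at hext
    -- every outer conjugate has a small centralizer
    let P : Subgroup S.N := (PT.map S.j).subgroupOf S.N
    haveI : P.Normal := by
      constructor
      intro x hx g
      rw [mem_subgroupOf] at hx ⊢
      obtain ⟨u, hu, hux⟩ := hx
      refine ⟨S.act g⁻¹ u, act_e hp _ hu, ?_⟩
      rw [j_act, hux]
      simp [cj]
    have hP : Nat.card P = 16 := by
      rw [Nat.card_congr (Subgroup.subgroupOfEquivOfLe
        (fun x ⟨u, _, hu⟩ => hu ▸ S.T_le_N (S.j_mem u) : PT.map S.j ≤ S.N)).toEquiv,
        Subgroup.card_map_of_injective S.j_inj, ← SetLike.coe_sort_coe, Nat.card_coe_set_eq,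
        show (PT : Set TT) = {u | (!u.e) = true} from Set.ext fun u => by simp [PT],
        ← countP_eq_ncard]
      decide +kernel
    have hQ : Nat.card (S.N ⧸ P) = 4 := by
      have := P.index_mul_card
      rw [hP, hN, index_eq_card] at this
      omega
    letI : CommGroup (S.N ⧸ P) :=
      IsPGroup.commGroupOfCardEqPrimeSq (p := 2) (by rw [hQ]; rfl)
    have hA : IsPGroup 2 (S.N ⧸ P) := IsPGroup.of_card (n := 2) (by rw [hQ]; rfl)
    haveI := Fintype.ofFinite (S.N ⧸ P)
    let χ : S.N →* S.N ⧸ P := QuotientGroup.mk' P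
    obtain ⟨F, hF, hprod⟩ := exists_exponents hno hA S.t_sq S.N χ
    let tN : S.N := ⟨S.t, S.T_le_N (S.j_t ▸ S.j_mem TT.t)⟩
    set a : S.N ⧸ P := χ tN with ha
    have hT_val : ∀ u (h : S.j u ∈ S.N), u.e = true → χ ⟨S.j u, h⟩ = a := by
      intro u h he
      refine QuotientGroup.eq.mpr (mem_subgroupOf.mpr ⟨u⁻¹ * TT.t, ?_, ?_⟩)
      · show (xor u.e true) = false; rw [he]; rfl
      · rw [map_mul, map_inv, j_t]; rfl
    have hsix_e : ∀ u, six u = true → u.e = true := by decide +kernel
    have hout_val : ∀ x (h : x ∈ S.N), x ∉ S.T → χ ⟨x, h⟩ ≠ a := by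
      intro x h hx he
      obtain ⟨u, -, hu⟩ := mem_subgroupOf.mp (QuotientGroup.eq.mp he)
      refine hx ?_
      have hu' : S.j u = x⁻¹ * S.t := hu
      have : x = S.t * (S.j u)⁻¹ := by rw [hu']; group
      rw [this, ← j_t]
      exact mul_mem (S.j_mem _) (inv_mem (S.j_mem _))
    have hFa : Odd (F a) := by
      have e : valueSet S.t S.N χ a = S.j '' {u | six u = true} := by
        ext x
        constructor
        · rintro ⟨hx, h, hv⟩
          by_cases hxT : x ∈ S.T
          · obtain ⟨u, rfl⟩ := hxT
            exact ⟨u, (hp u).mp hx, rfl⟩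
          · exact absurd hv (hout_val x h hxT)
        · rintro ⟨u, hu, rfl⟩
          exact ⟨(hp u).mpr hu, S.T_le_N (S.j_mem u), hT_val u _ (hsix_e u hu)⟩
      have h := hF a
      rw [e, Set.ncard_image_of_injective _ S.j_inj, ← countP_eq_ncard, hN, hC] at h
      have h6 : allTT.countP (fun u => six u) = 6 := by decide +kernel
      rw [h6] at h
      exact ⟨3 * k + 1, by omega⟩
    have hFb : ∀ b, b ≠ a → Even (F b) := by
      intro b hb
      have hsub : valueSet S.t S.N χ b ⊆ S.outer := by
        rintro x ⟨hx, h, hv⟩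
        refine ⟨hx, h, fun hxT => ?_⟩
        obtain ⟨u, rfl⟩ := hxT
        exact hb (hv.symm.trans (hT_val u _ (hsix_e u ((hp u).mp hx))))
      have hdvd : 4 ∣ (valueSet S.t S.N χ b).ncard := by
        refine dvd_ncard_of_small (e := 4) (isPGroup_N_one hp) (by rw [hN]; rfl) _ ?_ ?_
        · rintro h hh x ⟨hx, hxN, hv⟩
          refine ⟨(isConj_cj_iff h x).mpr hx, mul_mem (mul_mem (inv_mem hh) hxN) hh, ?_⟩
          rw [show (⟨cj h x, _⟩ : S.N) = ⟨h, hh⟩⁻¹ * ⟨x, hxN⟩ * ⟨h, hh⟩ from rfl, map_mul, map_mul,
            map_inv, hv, mul_comm (χ ⟨h, hh⟩)⁻¹ b, inv_mul_cancel_right]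
        · intro x hx
          have h1 := (S.centIn_bound (isPGroup_N_one hp) (hsub hx).1).1
          have h2 := hext x (hsub hx)
          obtain ⟨i, hi⟩ := IsPGroup.iff_card.mp
            ((isPGroup_N_one hp).to_le (inf_le_left : centIn S.N x ≤ S.N))
          change Nat.card (centIn S.N x) = 2 ^ i at hi
          rw [hi] at h1 h2 ⊢
          have : i ≠ 5 := fun e => h2 (by rw [e]; rfl)
          have h5 : i ≤ 5 := (Nat.pow_le_pow_iff_right (le_refl 2)).mp h1
          exact Nat.pow_le_pow_right (by norm_num) (by omega : i ≤ 4)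
      obtain ⟨c, hc⟩ := hdvd
      have h := hF b
      rw [hc, hN, hC] at h
      exact ⟨(2 * k + 1) * c, by linarith⟩
    have ha2 : a * a = 1 := by
      rw [ha, ← map_mul, show tN * tN = 1 from Subtype.ext S.t_sq, map_one]
    have hane : a ≠ 1 := by
      intro h
      obtain ⟨u, hu, hu'⟩ := mem_subgroupOf.mp ((QuotientGroup.eq_one_iff tN).mp h)
      have : u = TT.t := S.j_inj (hu'.trans S.j_t.symm)
      subst this
      cases hu
    have hb1 : ∀ b, b ≠ a → b ^ F b = 1 := by
      intro b hb
      by_cases h0 : F b = 0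
      · rw [h0, pow_zero]
      · obtain ⟨c, hc⟩ := hFb b hb
        have hne : (valueSet S.t S.N χ b).Nonempty := by
          rw [Set.nonempty_iff_ne_empty]
          intro e
          have h := hF b
          rw [e, Set.ncard_empty, mul_zero, hN] at h
          omega
        obtain ⟨x, hx, h, hv⟩ := hne
        have hb2 : b * b = 1 := by
          obtain ⟨q, hq⟩ := exists_cj_of_isConj hx
          rw [← hv, ← map_mul, show (⟨x, h⟩ : S.N) * ⟨x, h⟩ = 1 from
            Subtype.ext (by show x * x = 1; rw [← hq, ← cj_mul, S.t_sq, cj_one_right]), map_one]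
        rw [hc, ← two_mul, pow_mul, pow_two, hb2, one_pow]
    have h := hprod
    rw [Fintype.prod_eq_single a hb1] at h
    obtain ⟨c, hc⟩ := hFa
    rw [hc, pow_succ, pow_mul, pow_two, ha2, one_pow, one_mul] at h
    exact hane h

end Setup

end CfsgLib.Z2S6
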