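import Mathlib.GroupTheory.Transfer
import Mathlib.GroupTheory.Sylow
import Mathlib.Tactic

/-!
# The transfer of an involution as a count of its conjugates

If `G` has no subgroup of index two, `χ : H →* A` goes to an abelian `2`-group and `t` is an
involution, then `∏ a, a ^ (|C(t)| · #{y ∈ t^G ∩ H | χ y = a} / |H|) = 1`.
-/

set_option autoImplicit false
set_option linter.unusedSectionVars false
set_option linter.style.haveILetI false

open MulAction Subgroup

namespace CfsgLib.Z2S6

variable {G : Type*} [Group G] [Finite G]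

/-- The conjugates of `t` lying in `H`. -/
def conjIn (t : G) (H : Subgroup G) : Set G := {y | IsConj t y ∧ y ∈ H}

theorem card_conjugators {t y : G} (hy : IsConj t y) :
    Nat.card {g : G // g⁻¹ * t * g = y} = Nat.card (centralizer ({t} : Set G)) := by
  obtain ⟨c, hc⟩ := isConj_iff.mp hy
  subst hc
  refine Nat.card_congr
    { toFun := fun g => ⟨g.1 * c, ?_⟩
      invFun := fun u => ⟨u.1 * c⁻¹, ?_⟩
      left_inv := fun g => Subtype.ext (by simp)
      right_inv := fun u => Subtype.ext (by simp) }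
  · rw [mem_centralizer_singleton_iff]
    have h := g.2
    calc g.1 * c * t = g.1 * (c * t * c⁻¹) * c := by group
      _ = g.1 * (g.1⁻¹ * t * g.1) * c := by rw [h]
      _ = t * (g.1 * c) := by group
  · have hu : u.1 * t = t * u.1 := mem_centralizer_singleton_iff.mp u.2
    calc (u.1 * c⁻¹)⁻¹ * t * (u.1 * c⁻¹) = c * (u.1⁻¹ * (t * u.1)) * c⁻¹ := by group
      _ = c * t * c⁻¹ := by rw [← hu]; group

theorem card_fiber_mul {t : G} (s : Set G) (hs : ∀ y ∈ s, IsConj t y) :
    Nat.card {g : G // g⁻¹ * t * g ∈ s} = Nat.card (centralizer ({t} : Set G)) * s.ncard := by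
  classical
  haveI := Fintype.ofFinite G
  let e : {g : G // g⁻¹ * t * g ∈ s} ≃ Σ y : s, {g : G // g⁻¹ * t * g = (y : G)} :=
    { toFun := fun g => ⟨⟨_, g.2⟩, g.1, rfl⟩
      invFun := fun q => ⟨q.2.1, by rw [q.2.2]; exact q.1.2⟩
      left_inv := fun _ => rfl
      right_inv := fun q => by
        obtain ⟨⟨y, hy⟩, g, hg⟩ := q
        dsimp only at hg
        subst hg
        rfl }
  rw [Nat.card_congr e, Nat.card_sigma, Finset.sum_congr rfl fun y _ => card_conjugators (hs _ y.2),
    Finset.sum_const, Finset.card_univ, ← Nat.card_eq_fintype_card, Nat.card_coe_set_eq,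
    smul_eq_mul, mul_comm]

variable {A : Type*} [CommGroup A] [Finite A]

/-- The conjugates of `t` in `H` with `χ`-value `a`. -/
def valueSet (t : G) (H : Subgroup G) (χ : H →* A) (a : A) : Set G :=
  {y | IsConj t y ∧ ∃ h : y ∈ H, χ ⟨y, h⟩ = a}

/-- A group without subgroups of index two has trivial transfer into an abelian 2-group. -/
theorem hom_eq_one (hno : ∀ K : Subgroup G, K.index ≠ 2) (hA : IsPGroup 2 A) (V : G →* A) (g : G) :
    V g = 1 := by
  by_contra hg
  haveI : Fact (Nat.Prime 2) := ⟨Nat.prime_two⟩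
  have hne : V.range ≠ ⊥ := fun h => hg (mem_bot.mp (h ▸ (⟨g, rfl⟩ : V g ∈ V.range)))
  haveI : Nontrivial V.range := (nontrivial_iff_ne_bot _).mpr hne
  obtain ⟨k, hk0, hk⟩ := (hA.to_subgroup V.range).nontrivial_iff_card.mp inferInstance
  obtain ⟨K, hK⟩ := Sylow.exists_subgroup_card_pow_prime 2 (n := k - 1) (G := V.range)
    (by rw [hk]; exact pow_dvd_pow 2 (Nat.sub_le k 1))
  refine hno (K.comap V.rangeRestrict) ?_
  rw [index_comap_of_surjective _ V.rangeRestrict_surjective]
  have h := card_mul_index K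
  rw [hK, hk, show 2 ^ k = 2 ^ (k - 1) * 2 by rw [← pow_succ, Nat.sub_add_cancel hk0]] at h
  exact mul_left_cancel₀ (pow_ne_zero _ two_ne_zero) h

/-- The transfer formula. -/
theorem exists_exponents (hno : ∀ K : Subgroup G, K.index ≠ 2) (hA : IsPGroup 2 A) {t : G}
    (ht : t * t = 1) (H : Subgroup G) (χ : H →* A) :
    ∃ F : A → ℕ, (∀ a, F a * Nat.card H =
        Nat.card (centralizer ({t} : Set G)) * (valueSet t H χ a).ncard) ∧
      (∀ [Fintype A], ∏ a : A, a ^ F a = 1) := by
  classical
  haveI := Fintype.ofFinite G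
  letI := H.fintypeQuotientOfFiniteIndex
  -- the fixed cosets with value `a`
  let Φ : A → Set (G ⧸ H) := fun a =>
    {c | ∃ h : c.out⁻¹ * t * c.out ∈ H, χ ⟨_, h⟩ = a}
  have hmove : ∀ (g g' : G) (a : A), (g : G ⧸ H) = (g' : G ⧸ H) →
      (∃ h : g⁻¹ * t * g ∈ H, χ ⟨_, h⟩ = a) → ∃ h : g'⁻¹ * t * g' ∈ H, χ ⟨_, h⟩ = a := by
    intro g g' a hgg ⟨h, he⟩
    rw [QuotientGroup.eq] at hgg
    obtain ⟨s, hs, rfl⟩ : ∃ s ∈ H, g' = g * s := ⟨g⁻¹ * g', hgg, by group⟩
    have e : (g * s)⁻¹ * t * (g * s) = s⁻¹ * (g⁻¹ * t * g) * s := by group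
    have hm : (g * s)⁻¹ * t * (g * s) ∈ H := by
      rw [e]; exact mul_mem (mul_mem (inv_mem hs) h) hs
    refine ⟨hm, ?_⟩
    rw [show (⟨_, hm⟩ : H) = ⟨s, hs⟩⁻¹ * ⟨g⁻¹ * t * g, h⟩ * ⟨s, hs⟩ from
      Subtype.ext e, map_mul, map_mul, map_inv, he, mul_comm (χ ⟨s, hs⟩)⁻¹ a, inv_mul_cancel_right]
  have hcount : ∀ a, (Φ a).ncard * Nat.card H =
      Nat.card (centralizer ({t} : Set G)) * (valueSet t H χ a).ncard := by
    intro a
    rw [← card_fiber_mul (valueSet t H χ a) (fun y hy => hy.1), mul_comm]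
    have e : {g : G // g⁻¹ * t * g ∈ valueSet t H χ a} = ↥((QuotientGroup.mk : G → G ⧸ H) ⁻¹' Φ a) := by
      refine congrArg Subtype (funext fun g => propext ?_)
      constructor
      · rintro ⟨-, h⟩
        exact hmove g _ a (QuotientGroup.out_eq' _).symm h
      · intro h
        exact ⟨isConj_iff.mpr ⟨g⁻¹, by group⟩, hmove _ g a (QuotientGroup.out_eq' _) h⟩
    rw [e, Nat.card_congr (QuotientGroup.preimageMkEquivSubgroupProdSet H (Φ a)), Nat.card_prod,
      Nat.card_coe_set_eq]
  refine ⟨fun a => (Φ a).ncard, hcount, ?_⟩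
  intro _
  -- evaluate the transfer at `t`
  have hV : MonoidHom.transfer χ t = 1 := hom_eq_one hno hA _ t
  rw [MonoidHom.transfer_eq_prod_quotient_orbitRel_zpowers_quot] at hV
  rw [← hV]
  have hfix : ∀ c : G ⧸ H, c.out⁻¹ * t * c.out ∈ H ↔ t • c = c := by
    intro c
    conv_rhs => rw [← QuotientGroup.out_eq' c]
    show _ ↔ ((t * c.out : G) : G ⧸ H) = (c.out : G ⧸ H)
    rw [QuotientGroup.eq]
    conv_rhs => rw [← inv_mem_iff]
    simp [mul_assoc]
  let val : Quotient (orbitRel (zpowers t) (G ⧸ H)) → A := fun q =>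
    if h : q.out.out⁻¹ * t * q.out.out ∈ H then χ ⟨_, h⟩ else 1
  have key : ∀ q : Quotient (orbitRel (zpowers t) (G ⧸ H)),
      χ ⟨q.out.out⁻¹ * t ^ Function.minimalPeriod (t • ·) q.out * q.out.out,
        QuotientGroup.out_conj_pow_minimalPeriod_mem H t q.out⟩ = val q := by
    intro q
    have hper : Function.IsPeriodicPt (t • ·) 2 q.out := by
      show (fun y => t • y)^[2] q.out = q.out
      rw [smul_iterate, pow_two, ht]; exact one_smul G q.out
    suffices h : ∀ r : ℕ, Function.minimalPeriod (t • ·) q.out = r →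
        ∀ hmem : q.out.out⁻¹ * t ^ r * q.out.out ∈ H, χ ⟨_, hmem⟩ = val q from h _ rfl _
    intro r hr hmem
    rcases (Nat.dvd_prime Nat.prime_two).mp (hr ▸ hper.minimalPeriod_dvd) with rfl | rfl
    · have hm : q.out.out⁻¹ * t * q.out.out ∈ H := by simpa using hmem
      rw [show val q = χ ⟨_, hm⟩ from dif_pos hm]
      exact congrArg χ (Subtype.ext (by simp))
    · have hnm : q.out.out⁻¹ * t * q.out.out ∉ H := by
        intro hm
        have h1 : Function.IsPeriodicPt (t • ·) 1 q.out := (hfix _).mp hm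
        have := h1.minimalPeriod_dvd
        rw [hr] at this
        norm_num at this
      rw [show val q = 1 from dif_neg hnm, show (⟨_, hmem⟩ : H) = 1 from
        Subtype.ext (by simp [pow_two, ht]), map_one]
  rw [Fintype.prod_congr _ _ key]
  -- group the orbits by their value
  have hout : ∀ c : G ⧸ H, t • c = c →
      (Quotient.mk (orbitRel (zpowers t) (G ⧸ H)) c).out = c := by
    intro c hc
    obtain ⟨⟨w, hw⟩, hwc⟩ := Quotient.mk_out (s := orbitRel (zpowers t) (G ⧸ H)) c
    rw [← hwc]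
    exact (zpowers_le.mpr (show t ∈ stabilizer G c from hc)) hw
  let valc : G ⧸ H → A := fun c =>
    if h : c.out⁻¹ * t * c.out ∈ H then χ ⟨_, h⟩ else 1
  symm
  calc ∏ q, val q = ∏ c ∈ Finset.univ.filter (fun c : G ⧸ H => t • c = c), valc c := by
        refine (Finset.prod_bij_ne_one (fun c _ _ => Quotient.mk _ c) ?_ ?_ ?_ ?_).symm
        · intros; exact Finset.mem_univ _
        · intro a ha _ b hb _ hab
          rw [← hout a (Finset.mem_filter.mp ha).2, ← hout b (Finset.mem_filter.mp hb).2, hab]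
        · intro q _ hq
          have hm : q.out.out⁻¹ * t * q.out.out ∈ H := by
            by_contra hm; exact hq (dif_neg hm)
          refine ⟨q.out, Finset.mem_filter.mpr ⟨Finset.mem_univ _, (hfix _).mp hm⟩, ?_, q.out_eq⟩
          exact hq
        · intro a ha _
          show valc a = valc (Quotient.mk (orbitRel (zpowers t) (G ⧸ H)) a).out
          rw [hout a (Finset.mem_filter.mp ha).2]
    _ = ∏ a : A, ∏ c ∈ (Finset.univ.filter (fun c : G ⧸ H => t • c = c)).filter
          (fun c => valc c = a), valc c := (Finset.prod_fiberwise _ _ _).symm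
    _ = ∏ a : A, a ^ (Φ a).ncard := by
        refine Fintype.prod_congr _ _ fun a => ?_
        rw [Finset.prod_eq_pow_card (fun c hc => (Finset.mem_filter.mp hc).2)]
        congr 1
        rw [Set.ncard_eq_toFinset_card']
        congr 1
        ext c
        simp only [Finset.mem_filter, Finset.mem_univ, true_and, Set.mem_toFinset, Φ,
          Set.mem_ofPred_eq]
        constructor
        · rintro ⟨hc, hv⟩
          have hm := (hfix c).mpr hc
          exact ⟨hm, (dif_pos hm).symm.trans hv⟩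
        · rintro ⟨hm, hv⟩
          exact ⟨(hfix c).mp hm, (dif_pos hm).trans hv⟩

/-- Two values: the conjugates with the nontrivial value occur an even (weighted) number of
times. -/
theorem dvd_of_two_values (hno : ∀ K : Subgroup G, K.index ≠ 2) (hA : IsPGroup 2 A) {t : G}
    (ht : t * t = 1) (H : Subgroup G) (χ : H →* A) {ε : A} (hε : ε ≠ 1) (hε2 : ε * ε = 1)
    (hval : ∀ y, IsConj t y → ∀ h : y ∈ H, χ ⟨y, h⟩ = 1 ∨ χ ⟨y, h⟩ = ε) :
    2 * Nat.card H ∣ Nat.card (centralizer ({t} : Set G)) * (valueSet t H χ ε).ncard := by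
  classical
  haveI := Fintype.ofFinite A
  obtain ⟨F, hF, hprod⟩ := exists_exponents hno hA ht H χ
  have hzero : ∀ a, a ≠ 1 → a ≠ ε → F a = 0 := by
    intro a h1 h2
    have he : valueSet t H χ a = ∅ := by
      ext y
      simp only [valueSet, Set.mem_ofPred_eq, Set.mem_empty_iff_false, iff_false]
      rintro ⟨hy, h, rfl⟩
      rcases hval y hy h with e | e
      · exact h1 e
      · exact h2 e
    have := hF a
    rw [he, Set.ncard_empty, mul_zero] at this
    exact (mul_eq_zero.mp this).resolve_right Nat.card_pos.ne'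
  have h := hprod
  rw [Fintype.prod_eq_single ε (fun a ha => by
    rcases eq_or_ne a 1 with rfl | h1
    · exact one_pow _
    · rw [hzero a h1 ha, pow_zero])] at h
  have : Even (F ε) := by
    rcases Nat.even_or_odd (F ε) with he | ⟨k, hk⟩
    · exact he
    · rw [hk, pow_succ, pow_mul, pow_two, hε2, one_pow, one_mul] at h
      exact absurd h hε
  obtain ⟨k, hk⟩ := this
  exact ⟨k, by rw [← hF ε, hk]; ring⟩

/-- An index two subgroup: the conjugates of `t` outside it occur an even number of times. -/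
theorem dvd_of_index_two (hno : ∀ K : Subgroup G, K.index ≠ 2) {t : G} (ht : t * t = 1)
    {K H : Subgroup G} (hKH : K ≤ H) (h2 : K.relIndex H = 2) :
    2 * Nat.card H ∣ Nat.card (centralizer ({t} : Set G)) *
      {y : G | IsConj t y ∧ y ∈ H ∧ y ∉ K}.ncard := by
  classical
  have hidx : (K.subgroupOf H).index = 2 := h2
  have hmul := fun a b => mul_mem_iff_of_index_two (H := K.subgroupOf H) (a := a) (b := b) hidx
  let χ : H →* Multiplicative (ZMod 2) :=
    { toFun := fun h => Multiplicative.ofAdd (if (h : G) ∈ K then 0 else 1)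
      map_one' := by simp
      map_mul' := fun a b => by
        have h := hmul a b
        simp only [mem_subgroupOf] at h
        rw [← ofAdd_add]
        congr 1
        by_cases ha : (a : G) ∈ K <;> by_cases hb : (b : G) ∈ K <;>
          simp only [ha, hb, Subgroup.coe_mul] at h ⊢ <;> simp [h] <;> rfl }
  have hA : IsPGroup 2 (Multiplicative (ZMod 2)) :=
    IsPGroup.of_card (n := 1) (by simp)
  have h := dvd_of_two_values hno hA ht H χ (ε := Multiplicative.ofAdd 1) (by decide) (by decide)
    (fun y _ hy => by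
      show Multiplicative.ofAdd _ = _ ∨ Multiplicative.ofAdd _ = _
      by_cases hk : y ∈ K <;> simp [hk])
  convert h using 3
  ext y
  simp only [valueSet, Set.mem_ofPred_eq]
  constructor
  · rintro ⟨hy, hH, hK⟩
    exact ⟨hy, hH, by simp [χ, hK]⟩
  · rintro ⟨hy, hH, he⟩
    refine ⟨hy, hH, fun hK => ?_⟩
    simp [χ, hK] at he
    exact absurd he (by decide)

end CfsgLib.Z2S6
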