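import Cfsg.Agent.Z2S6.Model
import Cfsg.Agent.Z2S6.Transfer

/-!
# An involution whose centralizer looks like `ℤ/2 × S₆` or `ℤ/2 × S₇` two-locally
-/

set_option autoImplicit false
set_option linter.unusedSectionVars false
set_option linter.style.haveILetI false

open Subgroup

namespace CfsgLib.Z2S6

variable {G : Type*} [Group G]

/-- Conjugation `g⁻¹ x g`. -/
def cj (g x : G) : G := g⁻¹ * x * g

theorem cj_mul (g x y : G) : cj g (x * y) = cj g x * cj g y := by unfold cj; group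
theorem cj_cj (g h x : G) : cj h (cj g x) = cj (g * h) x := by unfold cj; group
@[simp] theorem cj_one_left (x : G) : cj (1 : G) x = x := by unfold cj; group
@[simp] theorem cj_one_right (g : G) : cj g (1 : G) = 1 := by unfold cj; group
theorem cj_inv_cancel (g x : G) : cj g⁻¹ (cj g x) = x := by unfold cj; group
theorem cj_cancel_inv (g x : G) : cj g (cj g⁻¹ x) = x := by unfold cj; group
theorem cj_eq_iff_commute (g x : G) : cj g x = x ↔ g * x = x * g := by
  unfold cj
  constructor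
  · intro h; nth_rewrite 1 [← h]; group
  · intro h; rw [mul_assoc, ← h]; group
theorem cj_injective (g : G) : Function.Injective (cj g) :=
  fun x y h => by rw [← cj_inv_cancel g x, h, cj_inv_cancel]
theorem isConj_cj (g x : G) : IsConj x (cj g x) := isConj_iff.mpr ⟨g⁻¹, by unfold cj; group⟩
theorem isConj_cj_iff {t : G} (g x : G) : IsConj t (cj g x) ↔ IsConj t x :=
  ⟨fun h => h.trans (isConj_cj g x).symm, fun h => h.trans (isConj_cj g x)⟩
theorem exists_cj_of_isConj {x y : G} (h : IsConj x y) : ∃ g, cj g x = y := by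
  obtain ⟨c, hc⟩ := isConj_iff.mp h
  exact ⟨c⁻¹, by rw [← hc]; unfold cj; group⟩

theorem map_word {H : Type*} [Group H] (f : G →* H) (t X Y r : G) (u : TT) :
    f (word t X Y r u) = word (f t) (f X) (f Y) (f r) u := by
  obtain ⟨e, a, b, c, d⟩ := u
  cases e <;> cases a <;> cases b <;> cases c <;> cases d <;> simp [word]

/-- The data. -/
structure Setup (G : Type*) [Group G] where
  /-- the involution -/
  t : G
  /-- `X` -/
  X : G
  /-- `Y` -/
  Y : G
  /-- `r` -/
  r : G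
  rel : TRel t X Y r
  inj : Function.Injective rel.hom
  /-- permutes `X, Xz, r` -/
  ρ : G
  /-- permutes `Yr, Yrz, rz` -/
  ρ' : G
  ρ_t : cj ρ t = t
  ρ_X : cj ρ X = X * ((X * Y) * (X * Y))
  ρ_Xz : cj ρ (X * ((X * Y) * (X * Y))) = r
  ρ_r : cj ρ r = X
  ρ'_t : cj ρ' t = t
  ρ'_X : cj ρ' (Y * r) = Y * r * ((X * Y) * (X * Y))
  ρ'_Xz : cj ρ' (Y * r * ((X * Y) * (X * Y))) = r * ((X * Y) * (X * Y))
  ρ'_r : cj ρ' (r * ((X * Y) * (X * Y))) = Y * r
  card_C : ∃ m, Odd m ∧ Nat.card (centralizer ({t} : Set G)) = 32 * m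
  normT : ∀ g, g * t = t * g → (∀ u : TT, cj g (rel.hom u) ∈ rel.hom.range) → g ∈ rel.hom.range
  normA : ∀ g, g * t = t * g → (∀ u : TT, u.b = false → ∃ v : TT, v.b = false ∧
    cj g (rel.hom u) = rel.hom v) → ∃ u : TT, ∃ k < 3, g = rel.hom u * ρ ^ k
  normA' : ∀ g, g * t = t * g → (∀ u : TT, u.a = false → ∃ v : TT, v.a = false ∧
    cj g (rel.hom u) = rel.hom v) → ∃ u : TT, ∃ k < 3, g = rel.hom u * ρ' ^ k

namespace Setup

variable (S : Setup G)

/-- The coordinates of `T`. -/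
def j : TT →* G := S.rel.hom

/-- The Sylow `2`-subgroup of the centralizer. -/
def T : Subgroup G := S.j.range

/-- `z = (XY)²`. -/
def z : G := (S.X * S.Y) * (S.X * S.Y)

theorem j_t : S.j TT.t = S.t := S.rel.hom_gens.1
theorem j_X : S.j TT.X = S.X := S.rel.hom_gens.2.1
theorem j_Y : S.j TT.Y = S.Y := S.rel.hom_gens.2.2.1
theorem j_r : S.j TT.r = S.r := S.rel.hom_gens.2.2.2.1
theorem j_z : S.j TT.z = S.z := S.rel.hom_gens.2.2.2.2
theorem j_inj : Function.Injective S.j := S.inj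

theorem j_mem (u : TT) : S.j u ∈ S.T := ⟨u, rfl⟩

theorem t_sq : S.t * S.t = 1 := S.rel.ht

theorem card_TT : Nat.card TT = 32 := by
  rw [Nat.card_eq_fintype_card]; decide +kernel

theorem card_T : Nat.card S.T = 32 := by
  rw [show Nat.card S.T = Nat.card TT from
    Nat.card_congr (MonoidHom.ofInjective S.j_inj).symm.toEquiv, card_TT]

theorem t_comm (u : TT) : S.j u * S.t = S.t * S.j u := by
  rw [← S.j_t, ← map_mul, ← map_mul]
  exact congrArg S.j ((by decide : ∀ u : TT, u * TT.t = TT.t * u) u)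

theorem T_le : S.T ≤ centralizer ({S.t} : Set G) := by
  rintro _ ⟨u, rfl⟩
  rw [mem_centralizer_singleton_iff]
  exact S.t_comm u

/-- Conjugation of coordinates. -/
theorem cj_j (u v : TT) : cj (S.j v) (S.j u) = S.j (v⁻¹ * u * v) := by
  simp [cj]

/-- `u` is conjugate to `t`. -/
def E (u : TT) : Prop := IsConj S.t (S.j u)

theorem E_t : S.E TT.t := by rw [E, j_t]

theorem not_E_of_sq {u : TT} (h : u * u ≠ 1) : ¬ S.E u := by
  intro hu
  obtain ⟨g, hg⟩ := exists_cj_of_isConj hu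
  refine h (S.j_inj ?_)
  rw [map_mul, ← hg, map_one, ← cj_mul, S.t_sq, cj_one_right]

theorem not_E_one : ¬ S.E 1 := by
  intro hu
  obtain ⟨g, hg⟩ := exists_cj_of_isConj hu
  rw [map_one] at hg
  have h1 : S.t = 1 := cj_injective g (hg.trans (cj_one_right g).symm)
  exact absurd (S.j_inj ((S.j_t.trans h1).trans (map_one S.j).symm)) (by decide)

theorem E_cj {u v : TT} {g : G} (h : cj g (S.j u) = S.j v) : S.E u ↔ S.E v := by
  rw [E, E, ← h, isConj_cj_iff]

/-- A representative in `⟨t, r, z⟩` of the `C(t)`-class of an involution of `T`. -/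
def rep (u : TT) : TT :=
  if u.a ∧ ¬ u.b then ⟨u.e, false, false, !u.c, u.c⟩
  else if u.b ∧ ¬ u.a then ⟨u.e, false, false, u.c, true⟩
  else u

theorem cj_rho (u : TT) :
    cj S.ρ (S.j ⟨u.e, u.a, false, u.c, u.d⟩) =
      bpow S.t u.e * (bpow (S.X * S.z) u.a * (bpow S.X u.c * bpow (S.X * S.z * S.r) u.d)) := by
  have hz : cj S.ρ S.z = S.X * S.z * S.r := by
    have hXX : S.z = S.X * (S.X * S.z) := by rw [← mul_assoc, S.rel.hX, one_mul]
    nth_rewrite 1 [hXX]
    rw [cj_mul]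
    exact (congrArg₂ (· * ·) S.ρ_X S.ρ_Xz)
  obtain ⟨e, a, b, c, d⟩ := u
  show cj S.ρ (word S.t S.X S.Y S.r _) = _
  simp only [word, bpow_false, one_mul, cj_mul]
  have e1 : ∀ (x : G) (i : Bool), cj S.ρ (bpow x i) = bpow (cj S.ρ x) i := by
    intro x i; cases i <;> simp
  rw [e1, e1, e1, e1, S.ρ_t, S.ρ_X, S.ρ_r, show (S.X * S.Y) * (S.X * S.Y) = S.z from rfl, hz]

/-- The action of `ρ` in coordinates. -/
def rhoT (u : TT) : TT :=
  (bif u.e then TT.t else 1) * ((bif u.a then TT.X * TT.z else 1) *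
    ((bif u.c then TT.X else 1) * (bif u.d then TT.X * TT.z * TT.r else 1)))

theorem cj_rho_eq {u : TT} (hu : u.b = false) : cj S.ρ (S.j u) = S.j (rhoT u) := by
  obtain ⟨e, a, b, c, d⟩ := u
  simp only at hu
  subst hu
  rw [S.cj_rho ⟨e, a, false, c, d⟩]
  cases e <;> cases a <;> cases c <;> cases d <;>
    simp [rhoT, j_t, j_X, j_r, j_z, bpow]

theorem TRel_swap : TRel TT.t (TT.Y * TT.r) (TT.X * TT.r * TT.z) (TT.r * TT.z) := by
  constructor <;> decide

theorem TRel_twist : TRel TT.t (TT.t * TT.X) TT.Y (TT.t * TT.r) := by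
  constructor <;> decide

/-- The coordinate change of `swap`. -/
def swapT : TT →* TT := TRel_swap.hom

/-- The coordinate change of `twist`. -/
def twistT : TT →* TT := TRel_twist.hom

theorem swapT_swapT : ∀ u, swapT (swapT u) = u := by decide +kernel

theorem twistT_twistT : ∀ u, twistT (twistT u) = u := by decide +kernel

theorem rel_map {t' X' Y' r' : TT} (h : TRel t' X' Y' r') :
    TRel (S.j t') (S.j X') (S.j Y') (S.j r') := by
  obtain ⟨h1, h2, h3, h4, h5, h6, h7, h8, h9, h10⟩ := h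
  constructor <;> simp only [← map_mul, h1, h2, h3, h4, h5, h6, h7, h8, h9, h10, map_one]

theorem hom_map {t' X' Y' r' : TT} (h : TRel t' X' Y' r') (t₀ X₀ Y₀ r₀ : G)
    (h' : TRel t₀ X₀ Y₀ r₀) (et : S.j t' = t₀) (eX : S.j X' = X₀) (eY : S.j Y' = Y₀)
    (er : S.j r' = r₀) (u : TT) : h'.hom u = S.j (h.hom u) := by
  rw [TRel.hom_apply, TRel.hom_apply, map_word, et, eX, eY, er]

theorem eqs_swap : S.j (TT.Y * TT.r) = S.Y * S.r ∧
    S.j (TT.X * TT.r * TT.z) = S.X * S.r * S.z ∧ S.j (TT.r * TT.z) = S.r * S.z := by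
  simp [map_mul, j_Y, j_r, j_X, j_z]

theorem swap_rel : TRel S.t (S.Y * S.r) (S.X * S.r * S.z) (S.r * S.z) := by
  obtain ⟨a, b, c⟩ := S.eqs_swap
  have h := S.rel_map TRel_swap
  rwa [j_t, a, b, c] at h

theorem swap_hom (u : TT) : S.swap_rel.hom u = S.j (swapT u) :=
  S.hom_map TRel_swap _ _ _ _ _ S.j_t S.eqs_swap.1 S.eqs_swap.2.1 S.eqs_swap.2.2 u

theorem swap_z : (S.Y * S.r) * (S.X * S.r * S.z) * ((S.Y * S.r) * (S.X * S.r * S.z)) = S.z := by
  obtain ⟨a, b, -⟩ := S.eqs_swap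
  rw [← a, ← b, ← map_mul, ← map_mul, ← j_z]
  exact congrArg S.j (by decide)

/-- The setup with the two kinds of elementary subgroups of order 16 exchanged. -/
def swap : Setup G where
  t := S.t
  X := S.Y * S.r
  Y := S.X * S.r * S.z
  r := S.r * S.z
  rel := S.swap_rel
  inj := fun u v h => by
    rw [S.swap_hom, S.swap_hom] at h
    simpa [swapT_swapT] using congrArg swapT (S.j_inj h)
  ρ := S.ρ'
  ρ' := S.ρ
  ρ_t := S.ρ'_t
  ρ_X := by rw [S.swap_z]; exact S.ρ'_X
  ρ_Xz := by rw [S.swap_z]; exact S.ρ'_Xz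
  ρ_r := S.ρ'_r
  ρ'_t := S.ρ_t
  ρ'_X := by
    have e : S.X * S.r * S.z * (S.r * S.z) = S.X := by
      rw [← j_X, ← j_r, ← j_z, ← map_mul, ← map_mul, ← map_mul, ← map_mul]
      exact congrArg S.j (by decide)
    rw [S.swap_z, e]; exact S.ρ_X
  ρ'_Xz := by
    have e : S.X * S.r * S.z * (S.r * S.z) = S.X := by
      rw [← j_X, ← j_r, ← j_z, ← map_mul, ← map_mul, ← map_mul, ← map_mul]
      exact congrArg S.j (by decide)
    have e2 : S.r * S.z * S.z = S.r := by
      rw [← j_r, ← j_z, ← map_mul, ← map_mul]; exact congrArg S.j (by decide)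
    rw [S.swap_z, e, e2]; exact S.ρ_Xz
  ρ'_r := by
    have e : S.X * S.r * S.z * (S.r * S.z) = S.X := by
      rw [← j_X, ← j_r, ← j_z, ← map_mul, ← map_mul, ← map_mul, ← map_mul]
      exact congrArg S.j (by decide)
    have e2 : S.r * S.z * S.z = S.r := by
      rw [← j_r, ← j_z, ← map_mul, ← map_mul]; exact congrArg S.j (by decide)
    rw [S.swap_z, e, e2]; exact S.ρ_r
  card_C := S.card_C
  normT := fun g hg h => by
    obtain ⟨v, hv⟩ := S.normT g hg fun u => by
      obtain ⟨v, hv⟩ := h (swapT u)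
      rw [S.swap_hom] at hv
      rw [S.swap_hom, swapT_swapT] at hv
      exact ⟨_, hv⟩
    exact ⟨swapT v, by rw [S.swap_hom, swapT_swapT]; exact hv⟩
  normA := fun g hg h => by
    obtain ⟨v, k, hk, hv⟩ := S.normA' g hg fun u hu => by
      obtain ⟨w, hw, hc⟩ := h (swapT u) ((by decide +kernel : ∀ u : TT, u.a = false → (swapT u).b = false) u hu)
      rw [S.swap_hom, S.swap_hom, swapT_swapT] at hc
      exact ⟨_, (by decide +kernel : ∀ u : TT, u.b = false → (swapT u).a = false) w hw, hc⟩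
    exact ⟨swapT v, k, hk, by rw [S.swap_hom, swapT_swapT]; exact hv⟩
  normA' := fun g hg h => by
    obtain ⟨v, k, hk, hv⟩ := S.normA g hg fun u hu => by
      obtain ⟨w, hw, hc⟩ := h (swapT u) ((by decide +kernel : ∀ u : TT, u.b = false → (swapT u).a = false) u hu)
      rw [S.swap_hom, S.swap_hom, swapT_swapT] at hc
      exact ⟨_, (by decide +kernel : ∀ u : TT, u.a = false → (swapT u).b = false) w hw, hc⟩
    exact ⟨swapT v, k, hk, by rw [S.swap_hom, swapT_swapT]; exact hv⟩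

theorem eqs_twist : S.j (TT.t * TT.X) = S.t * S.X ∧ S.j (TT.t * TT.r) = S.t * S.r := by
  simp [map_mul, j_t, j_r, j_X]

theorem twist_rel : TRel S.t (S.t * S.X) S.Y (S.t * S.r) := by
  obtain ⟨a, b⟩ := S.eqs_twist
  have h := S.rel_map TRel_twist
  rwa [j_t, a, j_Y, b] at h

theorem twist_hom (u : TT) : S.twist_rel.hom u = S.j (twistT u) :=
  S.hom_map TRel_twist _ _ _ _ _ S.j_t S.eqs_twist.1 S.j_Y S.eqs_twist.2 u

theorem twist_z : (S.t * S.X) * S.Y * ((S.t * S.X) * S.Y) = S.z := by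
  rw [← S.eqs_twist.1, ← j_Y, ← map_mul, ← map_mul, ← j_z]
  exact congrArg S.j (by decide)

/-- The setup twisted by `t` on the odd elements. -/
def twist : Setup G where
  t := S.t
  X := S.t * S.X
  Y := S.Y
  r := S.t * S.r
  rel := S.twist_rel
  inj := fun u v h => by
    rw [S.twist_hom, S.twist_hom] at h
    simpa [twistT_twistT] using congrArg twistT (S.j_inj h)
  ρ := S.ρ
  ρ' := S.ρ'
  ρ_t := S.ρ_t
  ρ_X := by rw [S.twist_z, cj_mul, S.ρ_t, S.ρ_X]; exact (mul_assoc _ _ _).symm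
  ρ_Xz := by
    rw [S.twist_z, mul_assoc, cj_mul, S.ρ_t]
    exact congrArg (S.t * ·) S.ρ_Xz
  ρ_r := by rw [cj_mul, S.ρ_t, S.ρ_r]
  ρ'_t := S.ρ'_t
  ρ'_X := by
    have e : S.Y * (S.t * S.r) = S.t * (S.Y * S.r) := by rw [← mul_assoc, S.rel.cY, mul_assoc]
    rw [S.twist_z, e, cj_mul, S.ρ'_t, S.ρ'_X, mul_assoc S.t]; rfl
  ρ'_Xz := by
    have e : S.Y * (S.t * S.r) = S.t * (S.Y * S.r) := by rw [← mul_assoc, S.rel.cY, mul_assoc]
    rw [S.twist_z, e, mul_assoc, mul_assoc S.t S.r, cj_mul, S.ρ'_t]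
    exact congrArg (S.t * ·) S.ρ'_Xz
  ρ'_r := by
    have e : S.Y * (S.t * S.r) = S.t * (S.Y * S.r) := by rw [← mul_assoc, S.rel.cY, mul_assoc]
    rw [S.twist_z, e, mul_assoc S.t S.r, cj_mul, S.ρ'_t]
    exact congrArg (S.t * ·) S.ρ'_r
  card_C := S.card_C
  normT := fun g hg h => by
    obtain ⟨v, hv⟩ := S.normT g hg fun u => by
      obtain ⟨v, hv⟩ := h (twistT u)
      rw [S.twist_hom, S.twist_hom, twistT_twistT] at hv
      exact ⟨_, hv⟩
    exact ⟨twistT v, by rw [S.twist_hom, twistT_twistT]; exact hv⟩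
  normA := fun g hg h => by
    have hb : ∀ u : TT, (twistT u).b = u.b := by decide +kernel
    obtain ⟨v, k, hk, hv⟩ := S.normA g hg fun u hu => by
      obtain ⟨w, hw, hc⟩ := h (twistT u) (by rw [hb]; exact hu)
      rw [S.twist_hom, S.twist_hom, twistT_twistT] at hc
      exact ⟨_, by rw [hb]; exact hw, hc⟩
    exact ⟨twistT v, k, hk, by rw [S.twist_hom, twistT_twistT]; exact hv⟩
  normA' := fun g hg h => by
    have hb : ∀ u : TT, (twistT u).a = u.a := by decide +kernel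
    obtain ⟨v, k, hk, hv⟩ := S.normA' g hg fun u hu => by
      obtain ⟨w, hw, hc⟩ := h (twistT u) (by rw [hb]; exact hu)
      rw [S.twist_hom, S.twist_hom, twistT_twistT] at hc
      exact ⟨_, by rw [hb]; exact hw, hc⟩
    exact ⟨twistT v, k, hk, by rw [S.twist_hom, twistT_twistT]; exact hv⟩

theorem swap_j (u : TT) : S.swap.j u = S.j (swapT u) := S.swap_hom u
theorem twist_j (u : TT) : S.twist.j u = S.j (twistT u) := S.twist_hom u
theorem swap_E (u : TT) : S.swap.E u ↔ S.E (swapT u) := by unfold E; rw [S.swap_j]; rfl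
theorem twist_E (u : TT) : S.twist.E u ↔ S.E (twistT u) := by unfold E; rw [S.twist_j]; rfl

/-- Class invariance under `C(t)`. -/
theorem E_rep (u : TT) : S.E u ↔ S.E (rep u) := by
  have h1 : ∀ w : TT, w.b = false → (S.E w ↔ S.E (rhoT w)) :=
    fun w hw => S.E_cj (S.cj_rho_eq hw)
  have h2 : ∀ w : TT, (swapT w).b = false → (S.E w ↔ S.E (swapT (rhoT (swapT w)))) := by
    intro w hw
    have := S.swap.E_cj (S.swap.cj_rho_eq hw)
    rwa [S.swap_E, S.swap_E, swapT_swapT] at this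
  have h3 : ∀ w : TT, w.a ∧ ¬ w.b →
      rep w ∈ [rhoT w, rhoT (rhoT w)] := by decide +kernel
  have h4 : ∀ w : TT, w.b ∧ ¬ w.a →
      rep w ∈ [swapT (rhoT (swapT w)), swapT (rhoT (rhoT (swapT w)))] := by decide +kernel
  have hb : ∀ w : TT, w.b = false → (rhoT w).b = false := by decide +kernel
  by_cases hA : u.a ∧ ¬ u.b
  · have hub : u.b = false := by simpa using hA.2
    have := h3 u hA
    simp only [List.mem_cons, List.not_mem_nil, or_false] at this
    rcases this with e | e <;> rw [e]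
    · exact h1 u hub
    · exact (h1 u hub).trans (h1 _ (hb u hub))
  · by_cases hB : u.b ∧ ¬ u.a
    · have hsw : (swapT u).b = false :=
        (by decide +kernel : ∀ w : TT, w.b ∧ ¬ w.a → (swapT w).b = false) u hB
      have := h4 u hB
      simp only [List.mem_cons, List.not_mem_nil, or_false] at this
      rcases this with e | e <;> rw [e]
      · exact h2 u hsw
      · have := (h2 u hsw).trans (h2 _ (by rw [swapT_swapT]; exact hb _ hsw))
        rwa [swapT_swapT] at this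
    · rw [rep, if_neg hA, if_neg hB]

end Setup

end CfsgLib.Z2S6
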