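import Cfsg.Agent.Z2S6.Finite

/-!
# The surviving configuration: the transfer from `N(C(B) ∩ N(A₁))`

Here `B = ⟨X, r, z⟩`.
-/

set_option autoImplicit false
set_option linter.unusedSectionVars false
set_option linter.style.haveILetI false

open Subgroup

namespace CfsgLib.Z2S6

theorem bList_mem : ∀ b ∈ bList, b.b = false ∧ b.e = false ∧ b * b = 1 ∧
    (∀ a ∈ bList, a * b = b * a ∧ a * b ∈ bList) ∧ aG false b = b := by decide +kernel

theorem mem_normalizer_of_forall {G : Type*} [Group G] [Finite G] {H : Subgroup G} {g : G}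
    (h : ∀ x ∈ H, g⁻¹ * x * g ∈ H) : g ∈ Subgroup.normalizer (H : Set G) := by
  let φ : H → H := fun x => ⟨_, h x.1 x.2⟩
  have hinj : Function.Injective φ := fun a b hab =>
    Subtype.ext (mul_left_cancel (mul_right_cancel (congrArg Subtype.val hab :)))
  refine Subgroup.mem_normalizer_iff''.mpr fun x => ⟨h x, fun hx => ?_⟩
  obtain ⟨y, hy⟩ := (Finite.injective_iff_bijective.mp hinj).2 ⟨_, hx⟩
  rw [show x = y.1 from (mul_left_cancel (mul_right_cancel (congrArg Subtype.val hy :))).symm]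
  exact y.2

/-- The shifts of the four blocks. -/
def sh4 : Fin 4 → TT := ![1, TT.r, TT.X, TT.X * TT.z]

namespace Setup

variable {G : Type*} [Group G] [Finite G]

/-- The surviving configuration. -/
structure Survivor (S : Setup G) where
  hno : ∀ K : Subgroup G, K.index ≠ 2
  hp : S.IsPatFour
  hg : ∀ g : S.N, Good g
  F : Frame S
  p1_eq : F.p1 = false
  p2_eq : F.p2 = true
  c_eq : F.c = TT.r * TT.z
  cl_eq : F.classes = [1, 3, 5, 8, 10, 12, 23, 30]

namespace Survivor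

variable {S : Setup G} (M : Survivor S)

/-- `g` as an element of the group. -/
def g0 : G := (M.F.g : G)

theorem g0_sq : M.g0 * M.g0 = 1 := M.F.g_sq

theorem g0_mem : M.g0 ∈ S.N := M.F.g.2

theorem g0_comm {b : TT} (hb : b ∈ bList) : M.g0 * S.j b = S.j b * M.g0 :=
  (cj_eq_iff_commute _ _).mp (by
    show cj (M.F.g : G) (S.j b) = S.j b
    rw [← j_act, M.F.act_g, M.p1_eq, (bList_mem b hb).2.2.2.2])

theorem conjT_rp {i : ℕ} (hi : i ∈ [1, 3, 5, 8, 10, 12, 23, 30]) : M.F.conjT (rp i) = true :=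
  (List.mem_filter.mp (M.cl_eq ▸ hi : i ∈ M.F.classes)).2

theorem form_of_conjT {x : MM} (h : M.F.conjT x = true) :
    ∃ i ∈ [1, 3, 5, 8, 10, 12, 23, 30], ∃ w ∈ wList, x = mw (rp i) w := by
  obtain ⟨hr, w, hw, e⟩ := cls_spec x
  rw [reps_eq] at hr
  obtain ⟨i, hi, hie⟩ := List.mem_map.mp hr
  refine ⟨i, ?_, w, hw, by rw [hie]; exact e⟩
  rw [← M.cl_eq]
  refine List.mem_filter.mpr ⟨hi, ?_⟩
  rw [← M.F.conjT_mw M.hp M.hg _ hw, hie, ← e]
  exact h

/-- Conjugates in `N(T)` centralizing `B`. -/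
theorem conj_N_form {y : G} (hy : IsConj S.t y) (hN : y ∈ S.N)
    (hB : cj y (S.j TT.X) = S.j TT.X) :
    (∃ b ∈ bList, y = S.j (TT.t * b)) ∨ ∃ b ∈ bList, y = M.g0 * S.j b := by
  obtain ⟨x, rfl⟩ := M.F.el_surj M.hp hN
  obtain ⟨i, hi, w, hw, rfl⟩ := M.form_of_conjT (M.F.conjT_iff.mpr hy)
  have h1 : actM M.F.p1 M.F.p2 (rp i) TT.X = TT.X := by
    rw [← M.F.actM_mw _ hw, ← M.F.act_el']
    apply S.j_inj
    rw [j_act]; exact hB
  rw [M.p1_eq, M.p2_eq] at h1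
  have h2 : ∀ i ∈ [1, 3, 5, 8, 10, 12, 23, 30], actM false true (rp i) TT.X = TT.X →
      ∀ w ∈ wList,
      (mw (rp i) w).2.2 = false ∧
      (((mw (rp i) w).2.1 = false ∧ TT.t * (mw (rp i) w).1 ∈ bList) ∨
        ((mw (rp i) w).2.1 = true ∧ (mw (rp i) w).1 ∈ bList)) := by decide +kernel
  obtain ⟨hf, h3⟩ := h2 i hi h1 w hw
  rcases h3 with ⟨hd, hb⟩ | ⟨hd, hb⟩
  · refine Or.inl ⟨_, hb, ?_⟩
    rw [Frame.el, hd, hf, bpow_false, bpow_false, mul_one, mul_one, ← mul_assoc,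
      (by decide : TT.t * TT.t = 1), one_mul]
  · refine Or.inr ⟨_, hb, ?_⟩
    rw [Frame.el, hd, hf, bpow_false, bpow_true, mul_one]
    exact (M.g0_comm hb).symm

theorem g0_conj {b : TT} (hb : b ∈ bList) : IsConj S.t (M.g0 * S.j b) := by
  rw [M.g0_comm hb]
  obtain ⟨i, hi, w, hw, e⟩ := (by decide +kernel : ∀ b ∈ bList,
    ∃ i ∈ [1, 3, 5, 8, 10, 12, 23, 30], ∃ w ∈ wList, (b, true, false) = mw (rp i) w) b hb
  have h : M.F.conjT (b, true, false) = true := by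
    rw [e, M.F.conjT_mw M.hp M.hg _ hw]; exact M.conjT_rp hi
  have h' := M.F.conjT_iff.mp h
  rwa [Frame.el, bpow_true, bpow_false, mul_one] at h'

/-- `C(B) ∩ N(A₁)`. -/
def R (_M : Survivor S) : Subgroup G :=
  N1 S ⊓ centralizer (S.j '' {b | b ∈ bList})

theorem mem_R {x : G} : x ∈ M.R ↔ x ∈ N1 S ∧ ∀ b ∈ bList, cj x (S.j b) = S.j b := by
  rw [R, Subgroup.mem_inf, mem_centralizer_iff]
  refine and_congr_right fun _ => ⟨fun h b hb => ?_, fun h y hy => ?_⟩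
  · exact (cj_eq_iff_commute _ _).mpr (h _ ⟨b, hb, rfl⟩).symm
  · obtain ⟨b, hb, rfl⟩ := hy
    exact ((cj_eq_iff_commute _ _).mp (h b hb)).symm

theorem jA_mem_R {u : TT} (hu : u.b = false) : S.j u ∈ M.R := by
  refine M.mem_R.mpr ⟨T_le_N1 (S.j_mem u), fun b hb => ?_⟩
  rw [S.cj_j]
  exact congrArg S.j ((by decide +kernel : ∀ b ∈ bList, ∀ u : TT, u.b = false →
    u⁻¹ * b * u = b) b hb u hu)

theorem t_mem_R : S.t ∈ M.R := by rw [← j_t]; exact M.jA_mem_R rfl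

theorem g0_mem_R : M.g0 ∈ M.R :=
  M.mem_R.mpr ⟨N_le_N1 M.hp M.hg M.g0_mem,
    fun _ hb => (cj_eq_iff_commute _ _).mpr (M.g0_comm hb)⟩

/-- The element of `N(A₁)` underlying an element of `R`. -/
def toN1 {x : G} (hx : x ∈ M.R) : N1 S := ⟨x, (M.mem_R.mp hx).1⟩

theorem actA_fix {x : G} (hx : x ∈ M.R) {b : TT} (hb : b ∈ bList) :
    actA (M.toN1 hx) b = b :=
  actA_eq (bList_mem b hb).1 ((M.mem_R.mp hx).2 b hb)

/-- The shift of an element of `R`. -/
noncomputable def sh (y : G) : TT :=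
  @dite TT (y ∈ M.R) (Classical.propDecidable _)
    (fun h => TT.t * actA (M.toN1 h) TT.t) (fun _ => 1)

theorem sh_spec {x : G} (hx : x ∈ M.R) :
    M.sh x ∈ bList ∧ actA (M.toN1 hx) TT.t = TT.t * M.sh x := by
  obtain ⟨b, hb, e⟩ := (actA_form M.hp M.hg (M.toN1 hx)).1
  have h : M.sh x = b := by
    rw [sh, dif_pos hx, e, ← mul_assoc, (by decide : TT.t * TT.t = 1), one_mul]
  rw [h]; exact ⟨hb, e⟩

theorem sh_of {x : G} (hx : x ∈ M.R) {b : TT} (h : cj x S.t = S.j (TT.t * b)) : M.sh x = b := by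
  have e : actA (M.toN1 hx) TT.t = TT.t * b := actA_eq rfl (by rw [j_t]; exact h)
  exact mul_left_cancel ((M.sh_spec hx).2.symm.trans e)

theorem cj_t {x : G} (hx : x ∈ M.R) : cj x S.t = S.j (TT.t * M.sh x) := by
  rw [← (M.sh_spec hx).2, j_actA (M.toN1 hx) rfl, j_t]
  rfl

theorem sh_mul {x y : G} (hx : x ∈ M.R) (hy : y ∈ M.R) : M.sh (x * y) = M.sh x * M.sh y := by
  obtain ⟨hxb, -⟩ := M.sh_spec hx
  refine M.sh_of (mul_mem hx hy) ?_
  rw [← cj_cj, M.cj_t hx, map_mul, cj_mul, j_t, M.cj_t hy, (M.mem_R.mp hy).2 _ hxb, ← map_mul,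
    mul_assoc, ((bList_mem _ hxb).2.2.2.1 _ (M.sh_spec hy).1).1]

theorem sh_one_elim {x : G} (hx : x ∈ M.R) (h : M.sh x = 1) :
    ∃ a : TT, a.b = false ∧ x = S.j a := by
  have ht : cj x S.t = S.t := by rw [M.cj_t hx, h, mul_one, j_t]
  obtain ⟨w, l, hl, e⟩ := fix_t_form (M.mem_R.mp hx).1 ht
  have h0 : l = 0 ∧ w.b = false := by
    refine (by decide +kernel : ∀ l < 3, ∀ w : TT,
      (∀ b ∈ bList, rhoT^[l] (w⁻¹ * b * w) = b) → l = 0 ∧ w.b = false) l hl w fun b hb => ?_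
    apply S.j_inj
    rw [← cj_word_rho w l (bList_mem b hb).1, ← e, (M.mem_R.mp hx).2 b hb]
  exact ⟨w, h0.2, by rw [e, h0.1, pow_zero, mul_one]⟩

theorem sh_t : M.sh S.t = 1 :=
  M.sh_of M.t_mem_R (by rw [mul_one, j_t]; unfold cj; group)

theorem sh_g0 : M.sh M.g0 = TT.r := by
  refine M.sh_of M.g0_mem_R ?_
  rw [← j_t]
  show cj (M.F.g : G) (S.j TT.t) = _
  rw [← j_act, M.F.act_g, M.p1_eq]
  exact congrArg S.j (by decide)

theorem sh_jb {b : TT} (hb : b ∈ bList) : M.sh (S.j b) = 1 := by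
  refine M.sh_of (M.jA_mem_R (bList_mem b hb).1) ?_
  rw [mul_one, ← j_t, S.cj_j]
  exact congrArg S.j ((by decide +kernel : ∀ b ∈ bList, b⁻¹ * TT.t * b = TT.t) b hb)

/-- An element of `R` moves `g` by an element of `B`. -/
theorem cj_g0 {x : G} (hx : x ∈ M.R) : ∃ b ∈ bList, cj x M.g0 = M.g0 * S.j b := by
  set c : G := M.g0 * cj x M.g0 with hc
  have hxg : cj x M.g0 ∈ M.R := mul_mem (mul_mem (inv_mem hx) M.g0_mem_R) hx
  have hcR : c ∈ M.R := mul_mem M.g0_mem_R hxg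
  have hsh : M.sh c = 1 := by
    have hgx : M.g0 * x ∈ M.R := mul_mem M.g0_mem_R hx
    have h1 : M.sh (x * cj x M.g0) = M.sh (M.g0 * x) := by
      congr 1; unfold cj; group
    rw [M.sh_mul hx hxg, M.sh_mul M.g0_mem_R hx] at h1
    obtain ⟨hgb, -⟩ := M.sh_spec M.g0_mem_R
    obtain ⟨hxb, -⟩ := M.sh_spec hx
    obtain ⟨hwb, -⟩ := M.sh_spec hxg
    rw [hc, M.sh_mul M.g0_mem_R hxg]
    exact (by decide +kernel : ∀ a ∈ bList, ∀ b ∈ bList, ∀ c ∈ bList,
      b * c = a * b → a * c = 1) _ hgb _ hxb _ hwb h1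
  obtain ⟨a, ha, e⟩ := M.sh_one_elim hcR hsh
  have hae : a.e = false := by
    have hinv : cj M.g0 c = c⁻¹ := by
      have hw : cj x M.g0 * cj x M.g0 = 1 := by rw [← cj_mul, M.g0_sq, cj_one_right]
      rw [hc, mul_inv_rev, inv_eq_of_mul_eq_one_right hw, inv_eq_of_mul_eq_one_right M.g0_sq]
      generalize cj x M.g0 = w
      rw [cj, inv_eq_of_mul_eq_one_right M.g0_sq, ← mul_assoc, M.g0_sq, one_mul]
    rw [e, ← map_inv] at hinv
    have h2 : aG false a = a⁻¹ := by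
      apply S.j_inj
      rw [← hinv, ← M.p1_eq, ← M.F.act_g, j_act]
      rfl
    exact (by decide +kernel : ∀ a : TT, a.b = false → aG false a = a⁻¹ → a.e = false) a ha h2
  refine ⟨a, (bList_spec a).mpr ⟨hae, ha⟩, ?_⟩
  rw [← e, hc, ← mul_assoc, M.g0_sq, one_mul]

/-- Representatives of the four blocks. -/
def rep4 (i : Fin 4) : G :=
  ![S.t, M.g0, cj (S.ρ ^ 1) M.g0, cj (S.ρ ^ 2) M.g0] i

theorem rho_mem_normalizer (k : ℕ) {x : G} (hx : x ∈ M.R) : cj (S.ρ ^ k) x ∈ M.R := by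
  obtain ⟨hN, hB⟩ := M.mem_R.mp hx
  refine M.mem_R.mpr ⟨mul_mem (mul_mem (inv_mem (rho_pow_mem k)) hN) (rho_pow_mem k),
    fun b hb => ?_⟩
  obtain ⟨c, hc, e⟩ : ∃ c ∈ bList, cj (S.ρ ^ k)⁻¹ (S.j b) = S.j c := by
    obtain ⟨hbe, hbb⟩ := (bList_spec b).mp hb
    refine ⟨actA (⟨S.ρ ^ k, rho_pow_mem k⟩⁻¹ : N1 S) b, (bList_spec _).mpr
      ⟨(actA_e M.hp _ hbb).trans hbe, actA_b _ hbb⟩, ?_⟩
    rw [j_actA _ hbb]
    rfl
  have e2 : cj (cj (S.ρ ^ k) x) (S.j b) = cj (S.ρ ^ k) (cj x (cj (S.ρ ^ k)⁻¹ (S.j b))) := by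
    unfold cj; group
  rw [e2, e, hB c hc, ← e, cj_cancel_inv]

theorem rep4_spec : ∀ i : Fin 4,
    M.rep4 i ∈ M.R ∧ M.rep4 i * M.rep4 i = 1 ∧ M.sh (M.rep4 i) = sh4 i ∧
      ∀ b ∈ bList, IsConj S.t (M.rep4 i * S.j b) := by
  have main : ∀ k < 3, cj (S.ρ ^ k) M.g0 ∈ M.R ∧
      cj (S.ρ ^ k) M.g0 * cj (S.ρ ^ k) M.g0 = 1 ∧
      M.sh (cj (S.ρ ^ k) M.g0) = rhoT^[k] TT.r ∧
      ∀ b ∈ bList, IsConj S.t (cj (S.ρ ^ k) M.g0 * S.j b) := by
    intro k hk
    have hR := M.rho_mem_normalizer k M.g0_mem_R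
    refine ⟨hR, by rw [← cj_mul, M.g0_sq, cj_one_right], ?_, fun b hb => ?_⟩
    · refine M.sh_of hR ?_
      have h1 : cj (S.ρ ^ k) (cj M.g0 S.t) = cj (cj (S.ρ ^ k) M.g0) (cj (S.ρ ^ k) S.t) := by
        unfold cj; group
      have ht : cj (S.ρ ^ k) S.t = S.t := by
        rw [← j_t, (cj_rho_pow (S := S) rfl k).1, (rho_iter k hk).2.1]
      rw [ht, M.cj_t M.g0_mem_R, M.sh_g0, (cj_rho_pow (S := S) rfl k).1] at h1
      rw [← h1]
      exact congrArg S.j ((by decide +kernel : ∀ k < 3,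
        rhoT^[k] (TT.t * TT.r) = TT.t * rhoT^[k] TT.r) k hk)
    · obtain ⟨c, hc, e⟩ := (by decide +kernel : ∀ k < 3, ∀ b ∈ bList,
        ∃ c ∈ bList, rhoT^[k] c = b) k hk b hb
      rw [← e, ← (cj_rho_pow (S := S) (bList_mem c hc).1 k).1, ← cj_mul, isConj_cj_iff]
      exact M.g0_conj hc
  intro i
  fin_cases i
  · refine ⟨M.t_mem_R, S.t_sq, M.sh_t, fun b hb => ?_⟩
    show IsConj S.t (S.t * S.j b)
    rw [← S.j_t, ← map_mul, S.j_t]
    exact (M.hp _).mpr ((by decide +kernel : ∀ b ∈ bList, twelve (TT.t * b) = true) b hb)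
  · exact ⟨M.g0_mem_R, M.g0_sq, M.sh_g0, fun _ hb => M.g0_conj hb⟩
  · obtain ⟨a, b, c, d⟩ := main 1 (by norm_num)
    exact ⟨a, b, c.trans (by decide), d⟩
  · obtain ⟨a, b, c, d⟩ := main 2 (by norm_num)
    exact ⟨a, b, c.trans (by decide), d⟩

/-- The conjugates of `t` in `R` form four blocks. -/
theorem omega_form {y : G} (hy : IsConj S.t y) (hR : y ∈ M.R) :
    ∃ i : Fin 4, ∃ b ∈ bList, y = M.rep4 i * S.j b := by
  have key : ∀ x, IsConj S.t x → (hxR : x ∈ M.R) → TT.t * M.sh x ∈ pList →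
      (∃ b ∈ bList, x = S.j (TT.t * b)) ∨ ∃ b ∈ bList, x = M.g0 * S.j b := by
    intro x hx hxR hs
    refine M.conj_N_form hx ?_ ((M.mem_R.mp hxR).2 _ (by decide))
    exact mem_N_of_class M.hp M.hg (M.toN1 hxR) (by rw [(M.sh_spec hxR).2]; exact hs)
      (by rw [M.actA_fix hxR (by decide : TT.r ∈ bList)]; decide)
  obtain ⟨hsb, -⟩ := M.sh_spec hR
  obtain ⟨k, hk, w, hw, e⟩ := (by decide +kernel : ∀ b ∈ bList,
    ∃ k < 3, ∃ w ∈ bList, TT.t * w ∈ pList ∧ rhoT^[k] w = b) _ hsb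
  obtain ⟨hwp, hwk⟩ := e
  set x : G := cj (S.ρ ^ k)⁻¹ y with hx
  have hxy : cj (S.ρ ^ k) x = y := by rw [hx, cj_cancel_inv]
  have hxR : x ∈ M.R := by
    rw [hx]
    obtain ⟨hN, hB⟩ := M.mem_R.mp hR
    refine M.mem_R.mpr ⟨mul_mem (mul_mem (inv_mem (inv_mem (rho_pow_mem k))) hN)
      (inv_mem (rho_pow_mem k)), fun b hb => ?_⟩
    apply cj_injective (S.ρ ^ k)
    obtain ⟨hbe, hbb⟩ := (bList_spec b).mp hb
    have h := hB _ ((rho_iter k hk).2.2.2.1 b hb)
    rw [← (cj_rho_pow (S := S) hbb k).1] at h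
    rw [cj_cj]
    have e : cj (cj (S.ρ ^ k)⁻¹ y * S.ρ ^ k) (S.j b) = cj y (cj (S.ρ ^ k) (S.j b)) := by
      unfold cj; group
    rw [e, h]
  have hxs : M.sh x = w := by
    have h1 : cj (S.ρ ^ k) (cj x S.t) = cj y S.t := by
      have ht : cj (S.ρ ^ k) S.t = S.t := by
        rw [← j_t, (cj_rho_pow (S := S) rfl k).1, (rho_iter k hk).2.1]
      conv_rhs => rw [← hxy, ← ht]
      unfold cj; group
    have hxb := (M.sh_spec hxR).1
    rw [M.cj_t hxR, M.cj_t hR,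
      (cj_rho_pow (S := S) (mul_b rfl (bList_mem _ hxb).1) k).1] at h1
    have h2 := S.j_inj h1
    rw [← hwk] at h2
    exact (by decide +kernel : ∀ k < 3, ∀ a ∈ bList, ∀ w ∈ bList,
      rhoT^[k] (TT.t * a) = TT.t * rhoT^[k] w → a = w) k hk _ hxb w hw h2
  have hxc : IsConj S.t x := (isConj_cj_iff _ _).mpr hy
  rcases key x hxc hxR (by rw [hxs]; exact hwp) with ⟨b, hb, hxb⟩ | ⟨b, hb, hxb⟩
  · refine ⟨0, rhoT^[k] b, (rho_iter k hk).2.2.2.1 b hb, ?_⟩
    show y = S.t * S.j _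
    rw [← hxy, hxb, (cj_rho_pow (S := S) (mul_b rfl (bList_mem b hb).1) k).1, ← j_t, ← map_mul]
    exact congrArg S.j ((by decide +kernel : ∀ k < 3, ∀ b ∈ bList,
      rhoT^[k] (TT.t * b) = TT.t * rhoT^[k] b) k hk b hb)
  · have hy' : y = cj (S.ρ ^ k) M.g0 * S.j (rhoT^[k] b) := by
      rw [← hxy, hxb, cj_mul, (cj_rho_pow (S := S) (bList_mem b hb).1 k).1]
    have hk3 : k = 0 ∨ k = 1 ∨ k = 2 := by omega
    rcases hk3 with rfl | rfl | rfl
    · refine ⟨1, b, hb, ?_⟩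
      rw [hy']; show _ = M.g0 * S.j b; simp
    · exact ⟨2, _, (rho_iter 1 hk).2.2.2.1 b hb, hy'⟩
    · exact ⟨3, _, (rho_iter 2 hk).2.2.2.1 b hb, hy'⟩

/-- The block of a conjugate of `t` in `R`. -/
noncomputable def blk (y : G) : Fin 4 :=
  if M.sh y = 1 then 0 else if M.sh y = TT.r then 1 else if M.sh y = TT.X then 2 else 3

theorem blk_rep (i : Fin 4) {b : TT} (hb : b ∈ bList) : M.blk (M.rep4 i * S.j b) = i := by
  obtain ⟨hR, -, hs, -⟩ := M.rep4_spec i
  rw [blk, M.sh_mul hR (M.jA_mem_R (bList_mem b hb).1), hs, M.sh_jb hb, mul_one]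
  exact (by decide : ∀ i : Fin 4, (if sh4 i = 1 then (0 : Fin 4) else
    if sh4 i = TT.r then 1 else if sh4 i = TT.X then 2 else 3) = i) i

theorem blk_rep' (i : Fin 4) : M.blk (M.rep4 i) = i := by
  have h := M.blk_rep i (b := 1) (by decide)
  rwa [map_one, mul_one] at h

theorem same_block {y y' : G} (hy : IsConj S.t y) (hyR : y ∈ M.R) (hy' : IsConj S.t y')
    (hy'R : y' ∈ M.R) : M.blk y = M.blk y' ↔ ∃ b ∈ bList, y * y' = S.j b := by
  obtain ⟨i, b, hb, rfl⟩ := M.omega_form hy hyR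
  obtain ⟨i', b', hb', rfl⟩ := M.omega_form hy' hy'R
  rw [M.blk_rep i hb, M.blk_rep i' hb']
  obtain ⟨hiR, hi2, his, -⟩ := M.rep4_spec i
  obtain ⟨hi'R, -, hi's, -⟩ := M.rep4_spec i'
  constructor
  · rintro rfl
    refine ⟨b * b', ((bList_mem b' hb').2.2.2.1 b hb).2, ?_⟩
    have hc : S.j b * M.rep4 i = M.rep4 i * S.j b :=
      ((cj_eq_iff_commute _ _).mp ((M.mem_R.mp hiR).2 b hb)).symm
    rw [mul_assoc, ← mul_assoc (S.j b), hc, ← mul_assoc, ← mul_assoc, hi2, one_mul, map_mul]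
  · rintro ⟨c, hc, e⟩
    have h := congrArg M.sh e
    rw [M.sh_mul hyR hy'R, M.sh_mul hiR (M.jA_mem_R (bList_mem b hb).1),
      M.sh_mul hi'R (M.jA_mem_R (bList_mem b' hb').1), M.sh_jb hb, M.sh_jb hb', M.sh_jb hc, his,
      hi's, mul_one, mul_one] at h
    exact (by decide : ∀ i i' : Fin 4, sh4 i * sh4 i' = 1 → i = i') i i' h

/-- `N(R)`. -/
def L : Subgroup G := Subgroup.normalizer ((M.R : Subgroup G) : Set G)

theorem cj_mem_R {x y : G} (hx : x ∈ M.L) (hy : y ∈ M.R) : cj x y ∈ M.R :=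
  (Subgroup.mem_normalizer_iff''.mp hx y).mp hy

theorem center_R {x : G} (hx : x ∈ M.R) (hc : ∀ y ∈ M.R, x * y = y * x) :
    ∃ b ∈ bList, x = S.j b := by
  have hs : M.sh x = 1 :=
    M.sh_of hx (by rw [mul_one, j_t, cj_eq_iff_commute]; exact hc _ M.t_mem_R)
  obtain ⟨a, ha, rfl⟩ := M.sh_one_elim hx hs
  refine ⟨a, (bList_spec a).mpr ⟨?_, ha⟩, rfl⟩
  have h : cj M.g0 (S.j a) = S.j a :=
    (cj_eq_iff_commute _ _).mpr (hc _ M.g0_mem_R).symm
  have h2 : aG false a = a := by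
    apply S.j_inj
    rw [← M.p1_eq, ← M.F.act_g, j_act]; exact h
  exact (by decide +kernel : ∀ a : TT, a.b = false → aG false a = a → a.e = false) a ha h2

theorem L_B {x : G} (hx : x ∈ M.L) {b : TT} (hb : b ∈ bList) :
    ∃ c ∈ bList, cj x (S.j b) = S.j c := by
  refine M.center_R (M.cj_mem_R hx (M.jA_mem_R (bList_mem b hb).1)) fun y hy => ?_
  have hy' : cj x⁻¹ y ∈ M.R := M.cj_mem_R (inv_mem hx) hy
  have h := ((cj_eq_iff_commute _ _).mp ((M.mem_R.mp hy').2 b hb)).symm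
  have h2 := congrArg (cj x) h
  rwa [cj_mul, cj_mul, cj_cancel_inv] at h2

theorem N1_le_L : N1 S ≤ M.L := by
  intro x hx
  refine mem_normalizer_of_forall fun y hy => ?_
  obtain ⟨hN, hB⟩ := M.mem_R.mp hy
  refine M.mem_R.mpr ⟨mul_mem (mul_mem (inv_mem hx) hN) hx, fun b hb => ?_⟩
  obtain ⟨hbe, hbb⟩ := (bList_spec b).mp hb
  set c := actA (⟨x, hx⟩⁻¹ : N1 S) b with hc
  have hcj : cj x⁻¹ (S.j b) = S.j c := by rw [hc, j_actA _ hbb]; rfl
  have hcb : c ∈ bList := (bList_spec _).mpr ⟨(actA_e M.hp _ hbb).trans hbe, actA_b _ hbb⟩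
  have h := hB c hcb
  rw [← hcj] at h
  have e : cj (x⁻¹ * y * x) (S.j b) = cj x (cj y (cj x⁻¹ (S.j b))) := by unfold cj; group
  rw [e, h, cj_cancel_inv]

/-- An element fusing `g` into `t`. -/
theorem exists_h : ∃ h ∈ M.L, cj h M.g0 = S.t := by
  have hgM : M.F.el (rp 8) = M.g0 := by
    have e : rp 8 = (1, true, false) := by decide
    rw [e, Frame.el, map_one, one_mul, bpow_true, bpow_false, mul_one]
    rfl
  have hgc : IsConj S.t M.g0 := by
    have := M.g0_conj (b := 1) (by decide)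
    rwa [map_one, mul_one] at this
  have h32 : Nat.card (centIn S.N M.g0) = 32 := by
    rw [← hgM, M.F.card_centIn_el M.hp M.hg,
      M.F.count_eight M.hp M.hg (M.conjT_rp (by decide))]
  obtain ⟨h, hht, hC⟩ := (S.centIn_bound (isPGroup_N_four M.hp) hgc).2 h32
  have hpre : ∀ u : TT, cj h⁻¹ (S.j u) ∈ centIn S.N M.g0 := fun u =>
    (hC _).mpr (by rw [cj_cancel_inv]; exact S.j_mem u)
  -- `h` normalizes `N(T)`
  have hN : ∀ n ∈ S.N, cj h n ∈ S.N := by
    intro n hn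
    refine S.mem_N.mpr fun u => ?_
    set x : G := cj h⁻¹ (S.j u) with hx
    obtain ⟨hxN, hxg⟩ := mem_centIn.mp (hpre u)
    have e : cj (cj h n) (S.j u) = cj h (cj n x) := by rw [hx]; unfold cj; group
    rw [e]
    refine (hC _).mp (mem_centIn.mpr ⟨mul_mem (mul_mem (inv_mem hn) hxN) hn, ?_⟩)
    obtain ⟨w, hw, hgn⟩ : ∃ w ∈ wList, cj n M.g0 = M.g0 * S.j w := by
      obtain ⟨y, rfl⟩ := M.F.el_surj M.hp hn
      obtain ⟨w', hw', hy'⟩ := (cls_spec y).2
      obtain ⟨w, hw, hyw⟩ := (by decide +kernel : ∀ r ∈ reps, ∃ w ∈ wList,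
        mmul false true (TT.r * TT.z) (rp 8) r =
          mmul false true (TT.r * TT.z) r (mw (rp 8) w)) _ (cls_spec y).1
      refine ⟨w, hw, ?_⟩
      rw [← M.p1_eq, ← M.p2_eq, ← M.c_eq] at hyw
      have e2 := congrArg M.F.el hyw
      rw [M.F.el_mul M.hg, M.F.el_mul M.hg, M.F.el_mw M.hg _ hw, hgM] at e2
      have e3 : cj (M.F.el (cls y)) M.g0 = M.g0 * S.j w := by
        rw [cj, mul_assoc, e2, inv_mul_cancel_left]
      rw [hy', M.F.el_mw M.hg _ hw', ← cj_cj, e3, cj_mul]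
      have hc1 : cj (S.j w') M.g0 = M.g0 :=
        (cj_eq_iff_commute _ _).mpr (Frame.W_comm M.hg hw' M.g0_mem)
      have hc2 : cj (S.j w') (S.j w) = S.j w :=
        (cj_eq_iff_commute _ _).mpr (Frame.W_comm M.hg hw' (S.T_le_N (S.j_mem w)))
      rw [hc1, hc2]
    have h1 : cj n x * (M.g0 * S.j w) = (M.g0 * S.j w) * cj n x := by
      rw [← hgn, ← cj_mul, ← cj_mul, hxg]
    have hwx : S.j w * cj n x = cj n x * S.j w :=
      Frame.W_comm M.hg hw (mul_mem (mul_mem (inv_mem hn) hxN) hn)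
    rw [mul_assoc M.g0, hwx, ← mul_assoc, ← mul_assoc] at h1
    exact mul_right_cancel h1
  -- commutators of `N(T)` lie in `W`
  have hcomm : ∀ a ∈ S.N, ∀ b ∈ S.N, ∃ w ∈ wList, a⁻¹ * cj b a = S.j w := by
    intro a ha b hb
    obtain ⟨x, rfl⟩ := M.F.el_surj M.hp ha
    obtain ⟨y, rfl⟩ := M.F.el_surj M.hp hb
    obtain ⟨hxr, v, hv, hxe⟩ := cls_spec x
    obtain ⟨hyr, v', hv', hye⟩ := cls_spec y
    obtain ⟨w, hw, hxy⟩ := (by decide +kernel : ∀ x ∈ reps, ∀ y ∈ reps, ∃ w ∈ wList,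
      mmul false true (TT.r * TT.z) x y = mmul false true (TT.r * TT.z) y (mw x w)) _ hxr _ hyr
    refine ⟨w, hw, ?_⟩
    rw [← M.p1_eq, ← M.p2_eq, ← M.c_eq] at hxy
    have e2 := congrArg M.F.el hxy
    rw [M.F.el_mul M.hg, M.F.el_mul M.hg, M.F.el_mw M.hg _ hw] at e2
    have e3 : cj (M.F.el (cls y)) (M.F.el (cls x)) = M.F.el (cls x) * S.j w := by
      rw [cj, mul_assoc, e2, inv_mul_cancel_left]
    rw [hxe, hye, M.F.el_mw M.hg _ hv, M.F.el_mw M.hg _ hv', ← cj_cj, cj_mul, e3,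
      (cj_eq_iff_commute (M.F.el (cls y)) (S.j v)).mpr
        (Frame.W_comm M.hg hv (M.F.el_mem (cls y))).symm]
    have hfix : ∀ z ∈ S.N, cj (S.j v') z = z := fun z hz =>
      (cj_eq_iff_commute _ _).mpr (Frame.W_comm M.hg hv' hz)
    rw [hfix _ (mul_mem (mul_mem (M.F.el_mem _) (S.T_le_N (S.j_mem w))) (S.T_le_N (S.j_mem v))),
      mul_inv_rev, mul_assoc, ← mul_assoc (M.F.el (cls x))⁻¹,
      ← mul_assoc (M.F.el (cls x))⁻¹, inv_mul_cancel, one_mul,
      Frame.W_comm M.hg hw (S.T_le_N (S.j_mem v)), inv_mul_cancel_left]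
  -- images of `X`, `Y`
  have hC0 : ∀ u : TT, aG false u = u → S.j u ∈ centIn S.N M.g0 := fun u hu => by
    refine mem_centIn.mpr ⟨S.T_le_N (S.j_mem u), ?_⟩
    refine ((cj_eq_iff_commute _ _).mp ?_).symm
    show cj (M.F.g : G) (S.j u) = S.j u
    rw [← j_act, M.F.act_g, M.p1_eq, hu]
  obtain ⟨uX, huX⟩ := (hC _).mp (hC0 TT.X (by decide))
  obtain ⟨uY, huY⟩ := (hC _).mp (hC0 TT.Y (by decide))
  have hcz : cj h (S.j TT.z) = S.j TT.z := by
    have e : S.j TT.z = (S.j TT.X)⁻¹ * cj (S.j TT.Y) (S.j TT.X) := by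
      rw [S.cj_j, ← map_inv, ← map_mul]; exact congrArg S.j (by decide)
    have e2 : cj h (S.j TT.z) = S.j (uX⁻¹ * (uY⁻¹ * uX * uY)) := by
      rw [e, map_mul, map_inv, ← S.cj_j, huX, huY]
      unfold cj; group
    rcases (by decide +kernel : ∀ a b : TT,
      a⁻¹ * (b⁻¹ * a * b) = 1 ∨ a⁻¹ * (b⁻¹ * a * b) = TT.z) uX uY with h1 | h1
    · rw [h1, map_one] at e2
      exact absurd (S.j_inj ((cj_injective h (e2.trans (cj_one_right h).symm)).trans
        (map_one S.j).symm)) (by decide)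
    · rw [e2, h1]
  have hW : ∀ w ∈ wList, ∃ w' ∈ wList, cj h (S.j w) = S.j w' := by
    intro w hw
    have key : ∀ a ∈ S.N, ∀ b ∈ S.N, a⁻¹ * cj b a = S.j w →
        ∃ w' ∈ wList, cj h (S.j w) = S.j w' := by
      intro a ha b hb e
      obtain ⟨w', hw', e'⟩ := hcomm _ (hN a ha) _ (hN b hb)
      refine ⟨w', hw', ?_⟩
      rw [← e', ← e]; unfold cj; group
    simp only [wList, List.mem_cons, List.not_mem_nil, or_false] at hw
    have hk : (M.F.k : G) ∈ S.N := M.F.k.2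
    have ht : S.j TT.t ∈ S.N := S.T_le_N (S.j_mem _)
    rcases hw with rfl | rfl | rfl | rfl
    · exact ⟨1, by decide, by rw [map_one, cj_one_right]⟩
    · exact ⟨TT.z, by decide, hcz⟩
    · refine key _ ht _ M.g0_mem ?_
      show (S.j TT.t)⁻¹ * cj (M.F.g : G) (S.j TT.t) = _
      rw [← j_act, M.F.act_g, M.p1_eq, ← map_inv, ← map_mul]
      exact congrArg S.j (by decide)
    · refine key _ ht _ hk ?_
      rw [← j_act, M.F.act_k, M.p2_eq, ← map_inv, ← map_mul]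
      exact congrArg S.j (by decide)
  -- `h` maps `B` to itself
  have huX' : uX ∈ bList := by
    have hXX : cj h (S.j TT.X) = S.j uX := huX.symm
    have h2 : uX * uX = 1 := by
      apply S.j_inj
      rw [map_mul, ← hXX, ← cj_mul, ← map_mul, map_one,
        (by decide : TT.X * TT.X = 1), map_one, cj_one_right]
    have hcen : cen uX = false := by
      cases hc : cen uX
      · rfl
      · exfalso
        have h3 := (cen_iff uX).mpr hc uY
        have h4 : cj h (S.j TT.X * S.j TT.Y) = cj h (S.j TT.Y * S.j TT.X) := by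
          rw [cj_mul, cj_mul, hXX, ← huY, ← map_mul, ← map_mul, h3]
        have h5 := cj_injective h h4
        rw [← map_mul, ← map_mul] at h5
        exact absurd (S.j_inj h5) (by decide)
    have he : uX.e = false := by
      cases he : uX.e
      · rfl
      · exfalso
        have h3 : S.E uX := (M.hp _).mpr ((twelve_iff _).mpr ⟨he, h2⟩)
        rw [E, ← hXX, isConj_cj_iff] at h3
        exact absurd ((M.hp TT.X).mp h3) (by decide)
    have hmove : ∀ (n : S.N), S.act n uX = uX ∨ S.act n uX = uX * TT.z := by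
      intro n
      have hn' : cj h⁻¹ (n : G) ∈ S.N := by
        let φ : S.N → S.N := fun x => ⟨cj h x, hN x x.2⟩
        have hinj : Function.Injective φ := fun a b hab =>
          Subtype.ext (cj_injective h (congrArg Subtype.val hab))
        obtain ⟨m, hm⟩ := (Finite.injective_iff_bijective.mp hinj).2 n
        rw [← congrArg Subtype.val hm]
        show cj h⁻¹ (cj h m) ∈ S.N
        rw [cj_inv_cancel]; exact m.2
      obtain ⟨y, hy⟩ := M.F.el_surj M.hp hn'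
      have h3 : actM false true y TT.X = TT.X ∨ actM false true y TT.X = TT.X * TT.z := by
        obtain ⟨hr, w, hw, e⟩ := cls_spec y
        have := M.F.actM_mw (cls y) hw
        rw [M.p1_eq, M.p2_eq, ← e] at this
        rw [this]
        exact (by decide +kernel : ∀ r ∈ reps, actM false true r TT.X = TT.X ∨
          actM false true r TT.X = TT.X * TT.z) _ hr
      have h4 : cj (cj h⁻¹ (n : G)) (S.j TT.X) = S.j (actM false true y TT.X) := by
        rw [← M.p1_eq, ← M.p2_eq, ← M.F.act_el', j_act, ← hy]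
      have h5 : S.j (S.act n uX) = cj h (S.j (actM false true y TT.X)) := by
        rw [← h4, j_act, ← hXX]; unfold cj; group
      rcases h3 with e | e <;> rw [e] at h5
      · left; exact S.j_inj (h5.trans hXX)
      · right
        rw [map_mul, cj_mul, hXX, hcz, ← map_mul] at h5
        exact S.j_inj h5
    have hg1 := hmove M.F.g
    have hk1 := hmove M.F.k
    rw [M.F.act_g, M.p1_eq] at hg1
    rw [M.F.act_k, M.p2_eq] at hk1
    exact (by decide +kernel : ∀ u : TT, u * u = 1 → cen u = false → u.e = false →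
      (aG false u = u ∨ aG false u = u * TT.z) → (aK true u = u ∨ aK true u = u * TT.z) →
      u ∈ bList) uX h2 hcen he hg1 hk1
  have hB : ∀ b ∈ bList, ∃ b' ∈ bList, cj h (S.j b) = S.j b' := by
    intro b hb
    obtain ⟨i, w, hw, rfl⟩ := (by decide +kernel : ∀ b ∈ bList, ∃ i : Bool, ∃ w ∈ wList,
      b = (bif i then TT.X else 1) * w) b hb
    obtain ⟨w', hw', e⟩ := hW w hw
    refine ⟨(bif i then uX else 1) * w', ?_, ?_⟩
    · exact (by decide +kernel : ∀ u ∈ bList, ∀ i : Bool, ∀ w ∈ wList,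
        (bif i then u else 1) * w ∈ bList) _ huX' i w' hw'
    · rw [map_mul, cj_mul, e, map_mul]
      cases i
      · simp
      · simp only [cond_true]; rw [← huX]
  have hBinv : ∀ b ∈ bList, ∃ b' ∈ bList, cj h⁻¹ (S.j b) = S.j b' := by
    intro b hb
    let φ : {x // x ∈ bList} → {x // x ∈ bList} := fun x =>
      ⟨(hB x.1 x.2).choose, (hB x.1 x.2).choose_spec.1⟩
    have hinj : Function.Injective φ := by
      intro x y hxy
      apply Subtype.ext
      apply S.j_inj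
      apply cj_injective h
      rw [(hB x.1 x.2).choose_spec.2, (hB y.1 y.2).choose_spec.2]
      exact congrArg (fun z : {x // x ∈ bList} => S.j z.1) hxy
    obtain ⟨x, hx⟩ := (Finite.injective_iff_bijective.mp hinj).2 ⟨b, hb⟩
    refine ⟨x.1, x.2, ?_⟩
    have e : cj h (S.j x.1) = S.j b := by
      rw [(hB x.1 x.2).choose_spec.2]
      exact congrArg (fun z : {x // x ∈ bList} => S.j z.1) hx
    rw [← e, cj_inv_cancel]
  refine ⟨h, mem_normalizer_of_forall fun x hx => ?_, hht⟩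
  show cj h x ∈ M.R
  obtain ⟨hxN1, hxB⟩ := M.mem_R.mp hx
  have hfix : ∀ b ∈ bList, cj (cj h x) (S.j b) = S.j b := by
    intro b hb
    obtain ⟨b', hb', e⟩ := hBinv b hb
    have e2 : cj (cj h x) (S.j b) = cj h (cj x (cj h⁻¹ (S.j b))) := by unfold cj; group
    rw [e2, e, hxB b' hb', ← e, cj_cancel_inv]
  refine M.mem_R.mpr ⟨mem_N1.mpr fun u hu => ?_, hfix⟩
  obtain ⟨b0, hb0, e0⟩ := M.cj_g0 hx
  obtain ⟨b1, hb1, e1⟩ := hB b0 hb0
  have htx : cj (cj h x) (S.j TT.t) = S.j (TT.t * b1) := by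
    rw [map_mul, ← e1, j_t, ← hht]
    have e2 : cj (cj h x) (cj h M.g0) = cj h (cj x M.g0) := by unfold cj; group
    rw [e2, e0, cj_mul]
  obtain ⟨b, hb, hub⟩ := (by decide +kernel : ∀ u : TT, u.b = false →
    ∃ b ∈ bList, u = (bif u.e then TT.t else 1) * b) u hu
  refine ⟨(bif u.e then TT.t * b1 else 1) * b, ?_, ?_⟩
  · refine mul_b ?_ (bList_mem b hb).1
    cases u.e
    · rfl
    · exact mul_b rfl (bList_mem b1 hb1).1
  · conv_lhs => rw [hub]
    rw [map_mul, cj_mul, hfix b hb, map_mul]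
    cases u.e
    · simp
    · simp only [cond_true]; rw [htx]

theorem transitive (i : Fin 4) {b : TT} (hb : b ∈ bList) :
    ∃ s ∈ M.L, cj s S.t = M.rep4 i * S.j b := by
  have base : ∀ c ∈ bList, ∃ s ∈ M.L, cj s S.t = S.j (TT.t * c) := by
    intro c hc
    obtain ⟨n, k, hk, e⟩ := exists_shift M.hp (a := TT.t * c) (mul_b rfl (bList_mem c hc).1)
      ((by decide +kernel : ∀ c ∈ bList, (TT.t * c).e = true) c hc)
    refine ⟨(n : G) * S.ρ ^ k, M.N1_le_L (mul_mem (N_le_N1 M.hp M.hg n.2) (rho_pow_mem k)), ?_⟩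
    have hb' : (S.act n TT.t).b = false := by
      rw [← actA_eq_act M.hp M.hg n.2 (u := TT.t) rfl]
      exact actA_b _ rfl
    rw [← cj_cj, ← j_t, ← j_act, (cj_rho_pow (S := S) hb' k).1, e]
  have base2 : ∀ c ∈ bList, ∃ s ∈ M.L, cj s S.t = M.g0 * S.j c := by
    intro c hc
    obtain ⟨h, hh, hht⟩ := M.exists_h
    obtain ⟨c', hc', e⟩ := M.L_B hh hc
    obtain ⟨s, hs, hse⟩ := base c' hc'
    refine ⟨s * h⁻¹, mul_mem hs (inv_mem hh), ?_⟩
    rw [← cj_cj, hse, map_mul, j_t, ← hht, ← e, ← cj_mul, cj_inv_cancel]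
  have base3 : ∀ k < 3, ∀ c ∈ bList, ∃ s ∈ M.L, cj s S.t = cj (S.ρ ^ k) M.g0 * S.j c := by
    intro k hk c hc
    obtain ⟨d, hd, e⟩ := (by decide +kernel : ∀ k < 3, ∀ b ∈ bList,
      ∃ c ∈ bList, rhoT^[k] c = b) k hk c hc
    obtain ⟨s, hs, hse⟩ := base2 d hd
    refine ⟨s * S.ρ ^ k, mul_mem hs (M.N1_le_L (rho_pow_mem k)), ?_⟩
    rw [← cj_cj, hse, cj_mul, (cj_rho_pow (S := S) (bList_mem d hd).1 k).1, e]
  fin_cases i
  · obtain ⟨s, hs, e⟩ := base b hb
    exact ⟨s, hs, by rw [e, map_mul, j_t]; rfl⟩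
  · exact base2 b hb
  · exact base3 1 (by norm_num) b hb
  · exact base3 2 (by norm_num) b hb

theorem stab {x : G} (hx : x ∈ M.L) (ht : cj x S.t = S.t) : x ∈ N1 S := by
  refine mem_N1.mpr fun u hu => ?_
  have hR := M.cj_mem_R hx (M.jA_mem_R hu)
  have hs : M.sh (cj x (S.j u)) = 1 := by
    refine M.sh_of hR ?_
    rw [mul_one, j_t, cj_eq_iff_commute]
    have hc : S.j u * S.t = S.t * S.j u := S.t_comm u
    have h2 := congrArg (cj x) hc
    rwa [cj_mul, cj_mul, ht] at h2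
  exact M.sh_one_elim hR hs

theorem card_L : Nat.card M.L = 3072 := by
  classical
  let Ω := Fin 4 × {b : TT // b ∈ bList}
  let val : Ω → G := fun p => M.rep4 p.1 * S.j p.2.1
  have hinj : Function.Injective val := by
    rintro ⟨i, b, hb⟩ ⟨i', b', hb'⟩ h
    have h' : M.rep4 i * S.j b = M.rep4 i' * S.j b' := h
    have hi : i = i' := by rw [← M.blk_rep i hb, h', M.blk_rep i' hb']
    subst hi
    have hbb : b = b' := S.j_inj (mul_left_cancel h')
    subst hbb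
    rfl
  have hΩ : ∀ p : Ω, ∃ s : M.L, cj (s : G) S.t = val p := fun p =>
    let ⟨s, hs, e⟩ := M.transitive p.1 p.2.2
    ⟨⟨s, hs⟩, e⟩
  choose s hs using hΩ
  have hmem : ∀ x : M.L, ∃ p : Ω, val p = cj (x : G) S.t := fun x =>
    let ⟨i, b, hb, e⟩ := M.omega_form ((isConj_cj_iff _ _).mpr (IsConj.refl _))
      (M.cj_mem_R x.2 M.t_mem_R)
    ⟨(i, ⟨b, hb⟩), e.symm⟩
  choose p hp using hmem
  let e : M.L ≃ Ω × {x : N1 S // cj (x : G) S.t = S.t} :=
    { toFun := fun x => (p x, ⟨⟨(x : G) * (s (p x) : G)⁻¹, M.stab (mul_mem x.2 (inv_mem (s _).2))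
          (by rw [← cj_cj, ← hp x, ← hs (p x), cj_inv_cancel])⟩,
          by show cj ((x : G) * (s (p x) : G)⁻¹) S.t = S.t
             rw [← cj_cj, ← hp x, ← hs (p x), cj_inv_cancel]⟩)
      invFun := fun q => ⟨(q.2.1 : G) * s q.1, mul_mem (M.N1_le_L q.2.1.2) (s q.1).2⟩
      left_inv := fun x => Subtype.ext (inv_mul_cancel_right _ _)
      right_inv := fun ⟨a, ⟨c, hc⟩⟩ => by
        have ha : p ⟨(c : G) * s a, mul_mem (M.N1_le_L c.2) (s a).2⟩ = a := by
          refine hinj ?_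
          rw [hp]
          show cj ((c : G) * s a) S.t = _
          rw [← cj_cj, hc, hs]
        refine Prod.ext ha (Subtype.ext (Subtype.ext ?_))
        show (c : G) * s a * (s (p _) : G)⁻¹ = c
        rw [ha, mul_inv_cancel_right] }
  rw [Nat.card_congr e, Nat.card_prod, card_fix_t, Nat.card_prod, Nat.card_fin,
    Nat.card_eq_fintype_card,
    show Fintype.card {b : TT // b ∈ bList} = 8 from by decide +kernel]

theorem blk_cj {x : G} (hx : x ∈ M.L) {y y' : G} (hy : IsConj S.t y) (hyR : y ∈ M.R)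
    (hy' : IsConj S.t y') (hy'R : y' ∈ M.R) (h : M.blk y = M.blk y') :
    M.blk (cj x y) = M.blk (cj x y') := by
  obtain ⟨b, hb, e⟩ := (M.same_block hy hyR hy' hy'R).mp h
  obtain ⟨c, hc, e'⟩ := M.L_B hx hb
  exact (M.same_block ((isConj_cj_iff _ _).mpr hy) (M.cj_mem_R hx hyR)
    ((isConj_cj_iff _ _).mpr hy') (M.cj_mem_R hx hy'R)).mpr
      ⟨c, hc, by rw [← cj_mul, e, e']⟩

/-- The image of a block. -/
noncomputable def imgBlk (x : G) (i : Fin 4) : Fin 4 := M.blk (cj x⁻¹ (M.rep4 i))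

theorem imgBlk_mul (x y : M.L) (i : Fin 4) :
    M.imgBlk ((x : G) * y) i = M.imgBlk x (M.imgBlk y i) := by
  have hr : ∀ j, IsConj S.t (M.rep4 j) := fun j => by
    have := (M.rep4_spec j).2.2.2 1 (by decide)
    rwa [map_one, mul_one] at this
  have hz := M.cj_mem_R (inv_mem y.2) (M.rep4_spec i).1
  show M.blk (cj ((x : G) * y)⁻¹ (M.rep4 i)) = _
  rw [mul_inv_rev, ← cj_cj]
  exact M.blk_cj (inv_mem x.2) ((isConj_cj_iff _ _).mpr (hr i)) hz (hr _) (M.rep4_spec _).1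
    (M.blk_rep' _).symm

/-- The action of `N(R)` on the four blocks. -/
noncomputable def perm : M.L →* Equiv.Perm (Fin 4) where
  toFun x :=
    { toFun := M.imgBlk x
      invFun := M.imgBlk ((x⁻¹ : M.L) : G)
      left_inv := fun i => by
        rw [← M.imgBlk_mul, Subgroup.coe_inv, inv_mul_cancel, imgBlk, inv_one, cj_one_left,
          M.blk_rep']
      right_inv := fun i => by
        rw [← M.imgBlk_mul, Subgroup.coe_inv, mul_inv_cancel, imgBlk, inv_one, cj_one_left,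
          M.blk_rep'] }
  map_one' := Equiv.ext fun i => by
    show M.imgBlk ((1 : M.L) : G) i = i
    rw [Subgroup.coe_one, imgBlk, inv_one, cj_one_left, M.blk_rep']
  map_mul' x y := Equiv.ext fun i => M.imgBlk_mul x y i

theorem perm_apply (x : M.L) (i : Fin 4) :
    M.perm x i = M.blk (cj (x : G)⁻¹ (M.rep4 i)) := rfl

theorem perm_zero {x : G} (hx : x ∈ N1 S) : M.perm ⟨x, M.N1_le_L hx⟩ 0 = 0 := by
  rw [perm_apply]
  show M.blk (cj x⁻¹ S.t) = 0
  obtain ⟨⟨b, hb, e⟩, -, -⟩ := actA_form M.hp M.hg (⟨x, hx⟩⁻¹ : N1 S)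
  have h2 : cj x⁻¹ S.t = M.rep4 0 * S.j b := by
    show _ = S.t * S.j b
    rw [← j_t, ← map_mul, ← e, j_actA _ rfl]
    rfl
  rw [h2, M.blk_rep 0 hb]

theorem mem_N1_of_perm {y : G} (hy : y ∈ M.L) (hy2 : y * y = 1)
    (h0 : M.perm ⟨y, hy⟩ 0 = 0) : y ∈ N1 S := by
  have hyi : y⁻¹ = y := inv_eq_of_mul_eq_one_right hy2
  rw [perm_apply] at h0
  change M.blk (cj y⁻¹ S.t) = 0 at h0
  rw [hyi] at h0
  obtain ⟨i, b0, hb0, e0⟩ := M.omega_form ((isConj_cj_iff _ _).mpr (IsConj.refl _))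
    (M.cj_mem_R hy M.t_mem_R)
  rw [e0, M.blk_rep i hb0] at h0
  subst h0
  refine mem_N1.mpr fun u hu => ?_
  obtain ⟨b, hb, hub⟩ := (by decide +kernel : ∀ u : TT, u.b = false →
    ∃ b ∈ bList, u = (bif u.e then TT.t else 1) * b) u hu
  obtain ⟨c, hc, e⟩ := M.L_B hy hb
  refine ⟨(bif u.e then TT.t * b0 else 1) * c, ?_, ?_⟩
  · refine mul_b ?_ (bList_mem c hc).1
    cases u.e
    · rfl
    · exact mul_b rfl (bList_mem b0 hb0).1
  · conv_lhs => rw [hub]
    rw [map_mul, cj_mul, e, map_mul]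
    cases u.e
    · simp
    · simp only [cond_true, j_t]
      rw [e0, map_mul, j_t]
      rfl

theorem sign_perm {y : G} (hy : y ∈ N1 S) (hy2 : y * y = 1) :
    Equiv.Perm.sign (M.perm ⟨y, M.N1_le_L hy⟩) = -1 ↔ sg (actA ⟨y, hy⟩) = true := by
  have hyi : y⁻¹ = y := inv_eq_of_mul_eq_one_right hy2
  obtain ⟨⟨b0, hb0, e0⟩, hl, hf⟩ := actA_form M.hp M.hg (⟨y, hy⟩ : N1 S)
  rw [sg_actA M.hp M.hg]
  refine (by decide +kernel : ∀ p ∈ lins, ∀ σ : Equiv.Perm (Fin 4),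
    (∀ i, aa 1 p.1 p.2 (sh4 i) = sh4 (σ i)) →
      (Equiv.Perm.sign σ = -1 ↔ sg (aa 1 p.1 p.2) = true)) _ hl _ fun i => ?_
  obtain ⟨hiR, -, his, -⟩ := M.rep4_spec i
  rw [perm_apply]
  show _ = sh4 (M.blk (cj y⁻¹ (M.rep4 i)))
  rw [hyi]
  have hzR : cj y (M.rep4 i) ∈ M.R := M.cj_mem_R (M.N1_le_L hy) hiR
  have hri : IsConj S.t (M.rep4 i) := by
    have := (M.rep4_spec i).2.2.2 1 (by decide)
    rwa [map_one, mul_one] at this
  obtain ⟨j, b, hb, ez⟩ := M.omega_form ((isConj_cj_iff _ _).mpr hri) hzR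
  rw [ez, M.blk_rep j hb]
  have hsz : M.sh (cj y (M.rep4 i)) = sh4 j := by
    rw [ez, M.sh_mul (M.rep4_spec j).1 (M.jA_mem_R (bList_mem b hb).1), (M.rep4_spec j).2.2.1,
      M.sh_jb hb, mul_one]
  have hib : sh4 i ∈ bList := his ▸ (M.sh_spec hiR).1
  obtain ⟨hie, hibb⟩ := (bList_spec _).mp hib
  have h1 : cj y (S.j (TT.t * b0)) = S.t := by
    rw [← e0, j_actA _ rfl]
    show cj y (cj y (S.j TT.t)) = S.t
    rw [cj_cj, hy2, cj_one_left, j_t]
  have h2 : cj (cj y (M.rep4 i)) S.t = S.j (TT.t * actA ⟨y, hy⟩ (sh4 i)) := by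
    have e2 : cj (cj y (M.rep4 i)) S.t = cj y (cj (M.rep4 i) (cj y S.t)) := by
      simp only [cj, hyi, mul_inv_rev, inv_inv, mul_assoc]
    have e3 : cj y S.t = S.j (TT.t * b0) := by
      rw [← e0, j_actA _ rfl, j_t]
    rw [e2, e3, map_mul, cj_mul, j_t, M.cj_t hiR, (M.mem_R.mp hiR).2 b0 hb0, his, ← map_mul,
      mul_assoc, ((bList_mem b0 hb0).2.2.2.1 _ hib).1, ← mul_assoc, map_mul, cj_mul, h1, map_mul,
      j_t, j_actA _ hibb]
  rw [← hsz, M.sh_of hzR h2, hf _ hibb]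
  simp only [aa, hie, cond_false]

theorem false_of (M : Survivor S) : False := by
  classical
  haveI := Fintype.ofFinite G
  have hp := M.hp
  have hg := M.hg
  -- odd conjugates of `t` in `N(R)`
  let odd : M.L → Prop := fun x => Equiv.Perm.sign (M.perm x) = -1
  let O : Finset M.L := Finset.univ.filter fun x => IsConj S.t (x : G) ∧ odd x
  have hsq : ∀ x ∈ O, (x : G) * x = 1 := fun x hx => conj_sq (Finset.mem_filter.mp hx).2.1
  have htwo : ∀ x ∈ O, (Finset.univ.filter fun i => M.perm x i = i).card = 2 := by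
    intro x hx
    have h1 : M.perm x * M.perm x = 1 := by
      rw [← map_mul, show x * x = 1 from Subtype.ext (hsq x hx), map_one]
    exact (by decide +kernel : ∀ σ : Equiv.Perm (Fin 4), σ * σ = 1 → Equiv.Perm.sign σ = -1 →
      (Finset.univ.filter fun i => σ i = i).card = 2) _ h1 (Finset.mem_filter.mp hx).2.2
  have h0 : (O.filter fun x => M.perm x 0 = 0).card = 48 := by
    have h48 : {y | IsConj S.t y ∧ ∃ h : y ∈ N1 S, sg (actA ⟨y, h⟩) = true}.ncard = 48 := by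
      have h := odd_translates hp hg (fun _ => true) (fun _ => true) (fun _ _ _ => rfl)
        (fun _ _ => rfl)
      simp only [Bool.and_true] at h
      rw [h, M.F.ncard_cnt hp hg, M.cl_eq, M.p1_eq, M.p2_eq]
      have hd : [1, 3, 5, 8, 10, 12, 23, 30].countP
          (fun i => oddF (actM false true (rp i))) = 4 := by decide +kernel
      rw [hd]
    rw [← h48, ← Set.ncard_coe_finset,
      ← Set.ncard_image_of_injective _ (Subtype.val_injective (p := fun n => n ∈ M.L))]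
    congr 1
    ext y
    simp only [Set.mem_image, Finset.coe_filter, Set.mem_ofPred_eq, O, Finset.mem_filter,
      Finset.mem_univ, true_and]
    constructor
    · rintro ⟨⟨y, hy⟩, ⟨⟨hyc, hyo⟩, hy0⟩, rfl⟩
      have hN := M.mem_N1_of_perm hy (conj_sq hyc) hy0
      exact ⟨hyc, hN, (M.sign_perm hN (conj_sq hyc)).mp hyo⟩
    · rintro ⟨hyc, hN, hs⟩
      exact ⟨⟨y, M.N1_le_L hN⟩, ⟨⟨hyc, (M.sign_perm hN (conj_sq hyc)).mpr hs⟩, M.perm_zero hN⟩,
        rfl⟩
  have hall : ∀ i, (O.filter fun x => M.perm x i = i).card = 48 := by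
    intro i
    obtain ⟨s, hs, e⟩ := M.transitive i (b := 1) (by decide)
    rw [map_one, mul_one] at e
    set s' : M.L := ⟨s, hs⟩ with hs'
    have hsi : M.perm s'⁻¹ 0 = i := by
      rw [perm_apply, Subgroup.coe_inv, inv_inv]
      show M.blk (cj s S.t) = i
      rw [e, M.blk_rep']
    rw [← h0]
    refine Finset.card_bij' (fun x _ => s' * x * s'⁻¹) (fun x _ => s'⁻¹ * x * s') ?_ ?_ ?_ ?_
    · intro x hx
      simp only [Finset.mem_filter, O, Finset.mem_univ, true_and, odd] at hx ⊢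
      obtain ⟨⟨hxc, hxo⟩, hxi⟩ := hx
      have e2 : ((s' * x * s'⁻¹ : M.L) : G) = cj ((s' : G))⁻¹ x := by simp [cj]
      refine ⟨⟨by rw [e2, isConj_cj_iff]; exact hxc, ?_⟩, ?_⟩
      · rw [map_mul, map_mul, map_mul, map_mul, map_inv, map_inv, mul_right_comm, mul_inv_cancel,
          one_mul]
        exact hxo
      · rw [map_mul, map_mul, Equiv.Perm.mul_apply, Equiv.Perm.mul_apply, hsi, hxi, ← hsi,
          ← Equiv.Perm.mul_apply, ← map_mul, mul_inv_cancel, map_one]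
        rfl
    · intro x hx
      simp only [Finset.mem_filter, O, Finset.mem_univ, true_and, odd] at hx ⊢
      obtain ⟨⟨hxc, hxo⟩, hx0⟩ := hx
      have e2 : ((s'⁻¹ * x * s' : M.L) : G) = cj (s' : G) x := by simp [cj]
      refine ⟨⟨by rw [e2, isConj_cj_iff]; exact hxc, ?_⟩, ?_⟩
      · rw [map_mul, map_mul, map_mul, map_mul, map_inv, map_inv, mul_right_comm, inv_mul_cancel,
          one_mul]
        exact hxo
      · have hs0 : M.perm s' i = 0 := by
          rw [← hsi, ← Equiv.Perm.mul_apply, ← map_mul, mul_inv_cancel, map_one]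
          rfl
        rw [map_mul, map_mul, Equiv.Perm.mul_apply, Equiv.Perm.mul_apply, hs0, hx0, hsi]
    · intro x _; group
    · intro x _; group
  have hO : O.card = 96 := by
    have h := Finset.sum_comm (s := (Finset.univ : Finset (Fin 4))) (t := O)
      (f := fun i x => if M.perm x i = i then 1 else 0)
    simp only [← Finset.card_filter] at h
    rw [Finset.sum_congr rfl (fun i _ => hall i), Finset.sum_congr rfl htwo] at h
    simp at h
    omega
  -- transfer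
  let K0 : Subgroup M.L := (Equiv.Perm.sign.comp M.perm).ker
  have hY : odd ⟨S.j TT.Y, M.N1_le_L (T_le_N1 (S.j_mem _))⟩ := by
    refine (M.sign_perm (T_le_N1 (S.j_mem _)) ?_).mpr ?_
    · rw [← map_mul, ← map_one S.j]; exact congrArg S.j (by decide)
    · rw [sg_congr (f' := fun u => TT.Y⁻¹ * u * TT.Y)
        (fun b hb => actA_eq ((bList_spec b).mp hb).2 (S.cj_j b TT.Y))]
      decide +kernel
  have h2 : K0.index = 2 := by
    rw [Subgroup.index_ker]
    have hsur : Function.Surjective (Equiv.Perm.sign.comp M.perm) := by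
      intro u
      rcases Int.units_eq_one_or u with rfl | rfl
      · exact ⟨1, map_one _⟩
      · exact ⟨_, hY⟩
    rw [MonoidHom.range_eq_top.mpr hsur, Subgroup.card_top, Nat.card_eq_fintype_card]
    rfl
  have hrel : (K0.map M.L.subtype).relIndex M.L = 2 := by
    have e : (K0.map M.L.subtype).subgroupOf M.L = K0 :=
      Subgroup.comap_map_eq_self_of_injective M.L.subtype_injective K0
    show ((K0.map M.L.subtype).subgroupOf M.L).index = 2
    rw [e, h2]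
  have h := dvd_of_index_two M.hno S.t_sq (Subgroup.map_subtype_le K0) hrel
  obtain ⟨m, ⟨k, rfl⟩, hC⟩ := S.card_C
  rw [hC, M.card_L] at h
  have e : {y : G | IsConj S.t y ∧ y ∈ M.L ∧ y ∉ K0.map M.L.subtype} = Subtype.val '' (↑O : Set M.L) := by
    ext y
    simp only [Set.mem_ofPred_eq, Set.mem_image, Finset.mem_coe, O, Finset.mem_filter,
      Finset.mem_univ, true_and, odd]
    constructor
    · rintro ⟨hy, hL, hn⟩
      refine ⟨⟨y, hL⟩, ⟨hy, ?_⟩, rfl⟩
      rcases Int.units_eq_one_or (Equiv.Perm.sign (M.perm ⟨y, hL⟩)) with h | h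
      · exact absurd ⟨⟨y, hL⟩, h, rfl⟩ hn
      · exact h
    · rintro ⟨⟨y, hL⟩, ⟨hy, ho⟩, rfl⟩
      refine ⟨hy, hL, ?_⟩
      rintro ⟨⟨w, hw⟩, hk, e⟩
      cases e
      have hk' : Equiv.Perm.sign (M.perm ⟨y, hL⟩) = 1 := hk
      have ho' : Equiv.Perm.sign (M.perm ⟨y, hL⟩) = -1 := ho
      rw [ho'] at hk'
      exact absurd hk' (by decide)
  rw [e, Set.ncard_image_of_injective _ Subtype.val_injective, Set.ncard_coe_finset, hO] at h
  omega

end Survivor

end Setup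

end CfsgLib.Z2S6
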